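import Groth.Agent.L22.LatDeg.K0
import Groth.Agent.L29.K.CohSupp
import Groth.Agent.L29.K.DevFil
import Groth.Agent.L29.DCoh.RHomCoh

/-!
Operations for the class of a coherent module.
-/

set_option autoImplicit false
set_option linter.style.haveILetI false
set_option backward.isDefEq.respectTransparency false
set_option backward.isDefEq.respectTransparency.types false

universe u

open CategoryTheory CategoryTheory.Limits AlgebraicGeometry

noncomputable section

namespace Groth.L22.LatDeg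

variable {X : Scheme.{u}} [IsLocallyNoetherian X] {δ : X → ℤ} {k : ℤ}

omit [IsLocallyNoetherian X] in
theorem mem_support {F : X.Modules} {x : X} : x ∈ CohB1.support F ↔ Nontrivial (F.presheaf.stalk x) :=
  not_subsingleton_iff_nontrivial

theorem cohLe_iso {A B : X.Modules} (e : A ≅ B) {a : ℤ} (h : Cyc.CohLe δ a A) : Cyc.CohLe δ a B :=
  ⟨Groth.L16.CohSupport.isCoh_of_iso e h.1, fun x hx =>
    h.2 x (mem_support.1 (Groth.L29.CohSupp.support_of_epi e.hom (mem_support.2 hx)))⟩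

theorem cohLe_of_isZero {Z : X.Modules} (hZ : IsZero Z) (a : ℤ) : Cyc.CohLe δ a Z :=
  ⟨Groth.L29.DC.RHomC.isCoh_of_isZero hZ, fun x hx => absurd (mem_support.2 hx)
    (by rw [Groth.L29.CohSupp.support_of_isZero hZ]; exact Set.notMem_empty x)⟩

theorem cohLe_kernel {A B : X.Modules} {a b : ℤ} (hA : Cyc.CohLe δ a A) (hB : Cyc.CohLe δ b B) (φ : A ⟶ B) :
    Cyc.CohLe δ a (kernel φ) :=
  ⟨(Groth.L16.CohKernel.isCoh_kernel_cokernel hA.1 hB.1 φ).1, fun x hx =>
    hA.2 x (mem_support.1 (Groth.L29.CohSupp.support_of_mono (kernel.ι φ) (mem_support.2 hx)))⟩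

theorem cohLe_cokernel {A B : X.Modules} {a b : ℤ} (hA : Cyc.CohLe δ a A) (hB : Cyc.CohLe δ b B) (φ : A ⟶ B) :
    Cyc.CohLe δ b (cokernel φ) :=
  ⟨(Groth.L16.CohKernel.isCoh_kernel_cokernel hA.1 hB.1 φ).2, fun x hx =>
    hB.2 x (mem_support.1 (Groth.L29.CohSupp.support_of_epi (cokernel.π φ) (mem_support.2 hx)))⟩

theorem cohLe_image {A B : X.Modules} {a b : ℤ} (hA : Cyc.CohLe δ a A) (hB : Cyc.CohLe δ b B) (φ : A ⟶ B) :
    Cyc.CohLe δ a (Abelian.image φ) :=
  ⟨haveI : Coh.IsQCoh B := hB.1.1; Groth.L16.CohSupport.isCoh_image hA.1 φ, fun x hx =>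
    hA.2 x (mem_support.1 (Groth.L29.CohSupp.support_of_epi (Abelian.factorThruImage φ) (mem_support.2 hx)))⟩

variable (hδ : Cyc.IsDimFun X δ)

theorem Λ_of_isZero {Z : X.Modules} (hZ : IsZero Z) : Λ (k := k) hδ Z = 0 :=
  Λ_of_lt hδ (cohLe_of_isZero hZ _)

theorem Λ_iso {A B : X.Modules} (e : A ≅ B) (hA : Cyc.CohLe δ (k + 1) A) : Λ (k := k) hδ A = Λ (k := k) hδ B := by
  have h := Λ_add hδ (Groth.L29.DevFil.shortExact_kernel_image e.hom)
    (cohLe_kernel hA (cohLe_iso e hA) e.hom) hA (cohLe_image hA (cohLe_iso e hA) e.hom)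
  dsimp only at h
  rw [Λ_of_isZero hδ (isZero_kernel_of_mono e.hom), zero_add] at h
  have h' := Λ_add hδ (Groth.L29.DevFil.shortExact_image_cokernel e.hom)
    (cohLe_image hA (cohLe_iso e hA) e.hom) (cohLe_iso e hA) (cohLe_cokernel hA (cohLe_iso e hA) e.hom)
  dsimp only at h'
  rw [Λ_of_isZero hδ (isZero_cokernel_of_epi e.hom), add_zero] at h'
  rw [h, h']

/-- Decomposition along a map. -/
theorem Λ_map {A B : X.Modules} (φ : A ⟶ B) (hA : Cyc.CohLe δ (k + 1) A) (hB : Cyc.CohLe δ (k + 1) B) :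
    Λ (k := k) hδ A + Λ (k := k) hδ (cokernel φ) = Λ (k := k) hδ B + Λ (k := k) hδ (kernel φ) := by
  have h := Λ_add hδ (Groth.L29.DevFil.shortExact_kernel_image φ)
    (cohLe_kernel hA hB φ) hA (cohLe_image hA hB φ)
  have h' := Λ_add hδ (Groth.L29.DevFil.shortExact_image_cokernel φ)
    (cohLe_image hA hB φ) hB (cohLe_cokernel hA hB φ)
  dsimp only at h h'
  rw [h, h']
  abel

/-- The homology of a complex of three terms. -/
theorem Λ_homology (S : ShortComplex X.Modules) (h1 : Cyc.CohLe δ (k + 1) S.X₁) (h2 : Cyc.CohLe δ (k + 1) S.X₂)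
    (h3 : Cyc.CohLe δ (k + 1) S.X₃) :
    Cyc.CohLe δ (k + 1) S.homology ∧
      Λ (k := k) hδ S.X₁ + Λ (k := k) hδ S.homology = Λ (k := k) hδ (kernel S.g) + Λ (k := k) hδ (kernel S.f) := by
  have hc : Cyc.CohLe δ (k + 1) S.cycles := cohLe_iso S.cyclesIsoKernel.symm (cohLe_kernel h2 h3 S.g)
  have hd := cohLe_cokernel h1 hc S.toCycles
  have eH : cokernel S.toCycles ≅ S.homology :=
    (cokernelIsCokernel S.toCycles).coconePointUniqueUpToIso S.homologyIsCokernel
  have eK : kernel S.toCycles ≅ kernel S.f :=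
    (kernelCompMono S.toCycles S.iCycles).symm ≪≫ eqToIso (by simp [S.toCycles_i])
  refine ⟨cohLe_iso eH hd, ?_⟩
  have h := Λ_map hδ S.toCycles h1 hc
  rw [Λ_iso hδ eH hd, Λ_iso hδ eK (cohLe_kernel h1 hc _), Λ_iso hδ S.cyclesIsoKernel hc] at h
  exact h

end Groth.L22.LatDeg
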