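import Groth.Agent.L22.LatDeg.Dev

/-!
`K₀` in dimension `k` modulo dimension `k - 1` is the group of `k`-cycles.
-/

set_option autoImplicit false
set_option linter.style.haveILetI false
set_option backward.isDefEq.respectTransparency false
set_option backward.isDefEq.respectTransparency.types false

universe u

open CategoryTheory CategoryTheory.Limits AlgebraicGeometry ZeroObject

noncomputable section

namespace Groth.L22.LatDeg

variable {X : Scheme.{u}} [IsLocallyNoetherian X] {δ : X → ℤ} (hδ : Cyc.IsDimFun X δ) {k : ℤ}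

theorem cohLe_biprod {a : ℤ} {A B : X.Modules} (hA : Cyc.CohLe δ a A) (hB : Cyc.CohLe δ a B) :
    Cyc.CohLe δ a (A ⊞ B) :=
  ⟨Groth.L16.Devissage.isCoh_biprod hA.1 hB.1, fun x hx => by
    rcases (Groth.L21.Mod.support_of_shortExact
      (ShortComplex.Splitting.ofHasBinaryBiproduct A B).shortExact).subset (mem_support.2 hx) with h | h
    · exact hA.2 x (mem_support.1 h)
    · exact hB.2 x (mem_support.1 h)⟩

theorem toK0_biprod {a b : ℤ} {A B : X.Modules} (hA : Cyc.CohLe δ a A) (hB : Cyc.CohLe δ a B) :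
    Cyc.toK0CohQuot δ a b (A ⊞ B) = Cyc.toK0CohQuot δ a b A + Cyc.toK0CohQuot δ a b B :=
  toK0_add (ShortComplex.Splitting.ofHasBinaryBiproduct A B).shortExact hA (cohLe_biprod hA hB) hB

/-- Every element is the difference of two classes. -/
theorem exists_eq_sub {a b : ℤ} (q : Cyc.K0CohQuot δ a b) :
    ∃ F G : X.Modules, Cyc.CohLe δ a F ∧ Cyc.CohLe δ a G ∧
      q = Cyc.toK0CohQuot δ a b F - Cyc.toK0CohQuot δ a b G := by
  obtain ⟨q, rfl⟩ := QuotientAddGroup.mk_surjective q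
  obtain ⟨q, rfl⟩ := QuotientAddGroup.mk_surjective q
  have hz : Cyc.CohLe δ a (0 : X.Modules) := cohLe_of_isZero (isZero_zero _) a
  induction q using FreeAbelianGroup.induction_on with
  | zero => exact ⟨0, 0, hz, hz, by rw [sub_self]; rfl⟩
  | of F =>
    refine ⟨F.1, 0, F.2, hz, ?_⟩
    rw [toK0_eq_zero (cohLe_of_isZero (isZero_zero _) b), sub_zero, Cyc.toK0CohQuot, KZero.clSub, dif_pos F.2]
  | neg F _ =>
    refine ⟨0, F.1, hz, F.2, ?_⟩
    rw [toK0_eq_zero (cohLe_of_isZero (isZero_zero _) b), zero_sub, Cyc.toK0CohQuot, KZero.clSub, dif_pos F.2]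
    rfl
  | add p q hp hq =>
    obtain ⟨F, G, hF, hG, e⟩ := hp
    obtain ⟨F', G', hF', hG', e'⟩ := hq
    refine ⟨F ⊞ F', G ⊞ G', cohLe_biprod hF hF', cohLe_biprod hG hG', ?_⟩
    rw [toK0_biprod hF hF', toK0_biprod hG hG']
    rw [QuotientAddGroup.mk_add, QuotientAddGroup.mk_add, e, e']
    abel

include hδ in
theorem Φ_injective : Function.Injective (Φ hδ k) := by
  rw [injective_iff_map_eq_zero]
  intro q hq
  obtain ⟨F, G, hF, hG, rfl⟩ := exists_eq_sub q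
  rw [map_sub, Φ_cl hδ hF, Φ_cl hδ hG, sub_eq_zero] at hq
  obtain ⟨α, hα⟩ := P1Rat.exists_cycle_sheafFun hδ hF.1 k hF.2
  rw [toK0_eq_cycleSheaf hδ hF α hα, toK0_eq_cycleSheaf hδ hG α (hα.trans hq), sub_self]

include hδ in
theorem range_Φ : Set.range (Φ hδ k) = {a | ∃ α : AlgebraicCycle X ℤ, α ∈ Cyc.Zk X δ k ∧ ⇑α = a} := by
  refine Set.Subset.antisymm ?_ ?_
  · rintro _ ⟨q, rfl⟩
    obtain ⟨F, G, hF, hG, rfl⟩ := exists_eq_sub q
    obtain ⟨α, hα⟩ := P1Rat.exists_cycle_sheafFun hδ hF.1 k hF.2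
    obtain ⟨β, hβ⟩ := P1Rat.exists_cycle_sheafFun hδ hG.1 k hG.2
    refine ⟨α - β, fun x hx => ?_, ?_⟩
    · show α x - β x = 0
      rw [hα, hβ, Cyc.sheafFun, Cyc.sheafFun, if_neg hx, if_neg hx, sub_zero]
    · rw [map_sub, Φ_cl hδ hF, Φ_cl hδ hG, ← hα, ← hβ]
      rfl
  · rintro _ ⟨α, hα, rfl⟩
    obtain ⟨hp, ep⟩ := cycleSheafPos_spec hδ α hα
    obtain ⟨hn, en⟩ := cycleSheafNeg_spec hδ α hα
    refine ⟨Cyc.toK0CohQuot δ k (k - 1) (Cyc.cycleSheafPos ⇑α) -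
      Cyc.toK0CohQuot δ k (k - 1) (Cyc.cycleSheafNeg ⇑α), ?_⟩
    rw [map_sub, Φ_cl hδ hp, Φ_cl hδ hn, ep, en]
    funext x
    simp only [Pi.sub_apply]
    omega

end Groth.L22.LatDeg
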