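import Groth.Agent.L22.LatDeg.TwistK0
import Groth.Agent.L22.Inter.Mixed
import Groth.Agent.L22.Inter.Fga
import Groth.Agent.L22.Big.Support
import Groth.Agent.L22.EnrSev.Basic
import Groth.Agent.L21.Disc.SuppLength
import Groth.Agent.L07.DimToolkit
import Groth.Agent.L06.EquidimFlatBC
import Groth.Agent.L22.Bundle.RatAux
import Groth.Agent.L22.C1.PullCap
import Groth.Agent.S1899
import Groth.Prelude.Def_ChowOps
import Groth.Prelude.Def_FGA

/-!
Intersection numbers as degrees of iterated first Chern class caps.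
-/

set_option autoImplicit false
set_option linter.style.haveILetI false
set_option backward.isDefEq.respectTransparency false
set_option backward.isDefEq.respectTransparency.types false

universe u

open CategoryTheory CategoryTheory.Limits AlgebraicGeometry TopologicalSpace Topology
open Groth.L22.Inter (altT)
open Groth.L16.CohSupport (len)

noncomputable section

namespace Groth.L22.LatDeg

variable {k : Type u} [Field k] {X : Scheme.{u}} [X.Over (Spec (CommRingCat.of k))]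

theorem dim_closure_eq_delta [LocallyOfFiniteType (X ↘ Spec (CommRingCat.of k))] {δ : X → ℤ}
    (hδ : Cyc.DeltaCompat (X ↘ Spec (CommRingCat.of k)) δ (fun _ => 0)) (x : X) :
    ∃ n : ℕ, topologicalKrullDim (closure ({x} : Set X)) = (n : WithBot ℕ∞) ∧ δ x = n := by
  obtain ⟨n, hn, hx⟩ := hδ x
  obtain ⟨m, hm, hm'⟩ := Groth.L07.DimToolkit.exists_fdim_rtrdeg (X ↘ Spec (CommRingCat.of k)) x
  have h : (m : Cardinal.{u}) = n := hm'.symm.trans hn
  refine ⟨m, (Groth.L06.EquidimFlatBC.dim_closure_eq _ x).trans hm, ?_⟩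
  rw [hx, zero_add, show m = n by exact_mod_cast h]

theorem dim_le_of_delta_le [LocallyOfFiniteType (X ↘ Spec (CommRingCat.of k))] {δ : X → ℤ}
    (hδ : Cyc.DeltaCompat (X ↘ Spec (CommRingCat.of k)) δ (fun _ => 0)) {T : Set X} (hT : IsClosed T) (r : ℕ)
    (h : ∀ x ∈ T, δ x ≤ r) : topologicalKrullDim T ≤ (r : WithBot ℕ∞) := by
  haveI : QuasiSober T := hT.isClosedEmbedding_subtypeVal.quasiSober
  refine Groth.L07.EquidimQF.dim_le_of_dim_closure_le fun a => ?_
  obtain ⟨n, hn, hn'⟩ := dim_closure_eq_delta hδ a.1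
  refine (Groth.L07.EquidimQF.dim_closure_le (α := T) (β := X) (fun b : T => b.1) continuous_subtype_val
    (fun b c _ e => Subtype.ext e) a).trans ?_
  rw [hn]
  have := h a.1 a.2
  exact_mod_cast (show n ≤ r by omega)

variable [IsProper (X ↘ Spec (CommRingCat.of k))]

theorem dim_support_le [IsLocallyNoetherian X] {δ : X → ℤ}
    (hδ : Cyc.DeltaCompat (X ↘ Spec (CommRingCat.of k)) δ (fun _ => 0)) {F : X.Modules} (r : ℕ)
    (hF : Cyc.CohLe δ r F) : topologicalKrullDim (CohB1.support F) ≤ (r : WithBot ℕ∞) :=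
  dim_le_of_delta_le hδ (Groth.L16.CohSupport.isClosed_support F hF.1.2) r fun x hx =>
    hF.2 x (mem_support.1 hx)

theorem eulerCharLE_eq_of_support {G : X.Modules} (hG : Coh.IsCoh G) {d : ℕ}
    (hd : topologicalKrullDim (CohB1.support G) ≤ d) :
    FGA.eulerCharLE k X G d = Curv2.euler k X G :=
  (Groth.L03.Euler.euler_eq_sum (k := k) (N := d + 1) fun n hn =>
    Groth.L22.Big.subsingleton_HH_of_support k hG hd (Nat.lt_of_succ_le hn)).symm

/-- The intersection number of a module with small support. -/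
theorem intNum_eq_altT {d : ℕ} {M : Fin d → X.Modules} (hM : ∀ i, PicF.IsInvertible (M i)) {F : X.Modules}
    (hF : Coh.IsCoh F) (hd : topologicalKrullDim (CohB1.support F) ≤ d) :
    (FGA.intNum k X d M F : ℚ) = (-1) ^ d * altT k M F := by
  classical
  haveI := Groth.L21.RR.isNoetherian_of_proper (X := X) k
  let ind : Finset (Fin d) → Fin d → Fin 2 := fun I i => if i ∈ I then 1 else 0
  have hbij : Function.Bijective ind := by
    refine ⟨fun I J h => Finset.ext fun i => ?_, fun v => ⟨Finset.univ.filter fun i => v i = 1, ?_⟩⟩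
    · have := congrFun h i
      simp only [ind] at this
      split_ifs at this with h1 h2 <;> simp_all
    · funext i
      simp only [ind, Finset.mem_filter, Finset.mem_univ, true_and]
      split_ifs with h <;> omega
  rw [FGA.intNum, altT, Groth.L22.Inter.alt_apply, Finset.mul_sum, ← hbij.sum_comp]
  push_cast
  refine Finset.sum_congr rfl fun I _ => ?_
  obtain ⟨e1⟩ := Groth.L22.Inter.nonempty_tensorList_map M (I.sort (· ≤ ·))
  obtain ⟨e2⟩ := Groth.L22.Inter.nonempty_tensorList M (fun _ => 1) (I.sort (· ≤ ·)) (Finset.sort_nodup _ _)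
  let n : Fin d → ℕ := fun i => (ind I i : ℕ)
  have hn : (fun i => if i ∈ I.sort (· ≤ ·) then (1 : ℕ) else 0) = n := by
    funext i
    simp only [n, ind, Finset.mem_sort]
    split_ifs <;> rfl
  let e : CohB1.tensorMod (FGA.tensorList ((I.sort (· ≤ ·)).map M)) F ≅
      CohB1.tensorMod F (Curv2.tensorPows (Coh.structureModule X) d M n) :=
    Groth.L00.Tensor.tensorComm _ _ ≪≫ Groth.L00.Tensor.tensorIso (Iso.refl F) (e1 ≪≫ e2 ≪≫ eqToIso (by rw [hn]))
  have hinv := Groth.L03.Euler.isInvertible_tensorPows hM n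
  have hcoh : Coh.IsCoh (CohB1.tensorMod F (Curv2.tensorPows (Coh.structureModule X) d M n)) :=
    Groth.L03.Euler.isCoh_tensor hinv hF
  rw [eulerCharLE_eq_of_support (Groth.L16.CohSupport.isCoh_of_iso e.symm hcoh) (by
    rw [Groth.L17.KilledUnit.support_congr e, Groth.L03.Euler.support_tensor hinv F]
    exact hd)]
  have hsgn : ((-1 : ℚ) ^ d * Groth.L22.Inter.sgn (ind I)) = (-1) ^ I.card := by
    have h : Groth.L22.Inter.sgn (ind I) = ∏ i, (if i ∈ I then (1 : ℚ) else -1) := by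
      refine Finset.prod_congr rfl fun i _ => ?_
      simp only [ind]
      split_ifs with h1 h2 <;> simp_all
    have hd' : (-1 : ℚ) ^ d = ∏ _i : Fin d, (-1 : ℚ) := by simp
    rw [h, hd', ← Finset.prod_mul_distrib,
      show (-1 : ℚ) ^ I.card = ∏ i : Fin d, (if i ∈ I then (-1 : ℚ) else 1) by
        rw [Finset.prod_ite_mem, Finset.univ_inter, Finset.prod_const]]
    refine Finset.prod_congr rfl fun i _ => ?_
    split_ifs <;> norm_num
  rw [← mul_assoc, hsgn]
  congr 1
  exact congrArg (Int.cast : ℤ → ℚ) (Groth.L03.Euler.euler_iso e)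

section Hom

variable [IsLocallyNoetherian X] {δ : X → ℤ}

variable (k δ) in
/-- The additive function of an `altT`. -/
def altHom (hδ : Cyc.DeltaCompat (X ↘ Spec (CommRingCat.of k)) δ (fun _ => 0)) (a : ℤ) {r : ℕ}
    (M : Fin r → X.Modules) (hM : ∀ i, PicF.IsInvertible (M i)) (b : ℤ) (hb : b + 1 ≤ r) :
    Cyc.K0CohQuot δ a b →+ ℚ :=
  QuotientAddGroup.lift _
    (QuotientAddGroup.lift _ (FreeAbelianGroup.lift fun F => altT k M F.1) (by
      rw [KZero.relSub, AddSubgroup.closure_le]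
      rintro _ ⟨S, h1, h2, h3, hS, rfl⟩
      rw [SetLike.mem_coe, AddMonoidHom.mem_ker, map_sub, map_sub, FreeAbelianGroup.lift_apply_of,
        FreeAbelianGroup.lift_apply_of, FreeAbelianGroup.lift_apply_of]
      show altT k M S.X₂ - altT k M S.X₁ - altT k M S.X₃ = 0
      rw [altT, altT, altT, Groth.L03.Euler.twEuler_add k hM hS h1.1 h2.1 h3.1, map_add]
      ring)) (by
    rw [AddSubgroup.closure_le]
    rintro _ ⟨F, hF, rfl⟩
    rw [SetLike.mem_coe, AddMonoidHom.mem_ker, KZero.clSub]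
    split_ifs with ha
    · refine (FreeAbelianGroup.lift_apply_of (fun F : Subtype (Cyc.CohLe δ a) => altT k M F.1) ⟨F, ha⟩).trans ?_
      show altT k M F = 0
      rcases r with _ | r
      · have hz : IsZero F := by
          rw [Groth.L21.Mod.isZero_iff_support_eq_empty]
          refine Set.eq_empty_of_forall_notMem fun x hx => ?_
          obtain ⟨n, -, hn⟩ := dim_closure_eq_delta hδ x
          have := hF.2 x (mem_support.1 hx)
          omega
        refine Groth.L22.Inter.altT_eq_zero k hM hF.1 ?_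
        rw [(Groth.L21.Mod.isZero_iff_support_eq_empty F).1 hz]
        haveI : IsEmpty (IrreducibleCloseds (∅ : Set X)) := ⟨fun z => by
          obtain ⟨x, -⟩ := z.2.nonempty
          exact x.2⟩
        rw [topologicalKrullDim, Order.krullDim_eq_bot]
        simp
      · refine Groth.L22.Inter.altT_eq_zero k hM hF.1 ?_
        have h1 := dim_support_le hδ (F := F) r (cohLe_mono (by omega) hF)
        calc topologicalKrullDim (CohB1.support F) + 1 ≤ (r : WithBot ℕ∞) + 1 := add_le_add_left h1 1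
          _ = ((r + 1 : ℕ) : WithBot ℕ∞) := by push_cast; rfl
    · exact map_zero _)

theorem altHom_cl (hδ : Cyc.DeltaCompat (X ↘ Spec (CommRingCat.of k)) δ (fun _ => 0)) {a : ℤ} {r : ℕ}
    {M : Fin r → X.Modules} (hM : ∀ i, PicF.IsInvertible (M i)) {b : ℤ} (hb : b + 1 ≤ r) {F : X.Modules}
    (hF : Cyc.CohLe δ a F) : altHom k δ hδ a M hM b hb (Cyc.toK0CohQuot δ a b F) = altT k M F := by
  rw [Cyc.toK0CohQuot, KZero.clSub, dif_pos hF]
  exact FreeAbelianGroup.lift_apply_of (fun F : Subtype (Cyc.CohLe δ a) => altT k M F.1) ⟨F, hF⟩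

/-- The Euler characteristic in dimension zero. -/
theorem euler_eq_sum_residueDegree (hδ : Cyc.DeltaCompat (X ↘ Spec (CommRingCat.of k)) δ (fun _ => 0))
    {F : X.Modules} (hF : Cyc.CohLe δ 0 F) :
    Curv2.euler k X F = ∑ᶠ x : X, ((X ↘ Spec (CommRingCat.of k)).residueDegree x : ℤ) * Cyc.sheafFun δ 0 F x := by
  classical
  haveI := Groth.L21.RR.isNoetherian_of_proper (X := X) k
  have hdim := dim_support_le hδ 0 (by exact_mod_cast hF)
  have hs : Groth.L21.RR.SuppClosed F := Groth.L22.CurveDeg.suppClosed_of_dim hF.1 (by exact_mod_cast hdim)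
  have hfin : (CohB1.support F).Finite := by
    refine (Groth.L22.Inter.finite_top (Groth.L16.CohSupport.isClosed_support F hF.1.2) hdim).subset
      fun x hx => ⟨hx, ?_⟩
    obtain ⟨n, hn, hn'⟩ := dim_closure_eq_delta hδ x
    have := hF.2 x (mem_support.1 hx)
    rw [hn, show n = 0 by omega]
  have hclosed : ∀ x ∈ hfin.toFinset, IsClosed ({x} : Set X) := fun x hx => by
    by_contra h
    exact (hfin.mem_toFinset.1 hx) (hs x h)
  rw [Groth.L21.RR.euler_eq_h0_of_suppClosed k hs, Groth.L21.Disc.h0_eq_sum_length k hF.1 hfin.toFinset hclosed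
    (fun x hx => not_not.1 fun h => hx (hfin.mem_toFinset.2 h)),
    finsum_eq_sum_of_support_subset (s := hfin.toFinset) _ fun x hx => ?_]
  · push_cast
    refine Finset.sum_congr rfl fun x hx => ?_
    obtain ⟨n, hn, hn'⟩ := dim_closure_eq_delta hδ x
    have h0 : δ x = 0 := by
      have := hF.2 x (mem_support.1 (hfin.mem_toFinset.1 hx))
      omega
    rw [Cyc.sheafFun, if_pos h0, ← Groth.L22.Cyc.finrank_residueField_eq k (X ↘ Spec (CommRingCat.of k)) x,
      mul_comm]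
    rfl
  · rw [Function.mem_support] at hx
    exact Finset.mem_coe.2 (hfin.mem_toFinset.2
      (mem_support.2 (IntMult.sheafFun_ne_zero (right_ne_zero_of_mul hx)).2))

theorem deg_eq_finsum (hδ : Cyc.DeltaCompat (X ↘ Spec (CommRingCat.of k)) δ (fun _ => 0))
    (α : AlgebraicCycle X ℤ) (hα : α ∈ Cyc.Zk X δ 0) :
    ChowOps.deg (X ↘ Spec (CommRingCat.of k)) δ α =
      ∑ᶠ x : X, ((X ↘ Spec (CommRingCat.of k)).residueDegree x : ℤ) * α x := by
  show ∑ᶠ x ∈ (X ↘ Spec (CommRingCat.of k)) ⁻¹' {IsLocalRing.closedPoint k}, α x * _ = _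
  rw [show (X ↘ Spec (CommRingCat.of k)) ⁻¹' {IsLocalRing.closedPoint k} = Set.univ from
    Set.eq_univ_of_forall fun x => Subsingleton.elim (α := PrimeSpectrum k) _ _, finsum_mem_univ]
  refine finsum_congr fun x => ?_
  by_cases h : δ x = 0
  · show α x * (((if δ x = 0 then (X ↘ Spec (CommRingCat.of k)).residueDegree x else 0 : ℕ)) : ℤ) = _
    rw [if_pos h, mul_comm]
  · rw [hα x h, zero_mul, mul_zero]

variable (hd' : Cyc.IsDimFun X δ) (hδ : Cyc.DeltaCompat (X ↘ Spec (CommRingCat.of k)) δ (fun _ => 0))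

variable (k) in
/-- The value of the alternating sum on the sheaves of a cycle. -/
def altCyc {r : ℕ} (M : Fin r → X.Modules) (α : X → ℤ) : ℚ :=
  altT k M (Cyc.cycleSheafPos α) - altT k M (Cyc.cycleSheafNeg α)

include hd' hδ in
theorem main : ∀ (r : ℕ) (L M : Fin r → X.Modules), (∀ i, PicF.IsInvertible (L i)) →
    (∀ i, PicF.IsInvertible (M i)) →
    (∀ i, Nonempty (CohB1.tensorMod (M i) (L i) ≅ Coh.structureModule X)) →
    ∀ (s : (i : Fin r) → (ξ : X) → Cyc.secFibre (L i) ξ), (∀ i ξ, s i ξ ≠ 0) →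
    ∀ (α : AlgebraicCycle X ℤ), α ∈ Cyc.Zk X δ r → ∀ (γ : ℕ → X → ℤ), γ 0 = ⇑α →
    (∀ (i : ℕ) (h : i < r), γ (i + 1) = Cyc.c1CapFun δ (L ⟨i, h⟩) (γ i) (s ⟨i, h⟩)) →
    ∀ β : AlgebraicCycle X ℤ, ⇑β = γ r →
      (-1) ^ r * altCyc k M ⇑α = (ChowOps.deg (X ↘ Spec (CommRingCat.of k)) δ β : ℚ) := by
  intro r
  induction r with
  | zero =>
    intro L M _ _ _ s _ α hα γ hγ0 _ β hβ
    obtain rfl : β = α := by
      ext x
      rw [hβ, hγ0]
    obtain ⟨hp, ep⟩ := cycleSheafPos_spec hd' β (by exact_mod_cast hα)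
    obtain ⟨hn, en⟩ := cycleSheafNeg_spec hd' β (by exact_mod_cast hα)
    rw [pow_zero, one_mul, altCyc, Groth.L22.Inter.altT_zero_eq, Groth.L22.Inter.altT_zero_eq,
      deg_eq_finsum hδ β (by exact_mod_cast hα), ← Int.cast_sub,
      euler_eq_sum_residueDegree hδ hp, euler_eq_sum_residueDegree hδ hn, ep, en]
    haveI := Groth.L21.RR.isNoetherian_of_proper (X := X) k
    have hs : (Function.support ⇑β).Finite := by
      have := β.locallyFiniteSupport.finite_inter_support_of_isCompact (isCompact_univ (X := X))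
      rwa [Set.univ_inter] at this
    have key : ∀ g : ℤ → ℤ, g 0 = 0 →
        ∑ᶠ x : X, ((X ↘ Spec (CommRingCat.of k)).residueDegree x : ℤ) * g (β x) =
          ∑ x ∈ hs.toFinset, ((X ↘ Spec (CommRingCat.of k)).residueDegree x : ℤ) * g (β x) := fun g hg =>
      finsum_eq_sum_of_support_subset _ fun x hx => Finset.mem_coe.2 (hs.mem_toFinset.2 fun h => hx (by
        show _ * g (β x) = 0
        rw [h, hg, mul_zero]))
    rw [key (fun z => max z 0) rfl, key (fun z => max (-z) 0) rfl, key (fun z => z) rfl,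
      ← Finset.sum_sub_distrib]
    refine congrArg (Int.cast : ℤ → ℚ) (Finset.sum_congr rfl fun x _ => ?_)
    rw [← mul_sub]
    congr 1
    omega
  | succ r ih =>
    intro L M hL hM hLM s hs α hα γ hγ0 hγ β hβ
    let L' : Fin r → X.Modules := fun i => L i.succ
    let M' : Fin r → X.Modules := fun i => M i.succ
    have hα' : α ∈ Cyc.Zk X δ ((r : ℤ) + 1) := by exact_mod_cast hα
    obtain ⟨cp, ep⟩ := cycleSheafPos_spec hd' α hα'
    obtain ⟨cn, en⟩ := cycleSheafNeg_spec hd' α hα'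
    obtain ⟨i0⟩ := hLM 0
    let h := altHom k δ hδ ((r : ℤ) + 1) M' (fun i => hM _) ((r : ℤ) - 1) (by omega)
    have hcl : ∀ {F : X.Modules}, Cyc.CohLe δ ((r : ℤ) + 1) F →
        h (Cyc.toK0CohQuot δ ((r : ℤ) + 1) ((r : ℤ) - 1) F) = altT k M' F := fun hF =>
      altHom_cl hδ (M := M') (fun i => hM _) _ hF
    have step : ∀ {F : X.Modules}, Cyc.CohLe δ ((r : ℤ) + 1) F → ∀ b : AlgebraicCycle X ℤ,
        b ∈ Cyc.Zk X δ r → ⇑b = Cyc.c1CapFun δ (L 0) (Cyc.sheafFun δ ((r : ℤ) + 1) F) (s 0) →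
        altT k M F = -altCyc k M' ⇑b := by
      intro F hF b hb hbv
      let G := CohB1.tensorMod F (M 0)
      have hG := cohLe_tensor (hM 0) hF
      let e : CohB1.tensorMod G (L 0) ≅ F :=
        Groth.L00.Tensor.tensorAssoc _ _ _ ≪≫ Groth.L00.Tensor.tensorIso (Iso.refl F) i0 ≪≫
          Groth.L00.Tensor.tensorUnitRight F
      have hfun : Cyc.sheafFun δ ((r : ℤ) + 1) G = Cyc.sheafFun δ ((r : ℤ) + 1) F := funext fun x => by
        simp only [Cyc.sheafFun]
        split_ifs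
        · rw [show Module.length (X.presheaf.stalk x) (G.presheaf.stalk x) =
            Module.length (X.presheaf.stalk x) (F.presheaf.stalk x) from Groth.L03.Euler.len_tensor (hM 0) F x]
        · rfl
      have hK := toK0_tensor_sub hd' (hL 0) hG (s 0) (hs 0) b hb (by rw [hbv, hfun])
      rw [toK0_iso e (cohLe_tensor (hL 0) hG)] at hK
      obtain ⟨bp, -⟩ := cycleSheafPos_spec hd' b hb
      obtain ⟨bn, -⟩ := cycleSheafNeg_spec hd' b hb
      have hh := congrArg h hK
      rw [map_sub, map_sub, hcl hF, hcl hG, hcl (cohLe_mono (a := (r : ℤ)) (b := (r : ℤ) + 1) (by omega) bp),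
        hcl (cohLe_mono (a := (r : ℤ)) (b := (r : ℤ) + 1) (by omega) bn)] at hh
      rw [Groth.L22.Inter.altT_succ, altCyc]
      simp only [M', G] at hh ⊢
      linarith
    obtain ⟨α₁, hα₁⟩ := P1Rat.exists_cycle_sheafFun hd' cp.1 ((r : ℤ) + 1) cp.2
    obtain ⟨α₂, hα₂⟩ := P1Rat.exists_cycle_sheafFun hd' cn.1 ((r : ℤ) + 1) cn.2
    obtain ⟨b₁, hb₁⟩ := C1.exists_cycle_c1Cap hd' (hL 0) α₁ (s 0) (hs 0)
    obtain ⟨b₂, hb₂⟩ := C1.exists_cycle_c1Cap hd' (hL 0) α₂ (s 0) (hs 0)
    obtain ⟨b, hb⟩ := C1.exists_cycle_c1Cap hd' (hL 0) α (s 0) (hs 0)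
    have hbk : ∀ (a c : AlgebraicCycle X ℤ), a ∈ Cyc.Zk X δ ((r : ℤ) + 1) →
        ⇑c = Cyc.c1CapFun δ (L 0) ⇑a (s 0) → c ∈ Cyc.Zk X δ r := fun a c ha hc x hx => by
      rw [hc]
      refine finsum_eq_zero_of_forall_eq_zero fun ξ => ?_
      by_contra h0
      obtain ⟨h1, h2⟩ := mul_ne_zero_iff.1 h0
      have h3 := (C1.secDivFun_ne_zero δ h2).2
      have h4 : δ ξ = (r : ℤ) + 1 := by
        by_contra hne
        exact h1 (ha ξ hne)
      omega
    have hsk : ∀ {F : X.Modules} (a : AlgebraicCycle X ℤ), ⇑a = Cyc.sheafFun δ ((r : ℤ) + 1) F →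
        a ∈ Cyc.Zk X δ ((r : ℤ) + 1) := fun a ha x hx => by rw [ha, Cyc.sheafFun, if_neg hx]
    have hbsum : ∀ x, b x = b₁ x - b₂ x := fun x => by
      rw [hb, hb₁, hb₂]
      refine C1.c1CapFun_sub α₁ α₂ α (fun y => ?_) (s 0) x
      rw [hα₁, hα₂, ep, en]
      simp only []
      omega
    have k1 := hbk α₁ b₁ (hsk α₁ hα₁) hb₁
    have k2 := hbk α₂ b₂ (hsk α₂ hα₂) hb₂
    have k0 := hbk α b hα' hb
    have h1 := step cp b₁ k1 (by rw [hb₁, hα₁])
    have h2 := step cn b₂ k2 (by rw [hb₂, hα₂])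
    have hlin : altCyc k M' ⇑b₁ - altCyc k M' ⇑b₂ = altCyc k M' ⇑b := by
      obtain ⟨p0, e0⟩ := cycleSheafPos_spec hd' b k0
      obtain ⟨n0, f0⟩ := cycleSheafNeg_spec hd' b k0
      obtain ⟨p1, e1⟩ := cycleSheafPos_spec hd' b₁ k1
      obtain ⟨n1, f1⟩ := cycleSheafNeg_spec hd' b₁ k1
      obtain ⟨p2, e2⟩ := cycleSheafPos_spec hd' b₂ k2
      obtain ⟨n2, f2⟩ := cycleSheafNeg_spec hd' b₂ k2
      have e := toK0_sub_eq hd' (cohLe_biprod p1 n2) (cohLe_biprod n1 p2) p0 n0 (by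
        rw [← Φ_cl hd' (cohLe_biprod p1 n2), ← Φ_cl hd' (cohLe_biprod n1 p2), toK0_biprod p1 n2,
          toK0_biprod n1 p2, map_add, map_add, Φ_cl hd' p1, Φ_cl hd' n2, Φ_cl hd' n1, Φ_cl hd' p2,
          e0, f0, e1, f1, e2, f2]
        funext x
        simp only [Pi.sub_apply, Pi.add_apply, hbsum x]
        omega)
      have up : ∀ {F : X.Modules}, Cyc.CohLe δ (r : ℤ) F → Cyc.CohLe δ ((r : ℤ) + 1) F := fun hF =>
        cohLe_mono (by omega) hF
      rw [toK0_biprod (up p1) (up n2), toK0_biprod (up n1) (up p2)] at e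
      have hh := congrArg h e
      rw [map_sub, map_sub, map_add, map_add, hcl (up p1), hcl (up n2), hcl (up n1), hcl (up p2), hcl (up p0),
        hcl (up n0)] at hh
      simp only [altCyc, M'] at hh ⊢
      linarith
    have hih := ih L' M' (fun i => hL _) (fun i => hM _) (fun i => hLM _) (fun i => s i.succ) (fun i => hs _)
      b k0 (fun i => γ (i + 1)) (by
        rw [hb, ← hγ0]
        exact hγ 0 (Nat.succ_pos r))
      (fun i hi => hγ (i + 1) (Nat.succ_lt_succ hi)) β hβ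
    rw [← hih, altCyc, h1, h2, ← hlin, pow_succ]
    ring

include hd' hδ in
theorem intNum_eq_deg {Z : Scheme.{u}} (ι : Z ⟶ X) [IsClosedImmersion ι] (hX : Cyc.IsSetup X δ) (d : ℕ)
    (hd : topologicalKrullDim Z ≤ (d : WithBot ℕ∞)) (L M : Fin d → X.Modules) (hL : ∀ i, PicF.IsInvertible (L i))
    (hM : ∀ i, Nonempty (CohB1.tensorMod (M i) (L i) ≅ Coh.structureModule X))
    (s : (i : Fin d) → (ξ : X) → Cyc.secFibre (L i) ξ) (hs : ∀ i ξ, s i ξ ≠ 0) (γ : ℕ → X → ℤ)
    (hγ0 : γ 0 = Cyc.subschemeFun δ d ι)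
    (hγs : ∀ (i : ℕ) (h : i < d), γ (i + 1) = Cyc.c1CapFun δ (L ⟨i, h⟩) (γ i) (s ⟨i, h⟩))
    (α : AlgebraicCycle X ℤ) (hα : ⇑α = γ d) :
    FGA.intNum k X d M ((Coh.push ι).obj (Coh.structureModule Z)) =
      ChowOps.deg (X ↘ Spec (CommRingCat.of k)) δ α := by
  have hMi : ∀ i, PicF.IsInvertible (M i) := fun i => by
    obtain ⟨e⟩ := hM i
    exact Groth.L22.EnrSev.isInvertible_of_inverse (hL i) (Groth.L00.Tensor.tensorComm _ _ ≪≫ e)
  have hz : ∀ z : Z, δ (ι z) ≤ d := fun z => by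
    obtain ⟨n, hn, hn'⟩ := dim_closure_eq_delta hδ (ι z)
    have h1 : topologicalKrullDim (closure ({ι z} : Set X)) ≤ (d : WithBot ℕ∞) := by
      have hsub : closure ({ι z} : Set X) ⊆ Set.range ι :=
        closure_minimal (Set.singleton_subset_iff.2 ⟨z, rfl⟩) ι.isClosedEmbedding.isClosed_range
      refine (Groth.L03.Euler.topologicalKrullDim_set_mono hsub).trans ?_
      exact (IsHomeomorph.topologicalKrullDim_eq _
        ι.isClosedEmbedding.isEmbedding.toHomeomorph.isHomeomorph).symm.trans_le hd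
    rw [hn] at h1
    have h2 : n ≤ d := by exact_mod_cast h1
    omega
  haveI : IsLocallyNoetherian Z := LocallyOfFiniteType.isLocallyNoetherian ι
  let F := (Coh.push ι).obj (Coh.structureModule Z)
  have hF : Cyc.CohLe δ (d : ℤ) F :=
    ⟨Groth.L16.CohClosedPush.isCoh_push ι Groth.L16.CohClosedPush.isCoh_structure, fun x hx => by
      obtain ⟨z, rfl⟩ := Groth.L16.CohClosedPush.support_push_subset (i := ι) _ (mem_support.2 hx)
      exact hz z⟩
  obtain ⟨α₀, hα₀⟩ := P1Rat.exists_cycle_sheafFun hd' hF.1 d hF.2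
  have hk : α₀ ∈ Cyc.Zk X δ (d : ℤ) := fun x hx => by rw [hα₀, Cyc.sheafFun, if_neg hx]
  have hmain := main hd' hδ d L M hL hMi hM s hs α₀ hk γ
    (by rw [hγ0, hα₀]; exact Groth.Agent.S1899.result X Z δ hX ι d hz) hγs α hα
  obtain ⟨cp, -⟩ := cycleSheafPos_spec hd' α₀ hk
  obtain ⟨cn, en⟩ := cycleSheafNeg_spec hd' α₀ hk
  have hb : ((d : ℤ) - 1) + 1 ≤ (d : ℕ) := by omega
  have h1 := congrArg (altHom k δ hδ (d : ℤ) M hMi ((d : ℤ) - 1) hb) (toK0_eq_cycleSheaf hd' hF α₀ hα₀)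
  rw [altHom_cl hδ hMi hb hF, altHom_cl hδ hMi hb cp] at h1
  have h2 : Cyc.toK0CohQuot δ (d : ℤ) ((d : ℤ) - 1) (Cyc.cycleSheafNeg ⇑α₀) = 0 := by
    apply Φ_injective hd'
    rw [Φ_cl hd' cn, en, map_zero]
    funext x
    have : 0 ≤ α₀ x := by
      rw [hα₀]
      unfold Cyc.sheafFun
      split_ifs <;> simp
    show max (-α₀ x) 0 = 0
    omega
  have h3 := congrArg (altHom k δ hδ (d : ℤ) M hMi ((d : ℤ) - 1) hb) h2
  rw [altHom_cl hδ hMi hb cn, map_zero] at h3
  have h4 := intNum_eq_altT (k := k) hMi hF.1 (dim_support_le hδ d hF)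
  rw [altCyc, ← h1, h3, sub_zero, ← h4] at hmain
  exact_mod_cast hmain

end Hom

end Groth.L22.LatDeg
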