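import Groth.Agent.L22.LatDeg.Rel
import Groth.Agent.L22.QuotLength
import Mathlib.RingTheory.LocalRing.ResidueField.Basic
import Mathlib.RingTheory.Localization.AtPrime.Basic

/-!
Degrees of lattices in modules of finite length over the localisation of a one dimensional quotient, relative to
composition series.
-/

set_option autoImplicit false
set_option linter.style.haveILetI false
set_option backward.isDefEq.respectTransparency false

universe u

open IsLocalRing Pointwise

namespace Groth.L22.LatDeg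

variable {K : Type u} [CommRing K] [IsLocalRing K] {V : Type u} [AddCommGroup V] [Module K V]

variable (K V) in
/-- A composition series of a submodule with chosen identifications of its factors with the residue field. -/
inductive Ser : Submodule K V → Type u
  | nil : Ser ⊥
  | cons {U' U : Submodule K V} (s : Ser U') (π : U →ₗ[K] ResidueField K) (hsurj : Function.Surjective π)
      (hker : ∀ u : U, π u = 0 ↔ (u : V) ∈ U') (hle : U' ≤ U) : Ser U

/-- The number of factors. -/
noncomputable def Ser.depth {U : Submodule K V} : Ser K V U → ℕ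
  | .nil => 0
  | .cons s _ _ _ _ => s.depth + 1

/-- `R` is a Noetherian local ring with `K` its localization at a prime of dimension one. -/
class Adm (R K : Type u) [CommRing R] [CommRing K] [IsLocalRing K] [Algebra R K] : Prop where
  noeth : IsNoetherianRing R
  isLocal : IsLocalRing R
  loc : IsLocalization.AtPrime K ((maximalIdeal K).comap (algebraMap R K))
  dim : ∀ p : Ideal R, p.IsPrime → (maximalIdeal K).comap (algebraMap R K) ≤ p →
    p = (maximalIdeal K).comap (algebraMap R K) ∨ ∀ p' : Ideal R, p'.IsPrime → p' ≤ p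

variable {R : Type u} [CommRing R] [Algebra R K]

theorem exists_den [Adm R K] (z : K) :
    ∃ a b : R, b ∉ (maximalIdeal K).comap (algebraMap R K) ∧ z * algebraMap R K b = algebraMap R K a := by
  haveI := Adm.loc (R := R) (K := K)
  obtain ⟨⟨a, ⟨b, hb⟩⟩, h⟩ := IsLocalization.surj ((maximalIdeal K).comap (algebraMap R K)).primeCompl z
  exact ⟨a, b, hb, h⟩

omit [IsLocalRing K] in
theorem isUnit_of_notMem [IsLocalRing K] {b : R} (hb : b ∉ (maximalIdeal K).comap (algebraMap R K)) :
    IsUnit (algebraMap R K b) := by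
  by_contra h
  exact hb ((mem_maximalIdeal _).2 h)

section Module

variable [Module R V] [IsScalarTower R K V]

/-- A lattice in `U`. -/
structure IsLat (U : Submodule K V) (N : Submodule R V) : Prop where
  fg : N.FG
  le : ∀ v ∈ N, v ∈ U
  span : ∀ u ∈ U, ∃ b : R, b ∉ (maximalIdeal K).comap (algebraMap R K) ∧ b • u ∈ N

theorem IsLat.mono [Adm R K] {U : Submodule K V} {N M : Submodule R V} (hN : IsLat U N) (hM : M.FG) (h : N ≤ M)
    (h' : ∀ v ∈ M, v ∈ U) : IsLat U M :=
  ⟨hM, h', fun u hu => (hN.span u hu).imp fun _ hb => ⟨hb.1, h hb.2⟩⟩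

theorem fg_of_le [Adm R K] {N M : Submodule R V} (hN : N.FG) (h : M ≤ N) : M.FG := by
  haveI := Adm.noeth (R := R) (K := K)
  haveI : IsNoetherian R N := isNoetherian_of_fg_of_noetherian N hN
  have h1 : (M.submoduleOf N).FG := IsNoetherian.noetherian _
  have h2 := h1.map N.subtype
  rwa [Submodule.submoduleOf, Submodule.map_comap_subtype, inf_eq_right.2 h] at h2

theorem IsLat.inf [Adm R K] {U : Submodule K V} {N M : Submodule R V} (hN : IsLat U N) (hM : IsLat U M) :
    IsLat U (N ⊓ M) := by
  refine ⟨fg_of_le (K := K) hN.fg inf_le_left, fun v hv => hN.le v hv.1, fun u hu => ?_⟩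
  obtain ⟨b, hb, hbu⟩ := hN.span u hu
  obtain ⟨c, hc, hcu⟩ := hM.span u hu
  exact ⟨b * c, fun h => ((Ideal.IsPrime.comap (algebraMap R K)).mem_or_mem h).elim hb hc,
    by rw [mul_comm, mul_smul]; exact N.smul_mem c hbu, by rw [mul_smul]; exact M.smul_mem b hcu⟩

theorem IsLat.restrict [Adm R K] {U U' : Submodule K V} {N : Submodule R V} (hN : IsLat U N) (h : U' ≤ U) :
    IsLat U' (N ⊓ U'.restrictScalars R) := by
  refine ⟨fg_of_le (K := K) hN.fg inf_le_left, fun v hv => hv.2, fun u hu => ?_⟩
  obtain ⟨b, hb, hbu⟩ := hN.span u (h hu)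
  exact ⟨b, hb, hbu, (U'.restrictScalars R).smul_mem b hu⟩

/-- Elements of the prime of `K` act nilpotently. -/
theorem Ser.pow_smul_eq_zero {U : Submodule K V} : (s : Ser K V U) → ∀ m ∈ maximalIdeal K, ∀ u ∈ U,
    m ^ s.depth • u = 0
  | .nil, m, _, u, hu => by
    rw [(Submodule.mem_bot K).1 hu, smul_zero]
  | .cons (U' := U') s π _ hker _, m, hm, u, hu => by
    show m ^ (s.depth + 1) • u = 0
    rw [pow_succ, mul_smul]
    refine s.pow_smul_eq_zero m hm _ ((hker ⟨m • u, U.smul_mem m hu⟩).1 ?_)
    rw [show (⟨m • u, U.smul_mem m hu⟩ : U) = m • ⟨u, hu⟩ from rfl, map_smul, Algebra.smul_def,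
      ResidueField.algebraMap_eq, (residue_eq_zero_iff m).2 hm, zero_mul]

theorem qlen_ne_top [Adm R K] {U : Submodule K V} (s : Ser K V U) {P Q : Submodule R V} (hP : IsLat U P)
    (hQ : IsLat U Q) : qlen P Q ≠ ⊤ := by
  haveI := Adm.noeth (R := R) (K := K)
  haveI := Adm.isLocal (R := R) (K := K)
  haveI : Module.Finite R Q := Module.Finite.of_fg hQ.fg
  refine Groth.L22.QuotLength.length_ne_top_of_support _ fun p hp => ?_
  set q := (maximalIdeal K).comap (algebraMap R K)
  have hle : q ≤ p.asIdeal := fun a ha => by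
    by_contra hap
    refine Module.notMem_support_iff'.2 (fun x => ?_) hp
    obtain ⟨x, rfl⟩ := Submodule.Quotient.mk_surjective _ x
    refine ⟨a ^ s.depth, fun h => hap (p.2.mem_of_pow_mem _ h), ?_⟩
    rw [← Submodule.Quotient.mk_smul, Submodule.Quotient.mk_eq_zero]
    show a ^ s.depth • (x : V) ∈ P
    rw [← IsScalarTower.algebraMap_smul K (a ^ s.depth) (x : V), map_pow,
      s.pow_smul_eq_zero _ ha _ (hQ.le _ x.2)]
    exact P.zero_mem
  rcases Adm.dim p.asIdeal p.2 hle with h | h
  · refine absurd hp (Module.notMem_support_iff'.2 fun x => ?_)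
    obtain ⟨x, rfl⟩ := Submodule.Quotient.mk_surjective _ x
    obtain ⟨b, hb, hbx⟩ := hP.span _ (hQ.le _ x.2)
    refine ⟨b, h ▸ hb, ?_⟩
    rw [← Submodule.Quotient.mk_smul, Submodule.Quotient.mk_eq_zero]
    exact hbx
  · exact le_antisymm (le_maximalIdeal p.2.ne_top) (h _ inferInstance)

theorem IsLat.exists [Adm R K] {U : Submodule K V} (hU : U.FG) : ∃ N : Submodule R V, IsLat U N := by
  classical
  haveI := Adm.loc (R := R) (K := K)
  obtain ⟨S, hS⟩ := hU
  refine ⟨Submodule.span R (S : Set V), ⟨S, rfl⟩, fun v hv => ?_, fun u hu => ?_⟩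
  · rw [← hS]
    exact Submodule.span_le_restrictScalars R K _ hv
  · rw [← hS] at hu
    induction hu using Submodule.span_induction with
    | mem x hx => exact ⟨1, fun h => (Ideal.IsPrime.comap (algebraMap R K)).ne_top ((Ideal.eq_top_iff_one _).2 h),
        by rw [one_smul]; exact Submodule.subset_span hx⟩
    | zero => exact ⟨1, fun h => (Ideal.IsPrime.comap (algebraMap R K)).ne_top ((Ideal.eq_top_iff_one _).2 h),
        by rw [one_smul]; exact Submodule.zero_mem _⟩
    | add x y _ _ hx hy =>
      obtain ⟨b, hb, hbx⟩ := hx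
      obtain ⟨c, hc, hcy⟩ := hy
      refine ⟨b * c, fun h => ((Ideal.IsPrime.comap (algebraMap R K)).mem_or_mem h).elim hb hc, ?_⟩
      rw [smul_add]
      exact Submodule.add_mem _ (by rw [mul_comm, mul_smul]; exact Submodule.smul_mem _ c hbx)
        (by rw [mul_smul]; exact Submodule.smul_mem _ b hcy)
    | smul z x _ hx =>
      obtain ⟨c, hc, hcx⟩ := hx
      obtain ⟨a, b, hb, hab⟩ := exists_den (R := R) z
      refine ⟨b * c, fun h => ((Ideal.IsPrime.comap (algebraMap R K)).mem_or_mem h).elim hb hc, ?_⟩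
      have e : (b * c) • (z • x) = a • (c • x) := by
        rw [mul_smul, ← IsScalarTower.algebraMap_smul K b, smul_comm c z x, smul_smul, mul_comm _ z, hab,
          IsScalarTower.algebraMap_smul]
      rw [e]
      exact Submodule.smul_mem _ a hcx

/-- The image of `N ∩ U` under a functional on `U`. -/
def img {W : Type u} [AddCommGroup W] [Module K W] [Module R W] [IsScalarTower R K W] {U : Submodule K V}
    (π : U →ₗ[K] W) (N : Submodule R V) : Submodule R W :=
  (N.submoduleOf (U.restrictScalars R)).map (π.restrictScalars R)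

theorem mem_img {W : Type u} [AddCommGroup W] [Module K W] [Module R W] [IsScalarTower R K W] {U : Submodule K V}
    {π : U →ₗ[K] W} {N : Submodule R V} {c : W} :
    c ∈ img π N ↔ ∃ (u : V) (hu : u ∈ U), u ∈ N ∧ π ⟨u, hu⟩ = c := by
  constructor
  · rintro ⟨⟨u, hu⟩, huN, h⟩
    exact ⟨u, hu, huN, h⟩
  · rintro ⟨u, hu, huN, h⟩
    exact ⟨⟨u, hu⟩, huN, h⟩

theorem img_mono {W : Type u} [AddCommGroup W] [Module K W] [Module R W] [IsScalarTower R K W] {U : Submodule K V}
    (π : U →ₗ[K] W) {N M : Submodule R V} (h : N ≤ M) : img π N ≤ img π M := fun c hc => by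
  obtain ⟨u, hu, huN, e⟩ := mem_img.1 hc
  exact mem_img.2 ⟨u, hu, h huN, e⟩

theorem IsLat.img [Adm R K] {W : Type u} [AddCommGroup W] [Module K W] [Module R W] [IsScalarTower R K W]
    {U : Submodule K V} {N : Submodule R V} (hN : IsLat U N) (π : U →ₗ[K] W) :
    IsLat (LinearMap.range π) (Groth.L22.LatDeg.img π N) := by
  refine ⟨?_, fun c hc => ?_, ?_⟩
  · refine Submodule.FG.map _ ?_
    refine Submodule.fg_of_fg_map_injective (U.restrictScalars R).subtype (Submodule.injective_subtype _) ?_
    rw [Submodule.submoduleOf, Submodule.map_comap_subtype]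
    exact fg_of_le (K := K) hN.fg inf_le_right
  · obtain ⟨u, hu, -, e⟩ := mem_img.1 hc
    exact ⟨⟨u, hu⟩, e⟩
  · rintro _ ⟨⟨u, hu⟩, rfl⟩
    obtain ⟨b, hb, hbu⟩ := hN.span u hu
    exact ⟨b, hb, mem_img.2 ⟨b • u, (U.restrictScalars R).smul_mem b hu, hbu, (π.restrictScalars R).map_smul b ⟨u, hu⟩⟩⟩

end Module

end Groth.L22.LatDeg
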