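import Groth.Agent.L22.LatDeg.Stalk
import Groth.Agent.L22.C1.RatOn
import Groth.Agent.L22.IntMult.CyclePull
import Groth.Agent.L16.CohSupport

/-!
The `k`-dimensional class of a coherent module with support of dimension at most `k + 1`, modulo rational
equivalence, relative to composition series at the top dimensional points.
-/

set_option autoImplicit false
set_option linter.style.haveILetI false
set_option maxSynthPendingDepth 3
set_option backward.isDefEq.respectTransparency false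
set_option backward.isDefEq.respectTransparency.types false

universe u

open CategoryTheory AlgebraicGeometry IsLocalRing
open Groth.L22.IntMult (ptPrime fromSpecStalk_ptPrime eq_ptPrime specializes_fromSpecStalk mem_support_iff_nontrivial
  sheafFun_ne_zero)

noncomputable section

namespace Groth.L22.LatDeg

variable {X : Scheme.{u}}

/-- A locally finite set of points of dimension `k + 1`. -/
structure Tops (δ : X → ℤ) (k : ℤ) (T : Set X) : Prop where
  dim : ∀ ξ ∈ T, δ ξ = k + 1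
  locFin : ∀ x : X, ∃ U : Set X, IsOpen U ∧ x ∈ U ∧ (U ∩ T).Finite

/-- `T` contains the top dimensional points of the support. -/
def Covers (δ : X → ℤ) (k : ℤ) (T : Set X) (F : X.Modules) : Prop :=
  ∀ ξ : X, δ ξ = k + 1 → Nontrivial (F.presheaf.stalk ξ) → ξ ∈ T

/-- Composition series at the points of `T`. -/
abbrev Choice (F : X.Modules) (T : Set X) : Type u :=
  (ξ : X) → ξ ∈ T → Ser (X.presheaf.stalk ξ) (F.presheaf.stalk ξ) ⊤

/-- The points of `T` generising a point. -/
abbrev Gens (T : Set X) (x : X) : Type u := {ξ : X // ξ ∈ T ∧ ξ ⤳ x}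

theorem Tops.finite_gens {δ : X → ℤ} {k : ℤ} {T : Set X} (hT : Tops δ k T) (x : X) : Finite (Gens T x) := by
  obtain ⟨U, hU, hxU, hfin⟩ := hT.locFin x
  exact (hfin.subset fun ξ (h : ξ ∈ T ∧ ξ ⤳ x) => (⟨h.2.mem_open hU hxU, h.1⟩ : ξ ∈ U ∩ T)).to_subtype

open Classical in
/-- The class, as a function on points. -/
def clsAt {δ : X → ℤ} {k : ℤ} {T : Set X} (hT : Tops δ k T) (F : X.Modules) (s : Choice F T) (x : X) : ℤ :=
  if δ x = k then
    haveI := hT.finite_gens x
    letI : Fintype (Gens T x) := Fintype.ofFinite _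
    letI : ∀ g : Gens T x, Algebra (X.presheaf.stalk x) (X.presheaf.stalk g.1) := fun g => algSp g.2.2
    letI : ∀ g : Gens T x, Module (X.presheaf.stalk x) (F.presheaf.stalk g.1) := fun g => modSp F g.2.2
    haveI : ∀ g : Gens T x, IsScalarTower (X.presheaf.stalk x) (X.presheaf.stalk g.1) (F.presheaf.stalk g.1) :=
      fun g => towerSp F g.2.2
    locDeg (K := fun g : Gens T x => X.presheaf.stalk g.1) (fun g : Gens T x => spL F g.2.2)
      (fun g => s g.1 g.2.1)
  else 0

variable [IsLocallyNoetherian X] {δ : X → ℤ} (hδ : Cyc.IsDimFun X δ) {k : ℤ}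

include hδ in
theorem isGenData {T : Set X} (hT : Tops δ k T) {F : X.Modules} (hF : Coh.IsCoh F)
    (hd : ∀ x : X, Nontrivial (F.presheaf.stalk x) → δ x ≤ k + 1) (hc : Covers δ k T F) {x : X} (hx : δ x = k) :
    letI : ∀ g : Gens T x, Algebra (X.presheaf.stalk x) (X.presheaf.stalk g.1) := fun g => algSp g.2.2
    letI : ∀ g : Gens T x, Module (X.presheaf.stalk x) (F.presheaf.stalk g.1) := fun g => modSp F g.2.2
    IsGenData (fun g : Gens T x => spL F g.2.2) (fun g => X.presheaf.stalk g.1) := by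
  letI : ∀ g : Gens T x, Algebra (X.presheaf.stalk x) (X.presheaf.stalk g.1) := fun g => algSp g.2.2
  letI : ∀ g : Gens T x, Module (X.presheaf.stalk x) (F.presheaf.stalk g.1) := fun g => modSp F g.2.2
  have hloc := fun g : Gens T x => isLocalizedModule_sp hF g.2.2
  refine ⟨Groth.L15.Ref.finite_stalk hF x, fun i j hij hle => ?_, fun i v => ?_, fun i m hm => ?_, fun p hp => ?_⟩
  · rw [prime, prime, prime_eq j.2.2, prime_eq i.2.2] at hle
    have h1 := (ptPrime_le_iff j.2.2 i.2.2).1 hle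
    refine hij (Subtype.ext ?_)
    by_contra hne
    have := (hδ j.1 i.1 h1 (Ne.symm hne)).1
    have := hT.dim _ i.2.1
    have := hT.dim _ j.2.1
    omega
  · haveI := hloc i
    obtain ⟨⟨m, ⟨b, hb⟩⟩, e⟩ := IsLocalizedModule.surj (ptPrime i.2.2).asIdeal.primeCompl (spL F i.2.2) v
    refine ⟨b, ?_, m, e.symm⟩
    rw [prime, prime_eq i.2.2]
    exact hb
  · haveI := hloc i
    obtain ⟨⟨b, hb⟩, e⟩ := (IsLocalizedModule.eq_zero_iff (ptPrime i.2.2).asIdeal.primeCompl (spL F i.2.2)).1 hm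
    refine ⟨b, ?_, e⟩
    rw [prime, prime_eq i.2.2]
    exact hb
  · have hnt := (mem_support_iff_nontrivial hF p).1 hp
    obtain ⟨ζ, hζd⟩ : ∃ ζ, X.fromSpecStalk x p = ζ := ⟨_, rfl⟩
    rw [hζd] at hnt
    have hζ : ζ ⤳ x := hζd ▸ specializes_fromSpecStalk p
    by_cases e : ζ = x
    · subst e
      refine Or.inl fun p' hp' => ?_
      rw [show p = closedPoint (X.presheaf.stalk ζ) from
        (X.fromSpecStalk ζ).isEmbedding.injective (hζd.trans Scheme.fromSpecStalk_closedPoint.symm)]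
      exact le_maximalIdeal hp'.ne_top
    · have hk1 : δ ζ = k + 1 := by
        have := (hδ ζ x hζ e).1
        have := hd ζ hnt
        omega
      refine Or.inr ⟨⟨ζ, hc ζ hk1 hnt, hζ⟩, ?_⟩
      rw [prime, prime_eq hζ]
      exact congrArg PrimeSpectrum.asIdeal (eq_ptPrime hζd hζ)

include hδ in
theorem isFiniteLength_stalk {F : X.Modules} (hF : Coh.IsCoh F)
    (hd : ∀ x : X, Nontrivial (F.presheaf.stalk x) → δ x ≤ k + 1) {ξ : X} (hξ : δ ξ = k + 1) :
    IsNoetherian (X.presheaf.stalk ξ) (F.presheaf.stalk ξ) ∧ IsArtinian (X.presheaf.stalk ξ) (F.presheaf.stalk ξ) := by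
  have h : Groth.L16.CohSupport.len ξ F ≠ ⊤ := Groth.L16.CohSupport.len_ne_top hF fun z hz hzξ => by
    by_contra hne
    have := (hδ z ξ hzξ hne).1
    have := hd z (not_subsingleton_iff_nontrivial.1 hz)
    omega
  exact isFiniteLength_iff_isNoetherian_isArtinian.1 (Module.length_ne_top_iff.1 h)

include hδ in
theorem exists_choice {T : Set X} (hT : Tops δ k T) {F : X.Modules} (hF : Coh.IsCoh F)
    (hd : ∀ x : X, Nontrivial (F.presheaf.stalk x) → δ x ≤ k + 1) : Nonempty (Choice F T) :=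
  ⟨fun ξ hξ =>
    haveI := (isFiniteLength_stalk hδ hF hd (hT.dim ξ hξ)).1
    haveI := (isFiniteLength_stalk hδ hF hd (hT.dim ξ hξ)).2
    (exists_ser (⊤ : Submodule (X.presheaf.stalk ξ) (F.presheaf.stalk ξ))).some⟩

include hδ in
/-- Changing the series changes the class by principal divisors. -/
theorem cls_change {T : Set X} (hT : Tops δ k T) {F : X.Modules} (hF : Coh.IsCoh F)
    (hd : ∀ x : X, Nontrivial (F.presheaf.stalk x) → δ x ≤ k + 1) (hc : Covers δ k T F) (s s' : Choice F T) :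
    C1.RatOn δ k Set.univ (fun x => clsAt hT F s x - clsAt hT F s' x) := by
  classical
  have hex : ∀ ξ : T, ∃ c : ResidueField (X.presheaf.stalk ξ.1), c ≠ 0 ∧
      ∀ (R : Type u) [CommRing R] [Algebra R (X.presheaf.stalk ξ.1)] [Module R (F.presheaf.stalk ξ.1)]
        [IsScalarTower R (X.presheaf.stalk ξ.1) (F.presheaf.stalk ξ.1)] [Adm R (X.presheaf.stalk ξ.1)]
        (N : Submodule R (F.presheaf.stalk ξ.1)), IsLat ⊤ N →
          (s ξ.1 ξ.2).lam N - (s' ξ.1 ξ.2).lam N = ordR R c := fun ξ => by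
    haveI := (isFiniteLength_stalk hδ hF hd (hT.dim ξ.1 ξ.2)).1
    haveI := (isFiniteLength_stalk hδ hF hd (hT.dim ξ.1 ξ.2)).2
    exact exists_ord _ ⊤ (s ξ.1 ξ.2) (s' ξ.1 ξ.2) rfl
  choose c hc0 hcc using hex
  refine ⟨T, fun ξ => ξ.1, fun ξ => c ξ, fun ξ => hT.dim _ ξ.2, hc0, fun _ => trivial, fun x => ?_, fun x => ?_⟩
  · obtain ⟨U, hU, hxU, hfin⟩ := hT.locFin x
    refine ⟨U, hU, hxU, (hfin.preimage Subtype.val_injective.injOn).subset fun ξ ⟨z, hz, hzU⟩ => ?_⟩
    exact ⟨(specializes_iff_mem_closure.2 hz).mem_open hU hzU, ξ.2⟩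
  · have hzero : ∀ ξ : T, ¬ ((ξ : X) ⤳ x ∧ δ x = k) → Cyc.divFun δ ξ.1 (c ξ) x = 0 := fun ξ h => by
      by_contra h0
      obtain ⟨h1, h2⟩ := C1.divFun_ne_zero h0
      have := hT.dim _ ξ.2
      exact h ⟨h1, by omega⟩
    by_cases hx : δ x = k
    swap
    · simp only [clsAt, if_neg hx, sub_zero]
      exact (finsum_eq_zero_of_forall_eq_zero fun ξ => hzero ξ fun h => hx h.2).symm
    haveI := hT.finite_gens x
    letI : Fintype (Gens T x) := Fintype.ofFinite _
    letI : ∀ g : Gens T x, Algebra (X.presheaf.stalk x) (X.presheaf.stalk g.1) := fun g => algSp g.2.2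
    letI : ∀ g : Gens T x, Module (X.presheaf.stalk x) (F.presheaf.stalk g.1) := fun g => modSp F g.2.2
    haveI : ∀ g : Gens T x, IsScalarTower (X.presheaf.stalk x) (X.presheaf.stalk g.1) (F.presheaf.stalk g.1) :=
      fun g => towerSp F g.2.2
    haveI : ∀ g : Gens T x, Adm (X.presheaf.stalk x) (X.presheaf.stalk g.1) :=
      fun g => adm hδ g.2.2 (by rw [hx, hT.dim _ g.2.1])
    have hg := isGenData hδ hT hF hd hc hx
    let φ : Gens T x → T := fun g => ⟨g.1, g.2.1⟩
    have hφ : Function.Injective φ := fun a b e => Subtype.ext (congrArg (fun t : T => t.1) e)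
    have hlhs : clsAt hT F s x - clsAt hT F s' x = ∑ g : Gens T x, Cyc.divFun δ g.1 (c (φ g)) x := by
      simp only [clsAt, if_pos hx, locDeg, add_sub_add_left_eq_sub, ← Finset.sum_sub_distrib]
      refine Finset.sum_congr rfl fun g _ => ?_
      have hd1 : δ x + 1 = δ g.1 := by rw [hx, hT.dim _ g.2.1]
      rw [hcc (φ g) (X.presheaf.stalk x) _ (isLat_range hg g), Cyc.divFun, dif_pos ⟨g.2.2, hd1⟩]
      exact ordR_eq_ordAt hδ g.2.2 hd1 (c (φ g)) (hc0 _)
    show clsAt hT F s x - clsAt hT F s' x = _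
    rw [hlhs, finsum_eq_sum_of_support_subset (s := Finset.univ.image φ) _ fun ξ hξ => ?_,
      Finset.sum_image fun a _ b _ e => hφ e]
    rw [Function.mem_support] at hξ
    by_cases hsp : (ξ : X) ⤳ x
    · exact Finset.mem_coe.2 (Finset.mem_image.2 ⟨⟨ξ.1, ξ.2, hsp⟩, Finset.mem_univ _, rfl⟩)
    · exact absurd (hzero ξ fun h => hsp h.1) hξ

end Groth.L22.LatDeg
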