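import Groth.Agent.L22.LatDeg.Basic

/-!
The degree of a lattice, and its behaviour under change of lattice.
-/

set_option autoImplicit false
set_option linter.style.haveILetI false
set_option backward.isDefEq.respectTransparency false

universe u

open IsLocalRing

noncomputable section

namespace Groth.L22.LatDeg

variable {K : Type u} [CommRing K] [IsLocalRing K] {V : Type u} [AddCommGroup V] [Module K V]

variable (K) in
/-- The composition series of the residue field. -/
def serResidue : Ser K (ResidueField K) ⊤ :=
  Ser.cons .nil (⊤ : Submodule K (ResidueField K)).subtype (fun c => ⟨⟨c, trivial⟩, rfl⟩)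
    (fun u => ⟨fun h => (Submodule.mem_bot K).2 h, fun h => (Submodule.mem_bot K).1 h⟩) bot_le

variable {R : Type u} [CommRing R] [Algebra R K]

variable (K) in
/-- The standard lattice of the residue field. -/
def one : Submodule R (ResidueField K) := Submodule.span R {1}

theorem isLat_span [Adm R K] {c : ResidueField K} (hc : c ≠ 0) :
    IsLat (⊤ : Submodule K (ResidueField K)) (Submodule.span R {c}) := by
  refine ⟨Submodule.fg_span_singleton c, fun _ _ => trivial, fun u _ => ?_⟩
  obtain ⟨z, hz⟩ := residue_surjective (u / c)
  obtain ⟨a, b, hb, hab⟩ := exists_den (R := R) z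
  refine ⟨b, hb, Submodule.mem_span_singleton.2 ⟨a, ?_⟩⟩
  rw [Algebra.smul_def, Algebra.smul_def, IsScalarTower.algebraMap_apply R K (ResidueField K),
    IsScalarTower.algebraMap_apply R K (ResidueField K), ← hab, map_mul, ResidueField.algebraMap_eq,
    show residue K z = u / c from hz]
  field_simp

theorem isLat_one [Adm R K] : IsLat (⊤ : Submodule K (ResidueField K)) (one (R := R) K) := isLat_span one_ne_zero

/-- The degree of a lattice in the residue field. -/
def deg (L : Submodule R (ResidueField K)) : ℤ := rlen (L ⊓ one K) L - rlen (L ⊓ one K) (one K)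

theorem deg_eq [Adm R K] {P L : Submodule R (ResidueField K)} (hP : IsLat (⊤ : Submodule K (ResidueField K)) P) (hL : IsLat (⊤ : Submodule K (ResidueField K)) L) (h : P ≤ L)
    (h' : P ≤ one K) : deg L = rlen P L - rlen P (one K) := by
  rw [deg, rlen_add (le_inf h h') inf_le_left (qlen_ne_top (serResidue K) hP hL),
    rlen_add (le_inf h h') inf_le_right (qlen_ne_top (serResidue K) hP isLat_one)]
  ring

theorem deg_one [Adm R K] : deg (one (R := R) K) = 0 := by
  rw [deg, inf_idem, sub_self]

theorem deg_sub [Adm R K] {L L' : Submodule R (ResidueField K)} (hL : IsLat (⊤ : Submodule K (ResidueField K)) L) (hL' : IsLat (⊤ : Submodule K (ResidueField K)) L') (h : L' ≤ L) :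
    deg L - deg L' = rlen L' L := by
  have hP := hL'.inf isLat_one
  rw [deg_eq hP hL (inf_le_left.trans h) inf_le_right, deg_eq hP hL' inf_le_left inf_le_right,
    rlen_add inf_le_left h (qlen_ne_top (serResidue K) hP hL)]
  ring

/-- Multiplication by an element of the residue field. -/
def mulBy (c : ResidueField K) : ResidueField K →ₗ[R] ResidueField K := LinearMap.mulLeft R c

variable (R) in
/-- The order of an element of the residue field. -/
def ordR (c : ResidueField K) : ℤ := -deg (Submodule.span R {c})

theorem map_mulBy_one (c : ResidueField K) : (one (R := R) K).map (mulBy c) = Submodule.span R {c} := by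
  rw [one, Submodule.map_span, Set.image_singleton, mulBy, LinearMap.mulLeft_apply, mul_one]

theorem IsLat.map_mulBy [Adm R K] {L : Submodule R (ResidueField K)} (hL : IsLat (⊤ : Submodule K (ResidueField K)) L) {c : ResidueField K}
    (hc : c ≠ 0) : IsLat (⊤ : Submodule K (ResidueField K)) (L.map (mulBy c)) := by
  refine ⟨hL.fg.map _, fun _ _ => trivial, fun u _ => ?_⟩
  obtain ⟨b, hb, hbu⟩ := hL.span (u / c) trivial
  refine ⟨b, hb, b • (u / c), hbu, ?_⟩
  rw [map_smul, mulBy, LinearMap.mulLeft_apply, mul_div_cancel₀ u hc]

theorem deg_map_mulBy [Adm R K] {L : Submodule R (ResidueField K)} (hL : IsLat (⊤ : Submodule K (ResidueField K)) L) {c : ResidueField K}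
    (hc : c ≠ 0) : deg (L.map (mulBy c)) = deg L - ordR R c := by
  set P := L ⊓ one (R := R) K
  have hP : IsLat (⊤ : Submodule K (ResidueField K)) P := hL.inf isLat_one
  have hinj : Function.Injective (mulBy (R := R) c) := mul_right_injective₀ hc
  have hs : IsLat (⊤ : Submodule K (ResidueField K)) (Submodule.span R {c}) := isLat_span hc
  have hd : ∀ A B : Submodule R (ResidueField K), rlen (A.map (mulBy c)) (B.map (mulBy c)) = rlen A B :=
    fun A B => by rw [rlen, qlen_map _ hinj]; rfl
  set Q := P.map (mulBy c) ⊓ one (R := R) K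
  have hQ : IsLat (⊤ : Submodule K (ResidueField K)) Q := (hP.map_mulBy hc).inf isLat_one
  have h1 : Q ≤ L.map (mulBy c) := inf_le_left.trans (Submodule.map_mono inf_le_left)
  have h2 : Q ≤ Submodule.span R {c} :=
    inf_le_left.trans ((Submodule.map_mono inf_le_right).trans (map_mulBy_one c).le)
  rw [ordR, deg_eq hQ (hL.map_mulBy hc) h1 inf_le_right, deg_eq hQ hs h2 inf_le_right,
    rlen_add (inf_le_left : Q ≤ P.map (mulBy c)) (Submodule.map_mono inf_le_left)
      (qlen_ne_top (serResidue K) hQ (hL.map_mulBy hc)),
    rlen_add (inf_le_left : Q ≤ P.map (mulBy c)) ((Submodule.map_mono inf_le_right).trans (map_mulBy_one c).le)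
      (qlen_ne_top (serResidue K) hQ hs),
    hd, ← map_mulBy_one c, hd, deg]
  ring

theorem ordR_mul [Adm R K] {c d : ResidueField K} (hc : c ≠ 0) (hd : d ≠ 0) :
    ordR R (c * d) = ordR R c + ordR R d := by
  have h := deg_map_mulBy (R := R) (isLat_span hd) hc
  rw [Submodule.map_span, Set.image_singleton, mulBy, LinearMap.mulLeft_apply] at h
  simp only [ordR] at h ⊢
  linarith

theorem ordR_one [Adm R K] : ordR R (1 : ResidueField K) = 0 := by
  rw [ordR, show Submodule.span R {(1 : ResidueField K)} = one (R := R) K from rfl, deg_one, neg_zero]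

/-- The order of an element of `R`. -/
theorem ordR_residue [Adm R K] (a : R) (ha : a ∉ (maximalIdeal K).comap (algebraMap R K)) :
    ordR R (residue K (algebraMap R K a)) = rlen (Submodule.span R {residue K (algebraMap R K a)}) (one K) := by
  have hc : residue K (algebraMap R K a) ≠ 0 := fun h => ha ((residue_eq_zero_iff _).1 h)
  have hle : Submodule.span R {residue K (algebraMap R K a)} ≤ one (R := R) K := by
    rw [Submodule.span_le, Set.singleton_subset_iff]
    exact Submodule.mem_span_singleton.2 ⟨a, (Algebra.smul_def _ _).trans (mul_one _)⟩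
  rw [ordR, deg, inf_eq_left.2 hle, rlen_self, zero_sub, neg_neg]

end Groth.L22.LatDeg
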