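import Groth.Agent.L22.LatDeg.MSky
import Groth.Agent.L29.K.KcohSupp
import Groth.Agent.L21.Mero.RedKmod
import Groth.Agent.L17.ClosedPush

/-!
Dévissage: modulo smaller dimension a coherent module has the class of the sheaf of its cycle.
-/

set_option autoImplicit false
set_option linter.style.haveILetI false
set_option backward.defeqAttrib.useBackward true
set_option backward.isDefEq.respectTransparency false
set_option backward.isDefEq.respectTransparency.types false

universe u

open CategoryTheory CategoryTheory.Limits AlgebraicGeometry TopologicalSpace IsLocalRing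
open Groth.L16.CohSupport (len len_eq_zero_iff)

noncomputable section

namespace Groth.L22.LatDeg

/-- Modules of the same finite length killed by the maximal ideal are isomorphic. -/
theorem nonempty_equiv_of_killed {R : Type u} [CommRing R] [IsLocalRing R] {M N : Type u} [AddCommGroup M]
    [Module R M] [AddCommGroup N] [Module R N] (hM : ∀ r ∈ maximalIdeal R, ∀ v : M, r • v = 0)
    (hN : ∀ r ∈ maximalIdeal R, ∀ v : N, r • v = 0) (hfin : Module.length R M ≠ ⊤)
    (h : Module.length R M = Module.length R N) : Nonempty (M ≃ₗ[R] N) := by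
  letI : Field (R ⧸ maximalIdeal R) := Ideal.Quotient.field _
  letI : Module (R ⧸ maximalIdeal R) M :=
    Module.IsTorsionBySet.module (show Module.IsTorsionBySet R M (maximalIdeal R) from fun m a => hM a a.2 m)
  letI : Module (R ⧸ maximalIdeal R) N :=
    Module.IsTorsionBySet.module (show Module.IsTorsionBySet R N (maximalIdeal R) from fun m a => hN a a.2 m)
  haveI : IsScalarTower R (R ⧸ maximalIdeal R) M := Module.IsTorsionBySet.isScalarTower _
  haveI : IsScalarTower R (R ⧸ maximalIdeal R) N := Module.IsTorsionBySet.isScalarTower _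
  have eM := Module.length_eq_of_surjective (S := R) (R := R ⧸ maximalIdeal R) (M := M) Ideal.Quotient.mk_surjective
  have eN := Module.length_eq_of_surjective (S := R) (R := R ⧸ maximalIdeal R) (M := N) Ideal.Quotient.mk_surjective
  have hfin' := hfin
  rw [eM] at hfin'
  have hfinN : Module.length (R ⧸ maximalIdeal R) N ≠ ⊤ := by rw [← eN, ← h]; exact hfin
  haveI := (isFiniteLength_iff_isNoetherian_isArtinian.1 (Module.length_ne_top_iff.1 hfin')).1
  haveI := (isFiniteLength_iff_isNoetherian_isArtinian.1 (Module.length_ne_top_iff.1 hfinN)).1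
  rw [eM, eN, Module.length_eq_finrank, Module.length_eq_finrank] at h
  exact ⟨(LinearEquiv.ofFinrankEq M N (by exact_mod_cast h)).restrictScalars R⟩

variable {X : Scheme.{u}} [IsLocallyNoetherian X] {δ : X → ℤ} (hδ : Cyc.IsDimFun X δ) {k : ℤ}

omit [IsLocallyNoetherian X] in
theorem toK0_add {a b : ℤ} {S : ShortComplex X.Modules} (hS : S.ShortExact) (h1 : Cyc.CohLe δ a S.X₁)
    (h2 : Cyc.CohLe δ a S.X₂) (h3 : Cyc.CohLe δ a S.X₃) :
    Cyc.toK0CohQuot δ a b S.X₂ = Cyc.toK0CohQuot δ a b S.X₁ + Cyc.toK0CohQuot δ a b S.X₃ := by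
  rw [Cyc.toK0CohQuot, Cyc.toK0CohQuot, Cyc.toK0CohQuot, ← QuotientAddGroup.mk_add]
  congr 1
  rw [KZero.clSub, dif_pos h2, KZero.clSub, dif_pos h1, KZero.clSub, dif_pos h3, ← QuotientAddGroup.mk_add,
    QuotientAddGroup.eq, ← neg_mem_iff, neg_add_rev, neg_neg]
  exact AddSubgroup.subset_closure ⟨S, h1, h2, h3, hS, by abel⟩

omit [IsLocallyNoetherian X] in
theorem toK0_eq_zero {a b : ℤ} {F : X.Modules} (h : Cyc.CohLe δ b F) : Cyc.toK0CohQuot δ a b F = 0 :=
  (QuotientAddGroup.eq_zero_iff _).2 (AddSubgroup.subset_closure ⟨F, h, rfl⟩)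

theorem toK0_map {a b : ℤ} {A B : X.Modules} (φ : A ⟶ B) (hA : Cyc.CohLe δ a A) (hB : Cyc.CohLe δ a B) :
    Cyc.toK0CohQuot δ a b A + Cyc.toK0CohQuot δ a b (cokernel φ) =
      Cyc.toK0CohQuot δ a b B + Cyc.toK0CohQuot δ a b (kernel φ) := by
  have h := toK0_add (b := b) (Groth.L29.DevFil.shortExact_kernel_image φ)
    (cohLe_kernel hA hB φ) hA (cohLe_image hA hB φ)
  have h' := toK0_add (b := b) (Groth.L29.DevFil.shortExact_image_cokernel φ)
    (cohLe_image hA hB φ) hB (cohLe_cokernel hA hB φ)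
  dsimp only at h h'
  rw [h, h']
  abel

theorem toK0_iso {a b : ℤ} {A B : X.Modules} (e : A ≅ B) (hA : Cyc.CohLe δ a A) :
    Cyc.toK0CohQuot δ a b A = Cyc.toK0CohQuot δ a b B := by
  have h := toK0_map (b := b) e.hom hA (cohLe_iso e hA)
  rwa [toK0_eq_zero (cohLe_of_isZero (isZero_cokernel_of_epi e.hom) b), add_zero,
    toK0_eq_zero (cohLe_of_isZero (isZero_kernel_of_mono e.hom) b), add_zero] at h

/-- A map bijective on the stalks in dimension `k` preserves the class. -/
theorem toK0_eq_of_bijective {A B : X.Modules} (φ : A ⟶ B) (hA : Cyc.CohLe δ k A) (hB : Cyc.CohLe δ k B)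
    (h : ∀ x : X, δ x = k → Function.Bijective ((Groth.L00.Stk.F X x).map φ)) :
    Cyc.toK0CohQuot δ k (k - 1) A = Cyc.toK0CohQuot δ k (k - 1) B := by
  have hk : Cyc.CohLe δ (k - 1) (kernel φ) := by
    refine ⟨(cohLe_kernel hA hB φ).1, fun x hx => ?_⟩
    have h1 := (cohLe_kernel hA hB φ).2 x hx
    rcases h1.lt_or_eq with h1 | h1
    · omega
    refine absurd hx (not_nontrivial_iff_subsingleton.2 (subsingleton_of_forall_eq 0 fun v => ?_))
    apply (AddCommGrpCat.mono_iff_injective _).1 ((Groth.L21.Mod.mono_iff_stalk (kernel.ι φ)).1 inferInstance x)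
    rw [map_zero]
    apply (h x h1).1
    rw [map_zero]
    show ((Groth.L00.Stk.F X x).map (kernel.ι φ) ≫ (Groth.L00.Stk.F X x).map φ) v = 0
    rw [← Functor.map_comp, kernel.condition, Functor.map_zero]
    rfl
  have hc : Cyc.CohLe δ (k - 1) (cokernel φ) := by
    refine ⟨(cohLe_cokernel hA hB φ).1, fun x hx => ?_⟩
    have h1 := (cohLe_cokernel hA hB φ).2 x hx
    rcases h1.lt_or_eq with h1 | h1
    · omega
    refine absurd hx (not_nontrivial_iff_subsingleton.2 (subsingleton_of_forall_eq 0 fun v => ?_))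
    obtain ⟨w, rfl⟩ := (AddCommGrpCat.epi_iff_surjective _).1
      ((Groth.L21.Mod.epi_iff_stalk (cokernel.π φ)).1 inferInstance x) v
    obtain ⟨u, rfl⟩ := (h x h1).2 w
    show ((Groth.L00.Stk.F X x).map φ ≫ (Groth.L00.Stk.F X x).map (cokernel.π φ)) u = 0
    rw [← Functor.map_comp, cokernel.condition, Functor.map_zero]
    rfl
  have e := toK0_map (b := k - 1) φ hA hB
  rwa [toK0_eq_zero hk, toK0_eq_zero hc, add_zero, add_zero] at e

include hδ in
/-- Modules with isomorphic stalks in dimension `k` have the same class. -/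
theorem toK0_eq_of_equiv {G E : X.Modules} (hG : Cyc.CohLe δ k G) (hE : Cyc.CohLe δ k E)
    (θ : ∀ x : X, δ x = k → Nonempty ((Groth.L00.Stk.F X x).obj E ≅ (Groth.L00.Stk.F X x).obj G)) :
    Cyc.toK0CohQuot δ k (k - 1) E = Cyc.toK0CohQuot δ k (k - 1) G := by
  let T : Set X := topSet δ (k - 1) G
  have hG' : Cyc.CohLe δ (k - 1 + 1) G := by rwa [sub_add_cancel]
  have hT := tops_topSet hδ hG'
  have hTk : ∀ ξ : T, δ ξ.1 = k := fun ξ => by have := hT.dim ξ.1 ξ.2; omega
  have hsp : ∀ a ∈ T, ∀ b ∈ T, a ⤳ b → a = b := fun a ha b hb h => by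
    by_contra hne
    have := (hδ a b h hne).1
    have : δ a = k := hTk ⟨a, ha⟩
    have : δ b = k := hTk ⟨b, hb⟩
    omega
  let N : (ξ : T) → ModuleCat.{u} (X.presheaf.stalk ξ.1) := fun ξ => (Groth.L00.Stk.F X ξ.1).obj G
  haveI : Coh.IsQCoh (MSky.msky T N) := MSky.isQCoh_msky hT.locFin fun ξ => by
    haveI := (isFiniteLength_stalk hδ hG.1 (k := k - 1) hG'.2 (hT.dim ξ.1 ξ.2)).1
    haveI := (isFiniteLength_stalk hδ hG.1 (k := k - 1) hG'.2 (hT.dim ξ.1 ξ.2)).2
    obtain ⟨s⟩ := exists_ser (⊤ : Submodule (X.presheaf.stalk ξ.1) (G.presheaf.stalk ξ.1))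
    exact ⟨s.depth, fun r hr v => s.pow_smul_eq_zero r hr v trivial⟩
  let γ : G ⟶ MSky.msky T N := MSky.lift fun ξ => 𝟙 _
  let ε : E ⟶ MSky.msky T N := MSky.lift fun ξ => (θ ξ.1 (hTk ξ)).some.hom
  let d : G ⊞ E ⟶ MSky.msky T N := biprod.desc γ ε
  have hGE : Cyc.CohLe δ k (G ⊞ E) := ⟨Groth.L16.Devissage.isCoh_biprod hG.1 hE.1, fun x hx => by
    rcases (Groth.L21.Mod.support_of_shortExact
      (ShortComplex.Splitting.ofHasBinaryBiproduct G E).shortExact).subset (mem_support.2 hx) with h | h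
    · exact hG.2 x (mem_support.1 h)
    · exact hE.2 x (mem_support.1 h)⟩
  have hH : Cyc.CohLe δ k (Abelian.image d) := ⟨Groth.L16.CohSupport.isCoh_image hGE.1 d, fun x hx =>
    hGE.2 x (mem_support.1 (Groth.L29.CohSupp.support_of_epi (Abelian.factorThruImage d) (mem_support.2 hx)))⟩
  have key : ∀ {A : X.Modules} (a : A ⟶ G ⊞ E), (∀ ξ : T, Function.Bijective
      ((Groth.L00.Stk.F X ξ.1).map (a ≫ d) ≫ MSky.ev T N ξ)) →
      (∀ x : X, δ x = k → x ∉ T → Subsingleton ((Groth.L00.Stk.F X x).obj A)) →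
      ∀ x : X, δ x = k → Function.Bijective ((Groth.L00.Stk.F X x).map (a ≫ Abelian.factorThruImage d)) := by
    intro A a hev hA0 x hx
    by_cases hxT : x ∈ T
    · let ι' := (Groth.L00.Stk.F X x).map (Abelian.image.ι d)
      have hfac : (Groth.L00.Stk.F X x).map (a ≫ d) =
          (Groth.L00.Stk.F X x).map (a ≫ Abelian.factorThruImage d) ≫ ι' := by
        rw [← Functor.map_comp, Category.assoc, Abelian.image.fac]
      have hb := hev ⟨x, hxT⟩
      rw [hfac] at hb
      have hι : Function.Injective ι' :=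
        (AddCommGrpCat.mono_iff_injective _).1 ((Groth.L21.Mod.mono_iff_stalk (Abelian.image.ι d)).1 inferInstance x)
      have hev' := MSky.ev_injective hT.locFin hsp ⟨x, hxT⟩ (N := N)
      refine ⟨fun p q e => hb.1 ?_, fun w => ?_⟩
      · exact congrArg (fun t => MSky.ev T N ⟨x, hxT⟩ (ι' t)) e
      · obtain ⟨u, hu⟩ := hb.2 (MSky.ev T N ⟨x, hxT⟩ (ι' w))
        exact ⟨u, hι (hev' hu)⟩
    · have hG0 : Subsingleton ((Groth.L00.Stk.F X x).obj G) :=
        not_nontrivial_iff_subsingleton.1 fun h => hxT ⟨by omega, h⟩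
      haveI : Subsingleton ((Groth.L00.Stk.F X x).obj A) := hA0 x hx hxT
      have hH0 : Subsingleton ((Groth.L00.Stk.F X x).obj (Abelian.image d)) := by
        refine not_nontrivial_iff_subsingleton.1 fun h => ?_
        rcases (Groth.L21.Mod.support_of_shortExact
          (ShortComplex.Splitting.ofHasBinaryBiproduct G E).shortExact).subset
          (Groth.L29.CohSupp.support_of_epi (Abelian.factorThruImage d) (mem_support.2 h)) with h | h
        · exact h hG0
        · exact h (θ x hx).some.toLinearEquiv.toEquiv.subsingleton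
      exact ⟨fun p q _ => Subsingleton.elim p q, fun w => ⟨0, hH0.elim _ _⟩⟩
  have e1 := toK0_eq_of_bijective (biprod.inl ≫ Abelian.factorThruImage d) hG hH (key biprod.inl
    (fun ξ => by
      rw [show (biprod.inl : G ⟶ G ⊞ E) ≫ d = γ from biprod.inl_desc _ _, MSky.map_lift_ev]
      exact Function.bijective_id)
    fun x hx hxT => not_nontrivial_iff_subsingleton.1 fun h => hxT ⟨by omega, h⟩)
  have e2 := toK0_eq_of_bijective (biprod.inr ≫ Abelian.factorThruImage d) hE hH (key biprod.inr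
    (fun ξ => by
      rw [show (biprod.inr : E ⟶ G ⊞ E) ≫ d = ε from biprod.inr_desc _ _, MSky.map_lift_ev]
      exact (θ ξ.1 (hTk ξ)).some.toLinearEquiv.bijective)
    fun x hx hxT => by
      haveI : Subsingleton ((Groth.L00.Stk.F X x).obj G) :=
        not_nontrivial_iff_subsingleton.1 fun h => hxT ⟨by omega, h⟩
      exact (θ x hx).some.toLinearEquiv.toEquiv.subsingleton)
  exact e2.trans e1.symm

include hδ in
theorem len_ne_top_of_cohLe {F : X.Modules} (h : Cyc.CohLe δ k F) {x : X} (hx : δ x = k) : len x F ≠ ⊤ :=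
  Groth.L16.CohSupport.len_ne_top h.1 fun z hz hzx => by
    by_contra hne
    have := (hδ z x hzx hne).1
    have := h.2 z (mem_support.1 hz)
    omega

include hδ in
theorem sheafFun_add {S : ShortComplex X.Modules} (hS : S.ShortExact) (h1 : Cyc.CohLe δ k S.X₁)
    (h3 : Cyc.CohLe δ k S.X₃) :
    Cyc.sheafFun δ k S.X₂ = Cyc.sheafFun δ k S.X₁ + Cyc.sheafFun δ k S.X₃ := by
  funext x
  rw [Pi.add_apply]
  by_cases hx : δ x = k
  swap
  · simp only [Cyc.sheafFun, if_neg hx, add_zero]
  simp only [Cyc.sheafFun, if_pos hx]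
  rw [show Module.length (X.presheaf.stalk x) (S.X₂.presheaf.stalk x) = len x S.X₁ + len x S.X₃ from
    Groth.L16.CohSupport.len_add hS x, ENat.toNat_add (len_ne_top_of_cohLe hδ h1 hx) (len_ne_top_of_cohLe hδ h3 hx)]
  push_cast
  rfl

variable (k) in
/-- The cycle homomorphism. -/
def Φ : Cyc.K0CohQuot δ k (k - 1) →+ (X → ℤ) :=
  QuotientAddGroup.lift _
    (QuotientAddGroup.lift _ (FreeAbelianGroup.lift fun F => Cyc.sheafFun δ k F.1) (by
      rw [KZero.relSub, AddSubgroup.closure_le]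
      rintro _ ⟨S, h1, h2, h3, hS, rfl⟩
      rw [SetLike.mem_coe, AddMonoidHom.mem_ker, map_sub, map_sub, FreeAbelianGroup.lift_apply_of,
        FreeAbelianGroup.lift_apply_of, FreeAbelianGroup.lift_apply_of]
      show Cyc.sheafFun δ k S.X₂ - Cyc.sheafFun δ k S.X₁ - Cyc.sheafFun δ k S.X₃ = 0
      rw [sheafFun_add hδ hS h1 h3]
      abel)) (by
    rw [AddSubgroup.closure_le]
    rintro _ ⟨F, hF, rfl⟩
    rw [SetLike.mem_coe, AddMonoidHom.mem_ker, KZero.clSub, dif_pos (cohLe_mono (by omega) hF)]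
    refine (FreeAbelianGroup.lift_apply_of _ _).trans (funext fun x => ?_)
    by_contra h0
    obtain ⟨hx, hnt⟩ := IntMult.sheafFun_ne_zero h0
    have := hF.2 x hnt
    omega)

theorem Φ_cl {F : X.Modules} (h : Cyc.CohLe δ k F) :
    Φ hδ k (Cyc.toK0CohQuot δ k (k - 1) F) = Cyc.sheafFun δ k F := by
  rw [Cyc.toK0CohQuot, KZero.clSub, dif_pos h]
  exact FreeAbelianGroup.lift_apply_of _ _

omit [IsLocallyNoetherian X] in
/-- The stalk of a sum is killed if the stalks of the summands are. -/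
theorem smul_stalk_sigma {I : Type*} (M : I → X.Modules) [HasCoproduct M] (x : X)
    [PreservesColimit (Discrete.functor M) (Groth.L00.Stk.F X x)]
    [HasCoproduct fun i => (Groth.L00.Stk.F X x).obj (M i)] (r : X.presheaf.stalk x)
    (h : ∀ i (v : (Groth.L00.Stk.F X x).obj (M i)), r • v = 0) (v : (Groth.L00.Stk.F X x).obj (∐ M)) :
    r • v = 0 := by
  let e := PreservesCoproduct.iso (Groth.L00.Stk.F X x) M
  have h0 : ModuleCat.ofHom (LinearMap.lsmul (X.presheaf.stalk x)
      (↥(∐ fun i => (Groth.L00.Stk.F X x).obj (M i))) r) = 0 := by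
    refine Limits.Sigma.hom_ext _ _ fun i => ?_
    ext w
    show r • (Limits.Sigma.ι (fun i => (Groth.L00.Stk.F X x).obj (M i)) i w) = _
    rw [← map_smul, h i w, map_zero, comp_zero]
    rfl
  apply e.toLinearEquiv.injective
  rw [map_smul, map_zero]
  exact LinearMap.congr_fun (congrArg ModuleCat.Hom.hom h0) (e.toLinearEquiv v)

include hδ in
theorem smul_css_eq_zero {z x : X} (hz : δ z = k) (hx : δ x = k) {r : X.presheaf.stalk x}
    (hr : r ∈ maximalIdeal (X.presheaf.stalk x))
    (v : (Groth.L00.Stk.F X x).obj (Cyc.closureStructureSheaf z)) : r • v = 0 := by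
  by_cases h : x ∈ CohB1.support (Cyc.closureStructureSheaf z)
  · obtain rfl := eq_of_css hδ hz hx h
    exact Groth.L16.Devissage.smul_eq_zero_of_simple _ (Module.length_eq_one_iff.1 (show Module.length (X.presheaf.stalk z) ((Groth.L00.Stk.F X z).obj (Cyc.closureStructureSheaf z)) = 1 from len_css z)) r hr v
  · haveI : Subsingleton ((Groth.L00.Stk.F X x).obj (Cyc.closureStructureSheaf z)) := not_not.1 h
    exact Subsingleton.elim _ _

include hδ in
theorem exists_killed {F : X.Modules} (hF : Cyc.CohLe δ k F) : ∃ G : X.Modules, Cyc.CohLe δ k G ∧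
    Cyc.toK0CohQuot δ k (k - 1) F = Cyc.toK0CohQuot δ k (k - 1) G ∧
    ∀ x : X, δ x = k → ∀ r ∈ maximalIdeal (X.presheaf.stalk x),
      ∀ v : (Groth.L00.Stk.F X x).obj G, r • v = 0 := by
  let C : Closeds X := ⟨CohB1.support F, Groth.L16.CohSupport.isClosed_support F hF.1.2⟩
  let i := (Scheme.IdealSheafData.vanishingIdeal C).subschemeι
  haveI : IsReduced (Scheme.IdealSheafData.vanishingIdeal C).subscheme :=
    Groth.L18.isReduced_vanishingIdeal_subscheme _
  have hrange : Set.range i = CohB1.support F := by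
    rw [Scheme.IdealSheafData.range_subschemeι, Groth.L18.support_vanishingIdeal]
    rfl
  open Groth.L29.SuppFilt in
  have hW : W i F := (w_iff i F).2 ⟨hF.1, hrange.ge⟩
  open Groth.L29.SuppFilt in
  have hgr : Groth.L29.DevLF.LF CohB1.support (fun j => cokernel (inc i F j)) :=
    (lf_seq i hW).mono fun j => Groth.L29.CohSupp.support_of_epi (cokernel.π (inc i F j))
  open Groth.L29.SuppFilt in
  have hsub : ∀ j, CohB1.support (seq i F j) ⊆ CohB1.support F := fun j => support_seq i F j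
  open Groth.L29.SuppFilt in
  have hsig : ∀ {M : ℕ → X.Modules}, Groth.L29.DevLF.LF CohB1.support M → (∀ j, Coh.IsCoh (M j)) →
      (∀ j, CohB1.support (M j) ⊆ CohB1.support F) → Cyc.CohLe δ k (∐ M) := fun hl hc hs =>
    ⟨Groth.L29.SuppFilt.isCoh_sigma hl hc, fun x hx => by
      obtain ⟨j, hj⟩ := Set.mem_iUnion.1 (support_sigma _ (mem_support.2 hx))
      exact hF.2 x (mem_support.1 (hs j hj))⟩
  open Groth.L29.SuppFilt in
  have hgrc : ∀ j, Coh.IsCoh (cokernel (inc i F j)) := fun j => (a_gr i hF.1 j).1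
  open Groth.L29.SuppFilt in
  have hgrs : ∀ j, CohB1.support (cokernel (inc i F j)) ⊆ CohB1.support F := fun j =>
    (Groth.L29.CohSupp.support_of_epi (cokernel.π (inc i F j))).trans (hsub j)
  open Groth.L29.SuppFilt in
  refine ⟨∐ fun j => cokernel (inc i F j), hsig hgr hgrc hgrs,
    Groth.L29.DevLF.telescope (Cyc.CohLe δ k) (Cyc.toK0CohQuot δ k (k - 1)) toK0_add (seq i F) (inc i F)
      (fun j => inferInstance) hF (hsig (lf_seq i hW) (isCoh_seq i hF.1) hsub)
      (hsig (lf_seq i hW).shift (fun j => isCoh_seq i hF.1 (j + 1)) fun j => hsub (j + 1))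
      (hsig hgr hgrc hgrs),
    fun x hx r hr v => ?_⟩
  open Groth.L29.SuppFilt in
  haveI : PreservesColimitsOfSize.{0, 0} (Groth.L00.Stk.F X x) := preservesColimitsOfSize_shrink.{0, u, 0, u} _
  open Groth.L29.SuppFilt in
  refine smul_stalk_sigma (fun j => cokernel (inc i F j)) x r (fun j w => ?_) v
  open Groth.L29.SuppFilt in
  by_cases hxF : x ∈ Set.range i
  swap
  · haveI : Subsingleton ((Groth.L00.Stk.F X x).obj (cokernel (inc i F j))) :=
      not_nontrivial_iff_subsingleton.1 fun h => hxF (hrange.ge (hgrs j (mem_support.2 h)))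
    exact Subsingleton.elim _ _
  obtain ⟨z, rfl⟩ := hxF
  have hfield : IsField ((Scheme.IdealSheafData.vanishingIdeal C).subscheme.presheaf.stalk z) := by
    refine Groth.L21.Mero.isField_of_maximal fun y hy => i.isClosedEmbedding.injective ?_
    by_contra hne
    have h1 := (hδ (i y) (i z) (hy.map i.continuous) hne).1
    have h2 := hF.2 (i y) (mem_support.1 (hrange.le ⟨y, rfl⟩))
    omega
  haveI := (Groth.L29.SuppFilt.a_gr i hF.1 j).2
  let e := asIso ((Scheme.Modules.pullbackPushforwardAdjunction i).unit.app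
    (cokernel (Groth.L29.SuppFilt.inc i F j)))
  apply ((Groth.L00.Stk.F X (i z)).mapIso e).toLinearEquiv.injective
  rw [map_smul, map_zero]
  apply (Groth.L17.ClosedPush.c₀_bijective i _ z).1
  refine (Groth.L17.ClosedPush.c₀_smul i _ z r _).trans ?_
  have hφ : Groth.L00.PullStalk.φ i z r = 0 := by
    by_contra hne
    obtain ⟨b, hb⟩ := hfield.mul_inv_cancel hne
    exact (IsLocalRing.mem_maximalIdeal r).1 hr (isUnit_of_map_unit (i.stalkMap z).hom r (IsUnit.of_mul_eq_one b hb))
  rw [hφ, zero_smul, map_zero]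

include hδ in
/-- Dévissage: the class is that of the sheaf of the cycle. -/
theorem toK0_eq_cycleSheaf {F : X.Modules} (hF : Cyc.CohLe δ k F) (α : AlgebraicCycle X ℤ)
    (hα : ⇑α = Cyc.sheafFun δ k F) :
    Cyc.toK0CohQuot δ k (k - 1) F = Cyc.toK0CohQuot δ k (k - 1) (Cyc.cycleSheafPos ⇑α) := by
  have hαk : α ∈ Cyc.Zk X δ k := fun x hx => by rw [hα, Cyc.sheafFun, if_neg hx]
  obtain ⟨hE, hEs⟩ := cycleSheafPos_spec hδ α hαk
  obtain ⟨G, hG, hFG, hkill⟩ := exists_killed hδ hF
  have hfun : Cyc.sheafFun δ k G = Cyc.sheafFun δ k (Cyc.cycleSheafPos ⇑α) := by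
    have e := congrArg (Φ hδ k) hFG
    rw [Φ_cl hδ hF, Φ_cl hδ hG] at e
    rw [hEs, hα, ← e]
    funext x
    refine (max_eq_left ?_).symm
    unfold Cyc.sheafFun
    split_ifs <;> simp
  rw [hFG]
  refine (toK0_eq_of_equiv hδ hG hE fun x hx => ?_).symm
  have h := congrFun hfun x
  simp only [Cyc.sheafFun, if_pos hx] at h
  have hl : len x (Cyc.cycleSheafPos ⇑α) = len x G := by
    have h1 := len_ne_top_of_cohLe hδ hG hx
    have h2 := len_ne_top_of_cohLe hδ hE hx
    rw [← ENat.natCast_toNat h1, ← ENat.natCast_toNat h2]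
    exact congrArg _ (by exact_mod_cast h.symm)
  refine ⟨(nonempty_equiv_of_killed (fun r hr v => ?_) (fun r hr v => hkill x hx r hr v)
    (len_ne_top_of_cohLe hδ hE hx) hl).some.toModuleIso⟩
  refine smul_stalk_sigma (fun i : (Σ ζ : {ζ : X // 0 < α ζ}, Fin (α ζ.1).toNat) =>
    Cyc.closureStructureSheaf i.1.1) x r (fun i w => smul_css_eq_zero hδ ?_ hx hr w) v
  by_contra hne
  exact (ne_of_gt i.1.2) (hαk _ hne)

end Groth.L22.LatDeg
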