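import Groth.Agent.L22.LatDeg.Indep

/-!
Composition series through injective and surjective maps.
-/

set_option autoImplicit false
set_option linter.style.haveILetI false
set_option backward.isDefEq.respectTransparency false

universe u

open IsLocalRing

noncomputable section

namespace Groth.L22.LatDeg

variable {K : Type u} [CommRing K] [IsLocalRing K] {V W : Type u} [AddCommGroup V] [Module K V]
  [AddCommGroup W] [Module K W]

theorem exists_preimage (f : V →ₗ[K] W) (hf : Function.Injective f) {U : Submodule K V} (u : U.map f) :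
    ∃ v : U, f v = u := by
  obtain ⟨v, hv, e⟩ := u.2
  exact ⟨⟨v, hv⟩, e⟩

/-- The functional transported to the image. -/
def mapFun (f : V →ₗ[K] W) (hf : Function.Injective f) {U : Submodule K V} (π : U →ₗ[K] ResidueField K) :
    U.map f →ₗ[K] ResidueField K := π.comp (Submodule.equivMapOfInjective f hf U).symm.toLinearMap

theorem mapFun_apply (f : V →ₗ[K] W) (hf : Function.Injective f) {U : Submodule K V} (π : U →ₗ[K] ResidueField K)
    (v : V) (hv : v ∈ U) : mapFun f hf π ⟨f v, ⟨v, hv, rfl⟩⟩ = π ⟨v, hv⟩ := by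
  show π ((Submodule.equivMapOfInjective f hf U).symm ⟨f v, _⟩) = _
  congr 1
  rw [LinearEquiv.symm_apply_eq]
  rfl

/-- The image of a series. -/
def Ser.map (f : V →ₗ[K] W) (hf : Function.Injective f) : {U : Submodule K V} → Ser K V U → Ser K W (U.map f)
  | _, .nil => (Submodule.map_bot f).symm ▸ Ser.nil
  | _, .cons (U' := U') s π hsurj hker hle => .cons (s.map f hf) (mapFun f hf π)
      (hsurj.comp (Submodule.equivMapOfInjective f hf _).symm.surjective)
      (fun ⟨_, v, hv, rfl⟩ => by
        rw [mapFun_apply f hf π v hv, hker]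
        exact ⟨fun h => ⟨v, h, rfl⟩, fun ⟨w, hw, e⟩ => hf e ▸ hw⟩)
      (Submodule.map_mono hle)

/-- The preimage of a series, continuing a series of the kernel. -/
def Ser.comap (g : V →ₗ[K] W) (hg : Function.Surjective g) (b : Ser K V (LinearMap.ker g)) :
    {U : Submodule K W} → Ser K W U → Ser K V (U.comap g)
  | _, .nil => b
  | _, .cons (U' := U') (U := U) s π hsurj hker hle => .cons (Ser.comap g hg b s)
      (π.comp (g.restrict (p := U.comap g) (q := U) fun _ h => h))
      (hsurj.comp fun w => by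
        obtain ⟨v, hv⟩ := hg w
        exact ⟨⟨v, show g v ∈ U from hv ▸ w.2⟩, Subtype.ext hv⟩)
      (fun u => hker ⟨g u, u.2⟩) (Submodule.comap_mono hle)

/-- The series of a middle term built from series of the ends. -/
def Ser.ext {A : Type u} [AddCommGroup A] [Module K A] (f : A →ₗ[K] V) (hf : Function.Injective f) (g : V →ₗ[K] W)
    (hg : Function.Surjective g) (hfg : LinearMap.range f = LinearMap.ker g) (sA : Ser K A ⊤) (sC : Ser K W ⊤) :
    Ser K V ⊤ :=
  (Submodule.comap_top g) ▸ Ser.comap g hg (((Submodule.map_top f).trans hfg) ▸ sA.map f hf) sC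

variable {R : Type u} [CommRing R] [Algebra R K] [Module R V] [IsScalarTower R K V] [Module R W]
  [IsScalarTower R K W]

theorem lam_cast {U U' : Submodule K V} (e : U = U') (s : Ser K V U) (N : Submodule R V) :
    (e ▸ s : Ser K V U').lam N = s.lam N := by
  subst e
  rfl

theorem Ser.lam_map (f : V →ₗ[K] W) (hf : Function.Injective f) {U : Submodule K V} :
    (s : Ser K V U) → ∀ (N : Submodule R W),
      (s.map f hf).lam N = s.lam (N.comap (f.restrictScalars R) ⊓ U.restrictScalars R)
  | .nil, N => by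
    rw [Ser.map, lam_cast]
    rfl
  | .cons (U' := U') (U := U) s π hsurj hker hle, N => by
    have h1 : img (mapFun f hf π) N = img π (N.comap (f.restrictScalars R) ⊓ U.restrictScalars R) := by
      ext c
      rw [mem_img, mem_img]
      constructor
      · rintro ⟨_, ⟨v, hv, rfl⟩, hN, rfl⟩
        exact ⟨v, hv, ⟨hN, hv⟩, (mapFun_apply f hf π v hv).symm⟩
      · rintro ⟨v, hv, ⟨hN, -⟩, rfl⟩
        exact ⟨f v, ⟨v, hv, rfl⟩, hN, mapFun_apply f hf π v hv⟩
    have h2 : (N ⊓ (U'.map f).restrictScalars R).comap (f.restrictScalars R) ⊓ U'.restrictScalars R =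
        N.comap (f.restrictScalars R) ⊓ U.restrictScalars R ⊓ U'.restrictScalars R := by
      ext v
      constructor
      · rintro ⟨⟨h1, -⟩, h2⟩
        exact ⟨⟨h1, hle h2⟩, h2⟩
      · rintro ⟨⟨h1, -⟩, h2⟩
        exact ⟨⟨h1, v, h2, rfl⟩, h2⟩
    rw [Ser.map, Ser.lam_cons, Ser.lam_cons, s.lam_map f hf, h1, h2]

theorem Ser.lam_comap (g : V →ₗ[K] W) (hg : Function.Surjective g) (b : Ser K V (LinearMap.ker g))
    {U : Submodule K W} : (s : Ser K W U) → ∀ (N : Submodule R V), (∀ v ∈ N, g v ∈ U) →
      (Ser.comap g hg b s).lam N = s.lam (N.map (g.restrictScalars R)) + b.lam (N ⊓ (LinearMap.ker g).restrictScalars R)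
  | .nil, N, hN => by
    show b.lam N = 0 + _
    rw [zero_add, inf_eq_left.2 (show N ≤ (LinearMap.ker g).restrictScalars R from fun v hv =>
      (Submodule.mem_bot K).1 (hN v hv))]
  | .cons (U' := U') (U := U) s π hsurj hker hle, N, hN => by
    have h1 : img (π.comp (g.restrict (p := U.comap g) (q := U) fun _ h => h)) N =
        img π (N.map (g.restrictScalars R)) := by
      ext c
      rw [mem_img, mem_img]
      constructor
      · rintro ⟨v, hv, hvN, rfl⟩
        exact ⟨g v, hv, ⟨v, hvN, rfl⟩, rfl⟩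
      · rintro ⟨_, hv, ⟨v, hvN, rfl⟩, rfl⟩
        exact ⟨v, hv, hvN, rfl⟩
    have h2 : (N ⊓ (U'.comap g).restrictScalars R).map (g.restrictScalars R) =
        N.map (g.restrictScalars R) ⊓ U'.restrictScalars R := by
      ext w
      constructor
      · rintro ⟨v, hv, rfl⟩
        exact ⟨⟨v, hv.1, rfl⟩, hv.2⟩
      · rintro ⟨⟨v, hv, rfl⟩, hw⟩
        exact ⟨v, ⟨hv, hw⟩, rfl⟩
    have h3 : N ⊓ (U'.comap g).restrictScalars R ⊓ (LinearMap.ker g).restrictScalars R =
        N ⊓ (LinearMap.ker g).restrictScalars R := by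
      refine le_antisymm (inf_le_inf_right _ inf_le_left) fun v hv => ⟨⟨hv.1, ?_⟩, hv.2⟩
      show g v ∈ U'
      rw [show g v = 0 from hv.2]
      exact U'.zero_mem
    rw [Ser.comap, Ser.lam_cons, Ser.lam_cons, Ser.lam_comap g hg b s (N ⊓ (U'.comap g).restrictScalars R) (fun v hv => hv.2), h1, h2, h3]
    ring

theorem Ser.depth_comap (g : V →ₗ[K] W) (hg : Function.Surjective g) (b : Ser K V (LinearMap.ker g))
    {U : Submodule K W} : (s : Ser K W U) → (Ser.comap g hg b s).depth = s.depth + b.depth
  | .nil => (zero_add _).symm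
  | .cons s _ _ _ _ => by
    show (Ser.comap g hg b s).depth + 1 = s.depth + 1 + b.depth
    rw [Ser.depth_comap g hg b s]
    ring

end Groth.L22.LatDeg
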