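import Groth.Agent.L22.LatDeg.Lam

/-!
Existence of composition series, independence of the series, and transport along exact sequences.
-/

set_option autoImplicit false
set_option linter.style.haveILetI false
set_option backward.isDefEq.respectTransparency false

universe u

open IsLocalRing

noncomputable section

namespace Groth.L22.LatDeg

variable {K : Type u} [CommRing K] [IsLocalRing K] {V : Type u} [AddCommGroup V] [Module K V]

theorem Ser.length_eq {U : Submodule K V} : (s : Ser K V U) → Module.length K U = (s.depth : ℕ∞)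
  | .nil => by
    rw [Ser.depth, Nat.cast_zero, Module.length_eq_zero_iff]
    infer_instance
  | .cons (U' := U') s π hsurj hker hle => by
    have hex : Function.Exact (Submodule.inclusion hle) π := fun u => by
      rw [hker]
      exact ⟨fun h => ⟨⟨u, h⟩, rfl⟩, fun ⟨w, hw⟩ => hw ▸ w.2⟩
    have h1 := Module.length_eq_add_of_exact (Submodule.inclusion hle) π (Submodule.inclusion_injective hle) hsurj hex
    haveI : IsSimpleModule K (ResidueField K) :=
      isSimpleModule_iff_quot_maximal.2 ⟨maximalIdeal K, inferInstance, ⟨LinearEquiv.refl _ _⟩⟩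
    have h2 : Module.length K (ResidueField K) = 1 := Module.length_eq_one K _
    rw [h1, s.length_eq, h2, Ser.depth, Nat.cast_add, Nat.cast_one]

theorem Ser.depth_eq {U : Submodule K V} (s s' : Ser K V U) : s.depth = s'.depth := by
  exact_mod_cast s.length_eq.symm.trans s'.length_eq

/-- Submodules of a module of finite length have composition series. -/
theorem exists_ser [IsNoetherian K V] [IsArtinian K V] (U : Submodule K V) : Nonempty (Ser K V U) := by
  induction U using IsArtinian.induction with
  | hgt U ih =>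
    by_cases hU : U = ⊥
    · subst hU; exact ⟨.nil⟩
    obtain ⟨U', hU'U, hmax⟩ := set_has_maximal_iff_noetherian.2 ‹IsNoetherian K V› {W | W < U} ⟨⊥, bot_lt_iff_ne_bot.2 hU⟩
    replace hU'U : U' < U := hU'U
    have hle : U' ≤ U := le_of_lt hU'U
    have hbig : ∀ W : Submodule K V, U' ≤ W → W ≤ U → ¬ W ≤ U' → W = U := fun W h1 h2 h3 => by
      by_contra h
      exact hmax W (lt_of_le_of_ne h2 h) (lt_of_le_of_ne h1 fun e => h3 e.ge)
    have hmU : maximalIdeal K • U ≤ U' := by
      by_contra h
      have e := hbig (U' ⊔ maximalIdeal K • U) le_sup_left (sup_le hle Submodule.smul_le_right)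
        fun h' => h (le_sup_right.trans h')
      exact hU'U.not_ge (Submodule.le_of_le_smul_of_le_jacobson_bot (IsNoetherian.noetherian U)
        (jacobson_eq_maximalIdeal ⊥ bot_ne_top).ge e.ge)
    obtain ⟨v, hvU, hvU'⟩ := SetLike.exists_of_lt hU'U
    let φ : K →ₗ[K] ↥U ⧸ U'.submoduleOf U := LinearMap.toSpanSingleton K _ (Submodule.Quotient.mk ⟨v, hvU⟩)
    have hφ : Function.Surjective φ := fun y => by
      obtain ⟨⟨w, hw⟩, rfl⟩ := Submodule.Quotient.mk_surjective _ y
      have hw' : w ∈ U' ⊔ Submodule.span K {v} := by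
        rw [hbig _ le_sup_left (sup_le hle ((Submodule.span_singleton_le_iff_mem _ _).2 hvU))
          fun h => hvU' (h (Submodule.mem_sup_right (Submodule.mem_span_singleton_self v)))]
        exact hw
      obtain ⟨p, hp, q, hq, rfl⟩ := Submodule.mem_sup.1 hw'
      obtain ⟨a, rfl⟩ := Submodule.mem_span_singleton.1 hq
      refine ⟨a, ?_⟩
      rw [LinearMap.toSpanSingleton_apply, ← Submodule.Quotient.mk_smul, Submodule.Quotient.eq]
      show a • v - (p + a • v) ∈ U'
      rw [show a • v - (p + a • v) = -p by abel]
      exact U'.neg_mem hp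
    have hker : LinearMap.ker φ = maximalIdeal K := by
      refine le_antisymm (le_maximalIdeal ?_) fun a ha => ?_
      · rw [Ideal.ne_top_iff_one]
        intro h
        rw [LinearMap.mem_ker, LinearMap.toSpanSingleton_apply, one_smul, Submodule.Quotient.mk_eq_zero] at h
        exact hvU' h
      · rw [LinearMap.mem_ker, LinearMap.toSpanSingleton_apply, ← Submodule.Quotient.mk_smul,
          Submodule.Quotient.mk_eq_zero]
        exact hmU (Submodule.smul_mem_smul ha hvU)
    let e : ResidueField K ≃ₗ[K] ↥U ⧸ U'.submoduleOf U :=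
      (Submodule.quotEquivOfEq _ _ hker.symm).trans (φ.quotKerEquivOfSurjective hφ)
    obtain ⟨s⟩ := ih U' hU'U
    exact ⟨.cons s (e.symm.toLinearMap.comp (Submodule.mkQ _)) (e.symm.surjective.comp (Submodule.mkQ_surjective _))
      (fun u => by
        rw [LinearMap.comp_apply, LinearEquiv.coe_coe, LinearEquiv.map_eq_zero_iff, Submodule.mkQ_apply,
          Submodule.Quotient.mk_eq_zero]
        rfl) hle⟩

theorem exists_unit_lift {c : ResidueField K} (hc : c ≠ 0) : ∃ a : K, IsUnit a ∧ residue K a = c := by
  obtain ⟨a, rfl⟩ := residue_surjective c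
  refine ⟨a, by_contra fun h => hc ?_, rfl⟩
  exact (residue_eq_zero_iff a).2 ((mem_maximalIdeal _).2 h)

section Swap

variable {U U' U'' : Submodule K V} (π : U →ₗ[K] ResidueField K) (π'' : U →ₗ[K] ResidueField K)
  (hker : ∀ u : U, π u = 0 ↔ (u : V) ∈ U') (hker'' : ∀ u : U, π'' u = 0 ↔ (u : V) ∈ U'')
  (hle' : U' ≤ U) (hle'' : U'' ≤ U) (hsurj'' : Function.Surjective π'')

include hker hker'' hle' hle'' hsurj'' in
theorem exists_mem_of_ne (hne : U' ≠ U'') (hsurj : Function.Surjective π) : ∃ v : V, ∃ hv : v ∈ U'', π ⟨v, hle'' hv⟩ = 1 := by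
  obtain ⟨w, hw, hw'⟩ : ∃ w ∈ U'', w ∉ U' := by
    by_contra h
    push Not at h
    obtain ⟨w, hw, hw'⟩ : ∃ w ∈ U', w ∉ U'' := by
      by_contra h2
      push Not at h2
      exact hne (le_antisymm h2 h)
    obtain ⟨u, hu⟩ := hsurj 1
    have hwU : w ∈ U := by
      obtain ⟨x, hx⟩ := hsurj'' 1
      by_contra hwU
      exact hwU (hle' hw)
    obtain ⟨a, ha⟩ := residue_surjective (π'' u / π'' ⟨w, hwU⟩)
    have h0 : π'' ⟨w, hwU⟩ ≠ 0 := fun e => hw' ((hker'' _).1 e)
    have h1 : π'' (u - a • ⟨w, hwU⟩) = 0 := by
      rw [map_sub, map_smul, Algebra.smul_def, ResidueField.algebraMap_eq, ha, div_mul_cancel₀ _ h0, sub_self]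
    have h2 := (hker _).2 (h _ ((hker'' _).1 h1))
    rw [map_sub, map_smul, hu, (hker ⟨w, hwU⟩).2 hw, smul_zero, sub_zero] at h2
    exact one_ne_zero h2
  have h0 : π ⟨w, hle'' hw⟩ ≠ 0 := fun e => hw' ((hker _).1 e)
  obtain ⟨a, ha⟩ := residue_surjective (π ⟨w, hle'' hw⟩)⁻¹
  refine ⟨a • w, U''.smul_mem a hw, ?_⟩
  rw [show (⟨a • w, hle'' (U''.smul_mem a hw)⟩ : U) = a • ⟨w, hle'' hw⟩ from rfl, map_smul, Algebra.smul_def,
    ResidueField.algebraMap_eq, ha, inv_mul_cancel₀ h0]

end Swap

section Indep

variable {R : Type u} [CommRing R] [Algebra R K] [Module R V] [IsScalarTower R K V]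

/-- The degree of the image of a lattice generated over a smaller one by a normalised element. -/
theorem img_eq_one [Adm R K] {U : Submodule K V} (π : U →ₗ[K] ResidueField K) {N : Submodule R V}
    {N0 : Submodule R V} {v : V} (hv : v ∈ U) (hvN : v ∈ N) (h1 : π ⟨v, hv⟩ = 1)
    (hN : ∀ w ∈ N, ∃ r : R, w - r • v ∈ N0) (h0 : ∀ w ∈ N0, ∀ hw : w ∈ U, π ⟨w, hw⟩ = 0) :
    img π N = one (R := R) K := by
  ext c
  rw [mem_img, one, Submodule.mem_span_singleton]
  constructor
  · rintro ⟨w, hw, hwN, rfl⟩
    obtain ⟨r, hr⟩ := hN w hwN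
    refine ⟨r, ?_⟩
    have hmem : w - r • v ∈ U := U.sub_mem hw ((U.restrictScalars R).smul_mem r hv)
    have e := h0 _ hr hmem
    rw [show (⟨w - r • v, hmem⟩ : U) = ⟨w, hw⟩ - r • ⟨v, hv⟩ from rfl, map_sub, sub_eq_zero,
      LinearMap.map_smul_of_tower, h1] at e
    exact e.symm
  · rintro ⟨r, rfl⟩
    refine ⟨r • v, (U.restrictScalars R).smul_mem r hv, N.smul_mem r hvN, ?_⟩
    rw [show (⟨r • v, (U.restrictScalars R).smul_mem r hv⟩ : U) = r • ⟨v, hv⟩ from rfl,
      LinearMap.map_smul_of_tower, h1]

end Indep

/-- Two series differ by the order of a nonzero element of the residue field, uniformly in the base. -/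
theorem exists_ord [IsNoetherian K V] [IsArtinian K V] :
    ∀ (n : ℕ) (U : Submodule K V) (s s' : Ser K V U), s.depth = n →
      ∃ c : ResidueField K, c ≠ 0 ∧ ∀ (R : Type u) [CommRing R] [Algebra R K] [Module R V] [IsScalarTower R K V]
        [Adm R K] (N : Submodule R V), IsLat U N → s.lam N - s'.lam N = ordR R c := by
  intro n
  induction n with
  | zero =>
    intro U s s' hs
    refine ⟨1, one_ne_zero, fun R _ _ _ _ _ N _ => ?_⟩
    have hs' : s'.depth = 0 := (s'.depth_eq s).trans hs
    cases s with
    | cons _ _ _ _ _ => simp [Ser.depth] at hs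
    | nil =>
      cases s' with
      | cons _ _ _ _ _ => simp [Ser.depth] at hs'
      | nil => rw [sub_self, ordR_one]
  | succ n ih =>
    intro U s s' hs
    have hs' : s'.depth = n + 1 := (s'.depth_eq s).trans hs
    cases s with
    | nil => simp [Ser.depth] at hs
    | cons s π hsurj hker hle =>
      rename_i U'
      cases s' with
      | nil => simp [Ser.depth] at hs'
      | cons s' π' hsurj' hker' hle' =>
        rename_i U''
        have hd : s.depth = n := by simpa [Ser.depth] using hs
        have hd' : s'.depth = n := by simpa [Ser.depth] using hs'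
        by_cases hUU : U' = U''
        · subst hUU
          obtain ⟨c, hc, hcc⟩ := ih U' s s' hd
          obtain ⟨u, hu⟩ := hsurj 1
          have hb : π' u ≠ 0 := fun e => one_ne_zero (hu.symm.trans ((hker u).2 ((hker' u).1 e)))
          have hπ : ∀ w, π' w = π' u * π w := fun w => by
            obtain ⟨a, ha⟩ := residue_surjective (π w)
            have h1 : π (w - a • u) = 0 := by
              rw [map_sub, map_smul, hu, Algebra.smul_def, ResidueField.algebraMap_eq, ha, mul_one, sub_self]
            have h2 := (hker' _).2 ((hker _).1 h1)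
            rw [map_sub, map_smul, Algebra.smul_def, ResidueField.algebraMap_eq, ha, sub_eq_zero] at h2
            rw [h2, mul_comm]
          refine ⟨π' u * c, mul_ne_zero hb hc, fun R _ _ _ _ _ N hN => ?_⟩
          have himg : img π' N = (img π N).map (mulBy (π' u)) := by
            ext d
            rw [mem_img, Submodule.mem_map]
            constructor
            · rintro ⟨w, hw, hwN, rfl⟩
              exact ⟨π ⟨w, hw⟩, mem_img.2 ⟨w, hw, hwN, rfl⟩, (hπ _).symm⟩
            · rintro ⟨_, he, rfl⟩
              obtain ⟨w, hw, hwN, rfl⟩ := mem_img.1 he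
              exact ⟨w, hw, hwN, hπ _⟩
          rw [Ser.lam_cons, Ser.lam_cons, himg, deg_map_mulBy (isLat_img hN hsurj) hb, ordR_mul hb hc,
            ← hcc R _ (hN.restrict hle)]
          ring
        · obtain ⟨v'', hv'', hπv''⟩ := exists_mem_of_ne π π' hker hker' hle hle' hsurj' hUU hsurj
          obtain ⟨v', hv', hπ'v'⟩ := exists_mem_of_ne π' π hker' hker hle' hle hsurj (Ne.symm hUU) hsurj'
          obtain ⟨t⟩ := exists_ser (U' ⊓ U'')
          have hs1 : Function.Surjective (π'.comp (Submodule.inclusion hle)) := fun d => by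
            obtain ⟨a, rfl⟩ := residue_surjective d
            exact ⟨a • ⟨v', hv'⟩, by
              rw [map_smul, LinearMap.comp_apply, show Submodule.inclusion hle ⟨v', hv'⟩ = ⟨v', hle hv'⟩ from rfl,
                hπ'v', Algebra.smul_def, ResidueField.algebraMap_eq, mul_one]⟩
          have hs2 : Function.Surjective (π.comp (Submodule.inclusion hle')) := fun d => by
            obtain ⟨a, rfl⟩ := residue_surjective d
            exact ⟨a • ⟨v'', hv''⟩, by
              rw [map_smul, LinearMap.comp_apply, show Submodule.inclusion hle' ⟨v'', hv''⟩ = ⟨v'', hle' hv''⟩ from rfl,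
                hπv'', Algebra.smul_def, ResidueField.algebraMap_eq, mul_one]⟩
          have hk1 : ∀ u : U', π'.comp (Submodule.inclusion hle) u = 0 ↔ (u : V) ∈ U' ⊓ U'' := fun u =>
            (hker' _).trans ⟨fun h => ⟨u.2, h⟩, fun h => h.2⟩
          have hk2 : ∀ u : U'', π.comp (Submodule.inclusion hle') u = 0 ↔ (u : V) ∈ U' ⊓ U'' := fun u =>
            (hker _).trans ⟨fun h => ⟨h, u.2⟩, fun h => h.1⟩
          let t1 := Ser.cons t _ hs1 hk1 inf_le_left
          let t2 := Ser.cons t _ hs2 hk2 inf_le_right
          obtain ⟨c1, hc1, hcc1⟩ := ih U' s t1 hd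
          obtain ⟨c2, hc2, hcc2⟩ := ih U'' t2 s' ((Ser.depth_eq t2 s').trans hd')
          refine ⟨c1 * c2, mul_ne_zero hc1 hc2, fun R _ _ _ _ _ N hN => ?_⟩
          rw [ordR_mul hc1 hc2, Ser.lam_cons, Ser.lam_cons]
          obtain ⟨L0, hL0⟩ := IsLat.exists (R := R) (IsNoetherian.noetherian (U' ⊓ U''))
          let q := (maximalIdeal K).comap (algebraMap R K)
          let Q : V → Submodule R V := fun v => Submodule.map (LinearMap.toSpanSingleton R V v) q
          haveI := Adm.noeth (R := R) (K := K)
          have hQfg : ∀ v, (Q v).FG := fun v => (IsNoetherian.noetherian q).map _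
          have hQ : ∀ v ∈ U', v ∈ U → ∀ w ∈ Q v, w ∈ U' := fun v hv _ w hw => by
            obtain ⟨a, -, rfl⟩ := hw
            exact (U'.restrictScalars R).smul_mem a hv
          have hQ' : ∀ v ∈ U'', v ∈ U → ∀ w ∈ Q v, w ∈ U'' := fun v hv _ w hw => by
            obtain ⟨a, -, rfl⟩ := hw
            exact (U''.restrictScalars R).smul_mem a hv
          have hQ0 : ∀ (ρ : U →ₗ[K] ResidueField K) (v : V) (hv : v ∈ U), ∀ a ∈ q,
              ρ ⟨a • v, (U.restrictScalars R).smul_mem a hv⟩ = 0 := fun ρ v hv a ha => by
            rw [show (⟨a • v, (U.restrictScalars R).smul_mem a hv⟩ : U) = a • ⟨v, hv⟩ from rfl,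
              LinearMap.map_smul_of_tower, Algebra.smul_def, IsScalarTower.algebraMap_apply R K (ResidueField K),
              ResidueField.algebraMap_eq, (residue_eq_zero_iff _).2 ha, zero_mul]
          let N0 := L0 ⊔ Q v' ⊔ Q v''
          have hN0mem : ∀ w ∈ N0, w ∈ U' ⊓ U'' := by
            have : N0 ≤ (U' ⊓ U'').restrictScalars R := by
              refine sup_le (sup_le (fun w hw => hL0.le w hw) ?_) ?_
              · rintro _ ⟨a, ha, rfl⟩
                exact ⟨(U'.restrictScalars R).smul_mem a hv', (hker' _).1 (hQ0 π' v' (hle hv') a ha)⟩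
              · rintro _ ⟨a, ha, rfl⟩
                exact ⟨(hker _).1 (hQ0 π v'' (hle' hv'') a ha), (U''.restrictScalars R).smul_mem a hv''⟩
            exact this
          have hN0 : IsLat (U' ⊓ U'') N0 :=
            hL0.mono (((hL0.fg.sup (hQfg v')).sup (hQfg v''))) (le_sup_left.trans le_sup_left) hN0mem
          let M := N0 ⊔ Submodule.span R {v'} ⊔ Submodule.span R {v''}
          have hM : IsLat U M := by
            refine ⟨(hN0.fg.sup (Submodule.fg_span_singleton _)).sup (Submodule.fg_span_singleton _), ?_, ?_⟩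
            · have : M ≤ U.restrictScalars R := sup_le (sup_le (fun w hw => hle (hN0mem w hw).1)
                ((Submodule.span_singleton_le_iff_mem _ _).2 (hle hv')))
                ((Submodule.span_singleton_le_iff_mem _ _).2 (hle' hv''))
              exact this
            · intro u hu
              obtain ⟨a, ha⟩ := residue_surjective (π ⟨u, hu⟩)
              obtain ⟨b, hb⟩ := residue_surjective (π' ⟨u, hu⟩)
              have hmem : u - a • v'' - b • v' ∈ U' ⊓ U'' := by
                have hU : u - a • v'' - b • v' ∈ U := U.sub_mem (U.sub_mem hu (U.smul_mem a (hle' hv''))) (U.smul_mem b (hle hv'))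
                have e : (⟨_, hU⟩ : U) = ⟨u, hu⟩ - a • ⟨v'', hle' hv''⟩ - b • ⟨v', hle hv'⟩ := rfl
                refine ⟨(hker ⟨_, hU⟩).1 ?_, (hker' ⟨_, hU⟩).1 ?_⟩
                · rw [e, map_sub, map_sub, map_smul, map_smul, hπv'', (hker ⟨v', hle hv'⟩).2 hv', smul_zero, sub_zero,
                    Algebra.smul_def, ResidueField.algebraMap_eq, ha, mul_one, sub_self]
                · rw [e, map_sub, map_sub, map_smul, map_smul, hπ'v', (hker' ⟨v'', hle' hv''⟩).2 hv'', smul_zero,
                    sub_zero, Algebra.smul_def, ResidueField.algebraMap_eq, hb, mul_one, sub_self]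
              obtain ⟨r1, hr1, hm1⟩ := hN0.span _ hmem
              obtain ⟨a1, b1, hb1, hab1⟩ := exists_den (R := R) a
              obtain ⟨a2, b2, hb2, hab2⟩ := exists_den (R := R) b
              have hqp : ∀ x y, x ∉ q → y ∉ q → x * y ∉ q := fun x y hx hy h =>
                ((Ideal.IsPrime.comap (algebraMap R K)).mem_or_mem h).elim hx hy
              refine ⟨r1 * b1 * b2, hqp _ _ (hqp _ _ hr1 hb1) hb2, ?_⟩
              have e1 : (r1 * b1 * b2) • u = (b1 * b2) • (r1 • (u - a • v'' - b • v')) +
                  (r1 * b2 * a1) • v'' + (r1 * b1 * a2) • v' := by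
                have f1 : a1 • v'' = b1 • (a • v'') := by
                  rw [← IsScalarTower.algebraMap_smul K b1, smul_smul, mul_comm, hab1, IsScalarTower.algebraMap_smul]
                have f2 : a2 • v' = b2 • (b • v') := by
                  rw [← IsScalarTower.algebraMap_smul K b2, smul_smul, mul_comm, hab2, IsScalarTower.algebraMap_smul]
                rw [mul_smul (r1 * b2) a1, f1, mul_smul (r1 * b1) a2, f2]
                module
              rw [e1]
              exact add_mem (add_mem (Submodule.smul_mem _ _ (Submodule.mem_sup_left (Submodule.mem_sup_left hm1)))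
                (Submodule.smul_mem _ _ (Submodule.mem_sup_right (Submodule.mem_span_singleton_self _))))
                (Submodule.smul_mem _ _ (Submodule.mem_sup_left (Submodule.mem_sup_right (Submodule.mem_span_singleton_self _))))
          have hdec : ∀ w ∈ M, ∃ w0 ∈ N0, ∃ r r'' : R, w = w0 + r • v' + r'' • v'' := fun w hw => by
            obtain ⟨y, hy, z, hz, rfl⟩ := Submodule.mem_sup.1 hw
            obtain ⟨w0, hw0, z', hz', rfl⟩ := Submodule.mem_sup.1 hy
            obtain ⟨r, rfl⟩ := Submodule.mem_span_singleton.1 hz'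
            obtain ⟨r'', rfl⟩ := Submodule.mem_span_singleton.1 hz
            exact ⟨w0, hw0, r, r'', rfl⟩
          have hM'' : ∀ w ∈ M, w ∈ U'' → ∃ r'' : R, w - r'' • v'' ∈ N0 := fun w hw hwU => by
            obtain ⟨w0, hw0, r, r'', rfl⟩ := hdec w hw
            refine ⟨r'', ?_⟩
            rw [add_sub_cancel_right]
            refine add_mem hw0 ?_
            have hmem : r • v' ∈ U'' := by
              have : r • v' = (w0 + r • v' + r'' • v'') - w0 - r'' • v'' := by abel
              rw [this]
              exact U''.sub_mem (U''.sub_mem hwU (hN0mem w0 hw0).2) ((U''.restrictScalars R).smul_mem r'' hv'')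
            have hrq : r ∈ q := by
              have := (hker' ⟨r • v', hle' hmem⟩).2 hmem
              rw [show (⟨r • v', hle' hmem⟩ : U) = r • ⟨v', hle hv'⟩ from rfl, LinearMap.map_smul_of_tower, hπ'v',
                Algebra.smul_def, mul_one, IsScalarTower.algebraMap_apply R K (ResidueField K),
                ResidueField.algebraMap_eq, residue_eq_zero_iff] at this
              exact this
            exact Submodule.mem_sup_left (Submodule.mem_sup_right ⟨r, hrq, rfl⟩)
          have hM' : ∀ w ∈ M, w ∈ U' → ∃ r : R, w - r • v' ∈ N0 := fun w hw hwU => by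
            obtain ⟨w0, hw0, r, r'', rfl⟩ := hdec w hw
            refine ⟨r, ?_⟩
            rw [show w0 + r • v' + r'' • v'' - r • v' = w0 + r'' • v'' by abel]
            refine add_mem hw0 ?_
            have hmem : r'' • v'' ∈ U' := by
              have : r'' • v'' = (w0 + r • v' + r'' • v'') - w0 - r • v' := by abel
              rw [this]
              exact U'.sub_mem (U'.sub_mem hwU (hN0mem w0 hw0).1) ((U'.restrictScalars R).smul_mem r hv')
            have hrq : r'' ∈ q := by
              have := (hker ⟨r'' • v'', hle hmem⟩).2 hmem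
              rw [show (⟨r'' • v'', hle hmem⟩ : U) = r'' • ⟨v'', hle' hv''⟩ from rfl, LinearMap.map_smul_of_tower, hπv'',
                Algebra.smul_def, mul_one, IsScalarTower.algebraMap_apply R K (ResidueField K),
                ResidueField.algebraMap_eq, residue_eq_zero_iff] at this
              exact this
            exact Submodule.mem_sup_right ⟨r'', hrq, rfl⟩
          have hv'M : v' ∈ M := Submodule.mem_sup_left (Submodule.mem_sup_right (Submodule.mem_span_singleton_self _))
          have hv''M : v'' ∈ M := Submodule.mem_sup_right (Submodule.mem_span_singleton_self _)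
          have hk0 : ∀ (w : V), w ∈ U' ⊓ U'' → ∀ hw : w ∈ U, π ⟨w, hw⟩ = 0 ∧ π' ⟨w, hw⟩ = 0 := fun w h hw =>
            ⟨(hker _).2 h.1, (hker' _).2 h.2⟩
          have i1 : img π M = one (R := R) K := img_eq_one π (N0 := N0 ⊔ Submodule.span R {v'}) (hle' hv'') hv''M hπv''
            (fun w hw => by
              obtain ⟨w0, hw0, r, r'', rfl⟩ := hdec w hw
              exact ⟨r'', by
                rw [add_sub_cancel_right]
                exact add_mem (Submodule.mem_sup_left hw0)
                  (Submodule.smul_mem _ _ (Submodule.mem_sup_right (Submodule.mem_span_singleton_self _)))⟩)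
            (fun w hw hwU => (hker _).2 ((sup_le (fun z hz => (hN0mem z hz).1)
              ((Submodule.span_singleton_le_iff_mem _ (U'.restrictScalars R)).2 hv') :
                N0 ⊔ Submodule.span R {v'} ≤ U'.restrictScalars R) hw))
          have i1' : img π' M = one (R := R) K := img_eq_one π' (N0 := N0 ⊔ Submodule.span R {v''}) (hle hv') hv'M hπ'v'
            (fun w hw => by
              obtain ⟨w0, hw0, r, r'', rfl⟩ := hdec w hw
              exact ⟨r, by
                rw [show w0 + r • v' + r'' • v'' - r • v' = w0 + r'' • v'' by abel]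
                exact add_mem (Submodule.mem_sup_left hw0)
                  (Submodule.smul_mem _ _ (Submodule.mem_sup_right (Submodule.mem_span_singleton_self _)))⟩)
            (fun w hw hwU => (hker' _).2 ((sup_le (fun z hz => (hN0mem z hz).2)
              ((Submodule.span_singleton_le_iff_mem _ (U''.restrictScalars R)).2 hv'') :
                N0 ⊔ Submodule.span R {v''} ≤ U''.restrictScalars R) hw))
          have i2 : img (π'.comp (Submodule.inclusion hle)) (M ⊓ U'.restrictScalars R) = one (R := R) K :=
            img_eq_one _ (N0 := N0) hv' ⟨hv'M, hv'⟩ hπ'v' (fun w hw => hM' w hw.1 hw.2)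
              (fun w hw hwU => (hk0 w (hN0mem w hw) (hle hwU)).2)
          have i2' : img (π.comp (Submodule.inclusion hle')) (M ⊓ U''.restrictScalars R) = one (R := R) K :=
            img_eq_one _ (N0 := N0) hv'' ⟨hv''M, hv''⟩ hπv'' (fun w hw => hM'' w hw.1 hw.2)
              (fun w hw hwU => (hk0 w (hN0mem w hw) (hle' hwU)).1)
          have i3 : M ⊓ U'.restrictScalars R ⊓ (U' ⊓ U'').restrictScalars R =
              M ⊓ U''.restrictScalars R ⊓ (U' ⊓ U'').restrictScalars R := by
            ext w
            exact ⟨fun ⟨⟨a, _⟩, b⟩ => ⟨⟨a, b.2⟩, b⟩, fun ⟨⟨a, _⟩, b⟩ => ⟨⟨a, b.1⟩, b⟩⟩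
          have key := Ser.lam_diff (Ser.cons s π hsurj hker hle) (Ser.cons s' π' hsurj' hker' hle') hN hM
          rw [Ser.lam_cons, Ser.lam_cons, Ser.lam_cons, Ser.lam_cons, i1, i1'] at key
          have e1 := hcc1 R _ (hM.restrict hle)
          have e2 := hcc2 R _ (hM.restrict hle')
          rw [Ser.lam_cons, i2] at e1
          rw [Ser.lam_cons, i2', ← i3] at e2
          linarith

end Groth.L22.LatDeg
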