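import Groth.Agent.L22.LatDeg.Class
import Groth.Agent.L22.Cyc.P1Rat
import Groth.Prelude.Def_ChowK

/-!
The class homomorphism from `K₀` of coherent modules of dimension at most `k + 1` modulo dimension at most
`k - 1` to functions modulo rational equivalence.
-/

set_option autoImplicit false
set_option linter.style.haveILetI false
set_option maxSynthPendingDepth 3
set_option backward.isDefEq.respectTransparency false
set_option backward.isDefEq.respectTransparency.types false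

universe u

open CategoryTheory AlgebraicGeometry IsLocalRing TopologicalSpace

noncomputable section

namespace Groth.L22.LatDeg

section Algebra

theorem Ser.lam_eq_zero {K : Type u} [CommRing K] [IsLocalRing K] {V : Type u} [AddCommGroup V] [Module K V]
    [Subsingleton V] {R : Type u} [CommRing R] [Algebra R K] [Module R V] [IsScalarTower R K V]
    {U : Submodule K V} : (s : Ser K V U) → ∀ N : Submodule R V, s.lam N = 0
  | .nil, _ => rfl
  | .cons s π hsurj _ _, _ => by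
    obtain ⟨v, hv⟩ := hsurj 1
    rw [Subsingleton.elim v 0, map_zero] at hv
    exact absurd hv zero_ne_one

variable {R : Type u} [CommRing R] {G' : Type u} [Fintype G'] {K : G' → Type u} [∀ i, CommRing (K i)]
  [∀ i, IsLocalRing (K i)] [∀ i, Algebra R (K i)] {V : G' → Type u} [∀ i, AddCommGroup (V i)]
  [∀ i, Module (K i) (V i)] [∀ i, Module R (V i)] [∀ i, IsScalarTower R (K i) (V i)] {M : Type u}
  [AddCommGroup M] [Module R M]

/-- Indices with zero fibre can be left out. -/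
theorem locDeg_reindex {G : Type u} [Fintype G] (e : G → G') (he : Function.Injective e)
    (h0 : ∀ i, i ∉ Set.range e → Subsingleton (V i)) (ι : ∀ i, M →ₗ[R] V i) (s : ∀ i, Ser (K i) (V i) ⊤) :
    locDeg ι s = locDeg (K := fun g => K (e g)) (fun g => ι (e g)) (fun g => s (e g)) := by
  classical
  let P : (∀ i, V i) →ₗ[R] ∀ g, V (e g) := LinearMap.pi fun g => LinearMap.proj (e g)
  have hP : Function.Injective P := fun v w h => funext fun i => by
    by_cases hi : i ∈ Set.range e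
    · obtain ⟨g, rfl⟩ := hi
      exact congrFun h g
    · haveI := h0 i hi
      exact Subsingleton.elim _ _
  have hk : LinearMap.ker (allGen ι) = LinearMap.ker (allGen fun g => ι (e g)) := by
    ext m
    exact ⟨fun h => funext fun g => congrFun h (e g),
      fun h => hP (show P (allGen ι m) = P 0 from (LinearMap.mem_ker.1 h).trans (map_zero P).symm)⟩
  have hr : (LinearMap.range (allGen ι)).map P = LinearMap.range (allGen fun g => ι (e g)) := by
    rw [← LinearMap.range_comp]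
    rfl
  have hi : (images ι).map P = images (fun g => ι (e g)) := by
    refine le_antisymm ?_ fun w hw => ?_
    · rintro _ ⟨v, hv, rfl⟩ g _
      exact hv (e g) trivial
    · choose m hm using fun g => hw g trivial
      refine ⟨fun i => if h : i ∈ Set.range e then ι i (m h.choose) else 0, fun i _ => ?_, funext fun g => ?_⟩
      · dsimp only
        split_ifs with h
        · exact ⟨_, rfl⟩
        · exact Submodule.zero_mem _
      · show (if h : e g ∈ Set.range e then ι (e g) (m h.choose) else 0) = w g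
        rw [dif_pos ⟨g, rfl⟩]
        have hc : (⟨g, rfl⟩ : e g ∈ Set.range e).choose = g := he (⟨g, rfl⟩ : e g ∈ Set.range e).choose_spec
        rw [hc, hm]
  have hchi : chi ι = chi (fun g => ι (e g)) := by
    simp only [chi, hk, rlen, ← hr, ← hi, qlen_map P hP]
  rw [locDeg, locDeg, hchi]
  congr 1
  rw [← Finset.sum_subset (s₁ := Finset.univ.image e) (Finset.subset_univ _) fun i _ hi => ?_,
    Finset.sum_image fun a _ b _ h => he h]
  haveI := h0 i fun ⟨g, hg⟩ => hi (Finset.mem_image.2 ⟨g, Finset.mem_univ g, hg⟩)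
  exact (s i).lam_eq_zero _

/-- Without generic points the degree is the length. -/
theorem locDeg_of_isEmpty [IsEmpty G'] (ι : ∀ i, M →ₗ[R] V i) (s : ∀ i, Ser (K i) (V i) ⊤) :
    locDeg ι s = ((Module.length R M).toNat : ℤ) := by
  have hk : LinearMap.ker (allGen ι) = ⊤ := eq_top_iff.2 fun m _ => funext fun i => isEmptyElim i
  have hr : LinearMap.range (allGen ι) = images ι :=
    le_antisymm (fun v ⟨m, hm⟩ i _ => isEmptyElim i) fun v _ => ⟨0, funext fun i => isEmptyElim i⟩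
  rw [locDeg, chi, hk, hr, rlen_self, Finset.univ_eq_empty, Finset.sum_empty, add_zero, sub_zero, rlen, qlen]
  congr 2
  rw [((Submodule.quotEquivOfEqBot ((⊥ : Submodule R M).submoduleOf ⊤) (by
    rw [Submodule.submoduleOf]; exact Submodule.comap_bot _ |>.trans (Submodule.ker_subtype _))).trans
    Submodule.topEquiv).length_eq]

end Algebra

variable {X : Scheme.{u}}

/-- Functions modulo rational equivalence. -/
def ratG [IsLocallyNoetherian X] {δ : X → ℤ} (hδ : Cyc.IsDimFun X δ) (k : ℤ) : AddSubgroup (X → ℤ) where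
  carrier := {G | C1.RatOn δ k Set.univ G}
  add_mem' h h' := h.add h'
  zero_mem' := C1.ratOn_zero fun _ => rfl
  neg_mem' h := (h.zsmul hδ (-1)).congr fun x => (neg_one_mul _).symm

theorem mem_ratG [IsLocallyNoetherian X] {δ : X → ℤ} (hδ : Cyc.IsDimFun X δ) {k : ℤ} {G : X → ℤ} :
    G ∈ ratG hδ k ↔ C1.RatOn δ k Set.univ G := Iff.rfl

/-- The top dimensional points of the support. -/
def topSet (δ : X → ℤ) (k : ℤ) (F : X.Modules) : Set X := {ξ | δ ξ = k + 1 ∧ Nontrivial (F.presheaf.stalk ξ)}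

variable [IsLocallyNoetherian X] {δ : X → ℤ} (hδ : Cyc.IsDimFun X δ) {k : ℤ}

include hδ in
theorem tops_topSet {F : X.Modules} (h : Cyc.CohLe δ (k + 1) F) : Tops δ k (topSet δ k F) := by
  refine ⟨fun ξ hξ => hξ.1, fun x => ?_⟩
  obtain ⟨α, hα⟩ := P1Rat.exists_cycle_sheafFun hδ h.1 (k + 1) h.2
  obtain ⟨_, ⟨V, hV, rfl⟩, hxV, -⟩ :=
    X.isBasis_affineOpens.exists_subset_of_mem_open (Set.mem_univ x) isOpen_univ
  refine ⟨V, V.2, hxV, (α.locallyFiniteSupport.finite_inter_support_of_isCompact hV.isCompact).subset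
    fun ξ ⟨hξV, hξ, hnt⟩ => ⟨hξV, ?_⟩⟩
  show α ξ ≠ 0
  rw [hα, Cyc.sheafFun, if_pos hξ]
  have h1 : Module.length (X.presheaf.stalk ξ) (F.presheaf.stalk ξ) ≠ ⊤ :=
    Module.length_ne_top_iff.2 (isFiniteLength_iff_isNoetherian_isArtinian.2 (isFiniteLength_stalk hδ h.1 h.2 hξ))
  have h2 : Module.length (X.presheaf.stalk ξ) (F.presheaf.stalk ξ) ≠ 0 := fun e =>
    not_subsingleton_iff_nontrivial.2 hnt (Module.length_eq_zero_iff.1 e)
  intro e
  have e' : (Module.length (X.presheaf.stalk ξ) (F.presheaf.stalk ξ)).toNat = 0 := by exact_mod_cast e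
  rcases ENat.toNat_eq_zero.1 e' with e | e
  · exact h2 e
  · exact h1 e

open Classical in
/-- The class of a module. -/
def Λ (F : X.Modules) : (X → ℤ) ⧸ ratG hδ k :=
  if h : Cyc.CohLe δ (k + 1) F then
    QuotientAddGroup.mk (clsAt (tops_topSet hδ h) F (exists_choice hδ (tops_topSet hδ h) h.1 h.2).some)
  else 0

omit [IsLocallyNoetherian X] in
theorem clsAt_mono {T T' : Set X} (hT : Tops δ k T) (hT' : Tops δ k T') {F : X.Modules} (hsub : T ⊆ T')
    (hc : Covers δ k T F) (s' : Choice F T') (x : X) :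
    clsAt hT' F s' x = clsAt hT F (fun ξ hξ => s' ξ (hsub hξ)) x := by
  by_cases hx : δ x = k
  swap
  · simp only [clsAt, if_neg hx]
  haveI := hT.finite_gens x
  haveI := hT'.finite_gens x
  letI : Fintype (Gens T x) := Fintype.ofFinite _
  letI : Fintype (Gens T' x) := Fintype.ofFinite _
  letI : ∀ g : Gens T' x, Algebra (X.presheaf.stalk x) (X.presheaf.stalk g.1) := fun g => algSp g.2.2
  letI : ∀ g : Gens T' x, Module (X.presheaf.stalk x) (F.presheaf.stalk g.1) := fun g => modSp F g.2.2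
  haveI : ∀ g : Gens T' x, IsScalarTower (X.presheaf.stalk x) (X.presheaf.stalk g.1) (F.presheaf.stalk g.1) :=
    fun g => towerSp F g.2.2
  simp only [clsAt, if_pos hx]
  refine locDeg_reindex (K := fun g : Gens T' x => X.presheaf.stalk g.1)
    (fun g : Gens T x => (⟨g.1, hsub g.2.1, g.2.2⟩ : Gens T' x))
    (fun a b e => Subtype.ext (congrArg (fun t : Gens T' x => t.1) e)) (fun i hi => ?_) _ _
  by_contra hne
  exact hi ⟨⟨i.1, hc i.1 (hT'.dim _ i.2.1) (not_subsingleton_iff_nontrivial.1 hne), i.2.2⟩, rfl⟩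

theorem Λ_eq {F : X.Modules} (h : Cyc.CohLe δ (k + 1) F) {T : Set X} (hT : Tops δ k T) (hc : Covers δ k T F)
    (s : Choice F T) : Λ (k := k) hδ F = QuotientAddGroup.mk (clsAt hT F s) := by
  have hsub : topSet δ k F ⊆ T := fun ξ hξ => hc ξ hξ.1 hξ.2
  rw [Λ, dif_pos h, QuotientAddGroup.eq, funext (clsAt_mono (tops_topSet hδ h) hT hsub (fun ξ h1 h2 => ⟨h1, h2⟩) s)]
  rw [neg_add_eq_sub, mem_ratG]
  exact cls_change hδ (tops_topSet hδ h) h.1 h.2 (fun ξ h1 h2 => ⟨h1, h2⟩) _ _

theorem Λ_of_not {F : X.Modules} (h : ¬ Cyc.CohLe δ (k + 1) F) : Λ (k := k) hδ F = 0 := dif_neg h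

omit [IsLocallyNoetherian X] in
theorem stalkMap_sp {F G : X.Modules} (φ : F ⟶ G) {x ξ : X} (h : ξ ⤳ x) (v : F.presheaf.stalk x) :
    spL G h ((Groth.L00.Stk.F X x).map φ v) = (Groth.L00.Stk.F X ξ).map φ (spL F h v) :=
  (ConcreteCategory.congr_hom (TopCat.Presheaf.stalkSpecializes_stalkFunctor_map
    (Scheme.Modules.Hom.mapPresheaf φ) h) v).symm

/-- Additivity on short exact sequences. -/
theorem Λ_add {S : ShortComplex X.Modules} (hS : S.ShortExact) (h1 : Cyc.CohLe δ (k + 1) S.X₁)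
    (h2 : Cyc.CohLe δ (k + 1) S.X₂) (h3 : Cyc.CohLe δ (k + 1) S.X₃) :
    Λ (k := k) hδ S.X₂ = Λ (k := k) hδ S.X₁ + Λ (k := k) hδ S.X₃ := by
  classical
  have hE : ∀ x : X, (S.map (Groth.L00.Stk.F X x)).ShortExact := fun x => hS.map_of_exact _
  have hinj : ∀ x : X, Function.Injective ((Groth.L00.Stk.F X x).map S.f).hom := fun x =>
    (ModuleCat.mono_iff_injective _).1 (hE x).mono_f
  have hsurj : ∀ x : X, Function.Surjective ((Groth.L00.Stk.F X x).map S.g).hom := fun x =>
    (ModuleCat.epi_iff_surjective _).1 (hE x).epi_g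
  have hex : ∀ x : X, LinearMap.range ((Groth.L00.Stk.F X x).map S.f).hom =
      LinearMap.ker ((Groth.L00.Stk.F X x).map S.g).hom := fun x =>
    ((ShortComplex.moduleCat_exact_iff_range_eq_ker _).1 (hE x).exact)
  let T := topSet δ k S.X₂
  have hT : Tops δ k T := tops_topSet hδ h2
  have hc1 : Covers δ k T S.X₁ := fun ξ hξ hnt => ⟨hξ, by
    haveI : Nontrivial ((Groth.L00.Stk.F X ξ).obj S.X₁) := hnt
    exact (hinj ξ).nontrivial⟩
  have hc3 : Covers δ k T S.X₃ := fun ξ hξ hnt => ⟨hξ, by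
    haveI : Nontrivial ((Groth.L00.Stk.F X ξ).obj S.X₃) := hnt
    exact (hsurj ξ).nontrivial⟩
  obtain ⟨sA⟩ := exists_choice hδ hT h1.1 h1.2
  obtain ⟨sC⟩ := exists_choice hδ hT h3.1 h3.2
  let sB : Choice S.X₂ T := fun ξ hξ =>
    Ser.ext ((Groth.L00.Stk.F X ξ).map S.f).hom (hinj ξ) ((Groth.L00.Stk.F X ξ).map S.g).hom (hsurj ξ) (hex ξ)
      (sA ξ hξ) (sC ξ hξ)
  rw [Λ_eq hδ h1 hT hc1 sA, Λ_eq hδ h2 hT (fun ξ a b => ⟨a, b⟩) sB, Λ_eq hδ h3 hT hc3 sC, ← QuotientAddGroup.mk_add]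
  congr 1
  funext x
  rw [Pi.add_apply]
  by_cases hx : δ x = k
  swap
  · simp only [clsAt, if_neg hx, add_zero]
  haveI := hT.finite_gens x
  letI : Fintype (Gens T x) := Fintype.ofFinite _
  letI : ∀ g : Gens T x, Algebra (X.presheaf.stalk x) (X.presheaf.stalk g.1) := fun g => algSp g.2.2
  letI : ∀ g : Gens T x, Module (X.presheaf.stalk x) (S.X₁.presheaf.stalk g.1) := fun g => modSp _ g.2.2
  haveI : ∀ g : Gens T x, IsScalarTower (X.presheaf.stalk x) (X.presheaf.stalk g.1) (S.X₁.presheaf.stalk g.1) :=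
    fun g => towerSp _ g.2.2
  letI : ∀ g : Gens T x, Module (X.presheaf.stalk x) (S.X₂.presheaf.stalk g.1) := fun g => modSp _ g.2.2
  haveI : ∀ g : Gens T x, IsScalarTower (X.presheaf.stalk x) (X.presheaf.stalk g.1) (S.X₂.presheaf.stalk g.1) :=
    fun g => towerSp _ g.2.2
  letI : ∀ g : Gens T x, Module (X.presheaf.stalk x) (S.X₃.presheaf.stalk g.1) := fun g => modSp _ g.2.2
  haveI : ∀ g : Gens T x, IsScalarTower (X.presheaf.stalk x) (X.presheaf.stalk g.1) (S.X₃.presheaf.stalk g.1) :=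
    fun g => towerSp _ g.2.2
  haveI : ∀ g : Gens T x, Adm (X.presheaf.stalk x) (X.presheaf.stalk g.1) :=
    fun g => adm hδ g.2.2 (by rw [hx, hT.dim _ g.2.1])
  simp only [clsAt, if_pos hx]
  exact locDeg_add (K := fun g : Gens T x => X.presheaf.stalk g.1) (isGenData hδ hT h1.1 h1.2 hc1 hx)
    (isGenData hδ hT h2.1 h2.2 (fun ξ a b => ⟨a, b⟩) hx) (isGenData hδ hT h3.1 h3.2 hc3 hx)
    ((Groth.L00.Stk.F X x).map S.f).hom ((Groth.L00.Stk.F X x).map S.g).hom (hinj x) (hsurj x)
    (LinearMap.exact_iff.2 (hex x).symm)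
    (fun g => ((Groth.L00.Stk.F X g.1).map S.f).hom) (fun g => ((Groth.L00.Stk.F X g.1).map S.g).hom)
    (fun g => hinj g.1) (fun g => hsurj g.1) (fun g => hex g.1)
    (fun g a => stalkMap_sp S.f g.2.2 a) (fun g b => stalkMap_sp S.g g.2.2 b) _ _

theorem cohLe_mono {F : X.Modules} {a b : ℤ} (hab : a ≤ b) (h : Cyc.CohLe δ a F) : Cyc.CohLe δ b F :=
  ⟨h.1, fun x hx => (h.2 x hx).trans hab⟩

/-- In dimension at most `k` the class is the cycle. -/
theorem Λ_of_le {F : X.Modules} (h : Cyc.CohLe δ k F) :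
    Λ (k := k) hδ F = QuotientAddGroup.mk (Cyc.sheafFun δ k F) := by
  have hT : Tops δ k (∅ : Set X) := ⟨fun _ h => h.elim, fun _ => ⟨Set.univ, isOpen_univ, trivial, by simp⟩⟩
  have hc : Covers δ k (∅ : Set X) F := fun ξ hξ hnt => by
    have := h.2 ξ hnt
    omega
  have hh := cohLe_mono (by omega) h (b := k + 1)
  rw [Λ_eq hδ hh hT hc fun ξ hξ => hξ.elim]
  congr 1
  funext x
  by_cases hx : δ x = k
  swap
  · simp only [clsAt, Cyc.sheafFun, if_neg hx]
  haveI : IsEmpty (Gens (∅ : Set X) x) := ⟨fun g => g.2.1⟩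
  letI : Fintype (Gens (∅ : Set X) x) := Fintype.ofFinite _
  letI : ∀ g : Gens (∅ : Set X) x, Algebra (X.presheaf.stalk x) (X.presheaf.stalk g.1) := fun g => algSp g.2.2
  letI : ∀ g : Gens (∅ : Set X) x, Module (X.presheaf.stalk x) (F.presheaf.stalk g.1) := fun g => modSp F g.2.2
  haveI : ∀ g : Gens (∅ : Set X) x, IsScalarTower (X.presheaf.stalk x) (X.presheaf.stalk g.1) (F.presheaf.stalk g.1) :=
    fun g => towerSp F g.2.2
  simp only [clsAt, Cyc.sheafFun, if_pos hx]
  exact locDeg_of_isEmpty _ _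

theorem Λ_of_lt {F : X.Modules} (h : Cyc.CohLe δ (k - 1) F) : Λ (k := k) hδ F = 0 := by
  rw [Λ_of_le hδ (cohLe_mono (by omega) h), QuotientAddGroup.eq_zero_iff, mem_ratG]
  refine C1.ratOn_zero fun x => ?_
  by_contra h0
  obtain ⟨hx, hnt⟩ := IntMult.sheafFun_ne_zero h0
  have := h.2 x hnt
  omega

variable (k) in
/-- The class homomorphism. -/
def ψ : Cyc.K0CohQuot δ (k + 1) (k - 1) →+ (X → ℤ) ⧸ ratG hδ k :=
  QuotientAddGroup.lift _
    (QuotientAddGroup.lift _ (FreeAbelianGroup.lift fun F => Λ (k := k) hδ F.1) (by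
      rw [KZero.relSub, AddSubgroup.closure_le]
      rintro _ ⟨S, h1, h2, h3, hS, rfl⟩
      rw [SetLike.mem_coe, AddMonoidHom.mem_ker, map_sub, map_sub, FreeAbelianGroup.lift_apply_of,
        FreeAbelianGroup.lift_apply_of, FreeAbelianGroup.lift_apply_of]
      show Λ (k := k) hδ S.X₂ - Λ (k := k) hδ S.X₁ - Λ (k := k) hδ S.X₃ = 0
      rw [Λ_add hδ hS h1 h2 h3]
      abel)) (by
    rw [AddSubgroup.closure_le]
    rintro _ ⟨F, hF, rfl⟩
    rw [SetLike.mem_coe, AddMonoidHom.mem_ker, KZero.clSub, dif_pos (cohLe_mono (by omega) hF)]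
    exact (FreeAbelianGroup.lift_apply_of _ _).trans (Λ_of_lt hδ hF))

theorem ψ_cl (F : X.Modules) : ψ hδ k (Cyc.toK0CohQuot δ (k + 1) (k - 1) F) = Λ (k := k) hδ F := by
  by_cases h : Cyc.CohLe δ (k + 1) F
  · rw [Cyc.toK0CohQuot, KZero.clSub, dif_pos h]
    exact FreeAbelianGroup.lift_apply_of _ _
  · rw [Cyc.toK0CohQuot, KZero.clSub, dif_neg h, Λ_of_not hδ h]
    exact map_zero (ψ hδ k)

end Groth.L22.LatDeg
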