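import Groth.Agent.L22.LatDeg.Deg
import Mathlib.RingTheory.SimpleModule.Basic
import Mathlib.RingTheory.Artinian.Module

/-!
The degree of a lattice relative to a composition series, and independence of the series up to orders of
elements of the residue field.
-/

set_option autoImplicit false
set_option linter.style.haveILetI false
set_option backward.isDefEq.respectTransparency false

universe u

open IsLocalRing

noncomputable section

namespace Groth.L22.LatDeg

variable {K : Type u} [CommRing K] [IsLocalRing K] {V : Type u} [AddCommGroup V] [Module K V]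
  {R : Type u} [CommRing R] [Algebra R K] [Module R V] [IsScalarTower R K V]

/-- The degree of a lattice relative to a composition series. -/
def Ser.lam {U : Submodule K V} : Ser K V U → Submodule R V → ℤ
  | .nil, _ => 0
  | .cons (U' := U') s π _ _ _, N => deg (img π N) + s.lam (N ⊓ U'.restrictScalars R)

theorem Ser.lam_cons {U' U : Submodule K V} (s : Ser K V U') (π : U →ₗ[K] ResidueField K) (hsurj hker hle)
    (N : Submodule R V) :
    (Ser.cons s π hsurj hker hle).lam N = deg (img π N) + s.lam (N ⊓ U'.restrictScalars R) := by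
  rw [Ser.lam]

theorem isLat_img [Adm R K] {U : Submodule K V} {N : Submodule R V} (hN : IsLat U N) {π : U →ₗ[K] ResidueField K}
    (hsurj : Function.Surjective π) : IsLat (⊤ : Submodule K (ResidueField K)) (img π N) := by
  rw [← LinearMap.range_eq_top.2 hsurj]
  exact hN.img π

/-- The dependence on the lattice. -/
theorem Ser.lam_sub [Adm R K] {U : Submodule K V} : (s : Ser K V U) → ∀ {N N' : Submodule R V},
    IsLat U N → IsLat U N' → N' ≤ N → s.lam N - s.lam N' = rlen N' N
  | .nil, N, N', hN, hN', _ => by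
    have h1 : N = ⊥ := le_bot_iff.1 fun v hv => (Submodule.mem_bot R).2 ((Submodule.mem_bot K).1 (hN.le v hv))
    have h2 : N' = ⊥ := le_bot_iff.1 fun v hv => (Submodule.mem_bot R).2 ((Submodule.mem_bot K).1 (hN'.le v hv))
    rw [h1, h2, rlen_self]
    show (0 : ℤ) - 0 = 0
    rfl
  | .cons (U' := U') s π hsurj hker hle, N, N', hN, hN', h => by
    let f : N →ₗ[R] ResidueField K :=
      (π.restrictScalars R).comp (Submodule.inclusion (show N ≤ U.restrictScalars R from hN.le))
    have hQ : img π N = LinearMap.range f := by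
      ext c
      rw [mem_img]
      exact ⟨fun ⟨u, _, hu, e⟩ => ⟨⟨u, hu⟩, e⟩, fun ⟨⟨u, hu⟩, e⟩ => ⟨u, hN.le u hu, hu, e⟩⟩
    have hP : img π N' = (N'.submoduleOf N).map f := by
      ext c
      rw [mem_img]
      exact ⟨fun ⟨u, _, hu, e⟩ => ⟨⟨u, h hu⟩, hu, e⟩, fun ⟨⟨u, _⟩, hu, e⟩ => ⟨u, hN'.le u hu, hu, e⟩⟩
    have he := qlen_exact (K := U'.restrictScalars R) h f (fun v => hker ⟨v, hN.le v v.2⟩) _ _ hP hQ
    have hfin := qlen_ne_top (Ser.cons s π hsurj hker hle) hN' hN
    rw [he] at hfin
    obtain ⟨h1, h2⟩ := WithTop.add_ne_top.1 hfin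
    have e1 := deg_sub (isLat_img hN hsurj) (isLat_img hN' hsurj) (img_mono π h)
    have e2 := s.lam_sub (hN.restrict hle) (hN'.restrict hle) (inf_le_inf_right _ h)
    have e3 : rlen N' N = rlen (N' ⊓ U'.restrictScalars R) (N ⊓ U'.restrictScalars R) + rlen (img π N') (img π N) := by
      simp only [rlen, he, ENat.toNat_add h1 h2]
      push_cast
      rfl
    rw [Ser.lam_cons, Ser.lam_cons, e3]
    linarith

/-- The difference of two series does not depend on the lattice. -/
theorem Ser.lam_diff [Adm R K] {U : Submodule K V} (s s' : Ser K V U) {N M : Submodule R V} (hN : IsLat U N)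
    (hM : IsLat U M) : s.lam N - s'.lam N = s.lam M - s'.lam M := by
  have hP := hN.inf hM
  have h1 := s.lam_sub hN hP inf_le_left
  have h2 := s'.lam_sub hN hP inf_le_left
  have h3 := s.lam_sub hM hP inf_le_right
  have h4 := s'.lam_sub hM hP inf_le_right
  linarith

/-- Scaling by a unit of `K`. -/
theorem Ser.lam_smul [Adm R K] {U : Submodule K V} (a : K) (ha : IsUnit a) :
    (s : Ser K V U) → ∀ {N : Submodule R V}, IsLat U N →
      s.lam (N.map ((LinearMap.lsmul K V a).restrictScalars R)) = s.lam N - (s.depth : ℤ) * ordR R (residue K a)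
  | .nil, N, _ => by
    show (0 : ℤ) = 0 - ((0 : ℕ) : ℤ) * _
    simp
  | .cons (U' := U') s π hsurj hker hle, N, hN => by
    have hc : residue K a ≠ 0 := fun h => (mem_maximalIdeal a).1 ((residue_eq_zero_iff a).1 h) ha
    have h1 : img π (N.map ((LinearMap.lsmul K V a).restrictScalars R)) = (img π N).map (mulBy (residue K a)) := by
      ext c
      rw [mem_img, Submodule.mem_map]
      constructor
      · rintro ⟨u, hu, ⟨v, hv, rfl⟩, e⟩
        refine ⟨π ⟨v, hN.le v hv⟩, mem_img.2 ⟨v, hN.le v hv, hv, rfl⟩, ?_⟩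
        rw [← e, show (⟨_, hu⟩ : U) = a • ⟨v, hN.le v hv⟩ from rfl, map_smul, mulBy, LinearMap.mulLeft_apply,
          Algebra.smul_def, ResidueField.algebraMap_eq]
      · rintro ⟨d, hd, rfl⟩
        obtain ⟨v, hv, hvN, rfl⟩ := mem_img.1 hd
        refine ⟨a • v, U.smul_mem a hv, ⟨v, hvN, rfl⟩, ?_⟩
        rw [show (⟨a • v, U.smul_mem a hv⟩ : U) = a • ⟨v, hv⟩ from rfl, map_smul, mulBy, LinearMap.mulLeft_apply,
          Algebra.smul_def, ResidueField.algebraMap_eq]
    have h2 : N.map ((LinearMap.lsmul K V a).restrictScalars R) ⊓ U'.restrictScalars R =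
        (N ⊓ U'.restrictScalars R).map ((LinearMap.lsmul K V a).restrictScalars R) := by
      refine le_antisymm (fun v hv => ?_) (le_inf (Submodule.map_mono inf_le_left) fun v hv => ?_)
      · obtain ⟨⟨w, hw, rfl⟩, hv2⟩ := hv
        refine ⟨w, ⟨hw, ?_⟩, rfl⟩
        show w ∈ U'
        have := U'.smul_mem (↑ha.unit⁻¹ : K) (show a • w ∈ U' from hv2)
        rwa [smul_smul, IsUnit.val_inv_mul, one_smul] at this
      · obtain ⟨w, hw, rfl⟩ := hv
        exact U'.smul_mem a hw.2
    rw [Ser.lam_cons, Ser.lam_cons, h1, h2, deg_map_mulBy (isLat_img hN hsurj) hc, s.lam_smul a ha (hN.restrict hle)]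
    show _ = _ - ((s.depth + 1 : ℕ) : ℤ) * _
    push_cast
    ring

end Groth.L22.LatDeg
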