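import Groth.Agent.L22.LatDeg.Exact
import Mathlib.LinearAlgebra.Quotient.Pi
import Mathlib.LinearAlgebra.Pi
import Mathlib.Data.ENat.BigOperators

/-!
The degree of a module with one dimensional support relative to composition series at its generic points.
-/

set_option autoImplicit false
set_option linter.style.haveILetI false
set_option backward.isDefEq.respectTransparency false

universe u

open IsLocalRing

noncomputable section

namespace Groth.L22.LatDeg

variable {R : Type u} [CommRing R] {G : Type u} [Fintype G]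

section Pi

variable {V : G → Type u} [∀ i, AddCommGroup (V i)] [∀ i, Module R (V i)]

theorem qlen_pi (P Q : ∀ i, Submodule R (V i)) :
    qlen (Submodule.pi Set.univ P) (Submodule.pi Set.univ Q) = ∑ i, qlen (P i) (Q i) := by
  classical
  let f : ↥(Submodule.pi Set.univ Q) →ₗ[R] ∀ i, ↥(Q i) ⧸ (P i).submoduleOf (Q i) :=
    LinearMap.pi fun i => ((P i).submoduleOf (Q i)).mkQ.comp
      (((LinearMap.proj i).comp (Submodule.pi Set.univ Q).subtype).codRestrict (Q i) fun v => v.2 i trivial)
  have hf : Function.Surjective f := fun w => by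
    choose v hv using fun i => Submodule.Quotient.mk_surjective _ (w i)
    exact ⟨⟨fun i => v i, fun i _ => (v i).2⟩, funext hv⟩
  have hk : (Submodule.pi Set.univ P).submoduleOf (Submodule.pi Set.univ Q) = LinearMap.ker f := by
    ext v
    constructor
    · intro h
      rw [LinearMap.mem_ker]
      exact funext fun i => (Submodule.Quotient.mk_eq_zero _).2 (h i trivial)
    · intro h i _
      exact (Submodule.Quotient.mk_eq_zero ((P i).submoduleOf (Q i))).1 (congrFun (LinearMap.mem_ker.1 h) i)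
  rw [qlen, ((Submodule.quotEquivOfEq _ _ hk).trans (f.quotKerEquivOfSurjective hf)).length_eq,
    Module.length_pi_of_fintype]
  rfl

end Pi

variable {K : G → Type u} [∀ i, CommRing (K i)] [∀ i, IsLocalRing (K i)] [∀ i, Algebra R (K i)]

variable (R K) in
/-- The prime of a generic point. -/
abbrev prime (i : G) : Ideal R := (maximalIdeal (K i)).comap (algebraMap R (K i))

variable {V : G → Type u} [∀ i, AddCommGroup (V i)] [∀ i, Module (K i) (V i)] [∀ i, Module R (V i)]
  [∀ i, IsScalarTower R (K i) (V i)] {M : Type u} [AddCommGroup M] [Module R M] (ι : ∀ i, M →ₗ[R] V i)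

/-- The map to all the generic fibres. -/
abbrev allGen : M →ₗ[R] ∀ i, V i := LinearMap.pi ι

/-- The product of the images. -/
abbrev images : Submodule R (∀ i, V i) := Submodule.pi Set.univ fun i => LinearMap.range (ι i)

/-- The Euler characteristic of the map to the product of the images. -/
def chi : ℤ := rlen ⊥ (LinearMap.ker (allGen ι)) - rlen (LinearMap.range (allGen ι)) (images ι)

/-- The degree of `M` relative to series at its generic points. -/
def locDeg (s : ∀ i, Ser (K i) (V i) ⊤) : ℤ := chi ι + ∑ i, (s i).lam (LinearMap.range (ι i))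

/-- `ι` consists of the localisations of a module with support in the given primes and the closed point. -/
structure IsGenData (K : G → Type u) [∀ i, CommRing (K i)] [∀ i, IsLocalRing (K i)] [∀ i, Algebra R (K i)]
    [∀ i, Module (K i) (V i)] : Prop where
  fin : Module.Finite R M
  incomp : ∀ i j, i ≠ j → ¬ prime R K j ≤ prime R K i
  surj : ∀ i (v : V i), ∃ b : R, b ∉ prime R K i ∧ b • v ∈ LinearMap.range (ι i)
  ker : ∀ i (m : M), ι i m = 0 → ∃ b : R, b ∉ prime R K i ∧ b • m = 0
  cover : ∀ p ∈ Module.support R M, (∀ p' : Ideal R, p'.IsPrime → p' ≤ p.asIdeal) ∨ ∃ i, p.asIdeal = prime R K i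

variable {ι} (hι : IsGenData ι K) [∀ i, Adm R (K i)]

include hι in
theorem isLat_range (i : G) : IsLat (⊤ : Submodule (K i) (V i)) (LinearMap.range (ι i)) := by
  haveI := hι.fin
  refine ⟨?_, fun _ _ => trivial, fun v _ => hι.surj i v⟩
  rw [← Submodule.map_top]
  exact Module.Finite.fg_top.map _

variable [IsNoetherianRing R] [IsLocalRing R]

include hι in
theorem qlen_ker_ne_top : qlen ⊥ (LinearMap.ker (allGen ι)) ≠ ⊤ := by
  haveI := hι.fin
  haveI : Module.Finite R (LinearMap.ker (allGen ι)) := Module.Finite.of_fg (IsNoetherian.noetherian _)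
  refine Groth.L22.QuotLength.length_ne_top_of_support _ fun p hp => ?_
  have hp' : p ∈ Module.support R M := Module.support_subset_of_injective _ (Submodule.injective_subtype _)
    (Module.support_subset_of_surjective _ (Submodule.mkQ_surjective _) hp)
  rcases hι.cover p hp' with h | ⟨i, hi⟩
  · exact le_antisymm (le_maximalIdeal p.2.ne_top) (h _ inferInstance)
  · refine absurd hp (Module.notMem_support_iff'.2 fun x => ?_)
    obtain ⟨x, rfl⟩ := Submodule.Quotient.mk_surjective _ x
    obtain ⟨b, hb, hbx⟩ := hι.ker i x.1 (congrFun (LinearMap.mem_ker.1 x.2) i)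
    refine ⟨b, hi ▸ hb, ?_⟩
    rw [← Submodule.Quotient.mk_smul, Submodule.Quotient.mk_eq_zero, Submodule.submoduleOf, Submodule.mem_comap]
    exact (Submodule.mem_bot R).2 hbx

include hι in
theorem qlen_coker_ne_top (s : ∀ i, Ser (K i) (V i) ⊤) :
    qlen (LinearMap.range (allGen ι)) (images ι) ≠ ⊤ := by
  classical
  haveI := hι.fin
  haveI : ∀ i, Module.Finite R (LinearMap.range (ι i)) := fun i => Module.Finite.range _
  haveI : Module.Finite R (images ι) := by
    refine Module.Finite.equiv (M := ∀ i, LinearMap.range (ι i)) ?_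
    exact
      { toFun := fun w => ⟨fun i => w i, fun i _ => (w i).2⟩
        map_add' := fun _ _ => rfl
        map_smul' := fun _ _ => rfl
        invFun := fun w i => ⟨w.1 i, w.2 i trivial⟩
        left_inv := fun _ => rfl
        right_inv := fun _ => rfl }
  refine Groth.L22.QuotLength.length_ne_top_of_support _ fun p hp => ?_
  have hp' : p ∈ Module.support R M := by
    rw [Module.mem_support_iff_of_finite]
    intro a ha
    by_contra hap
    refine Module.notMem_support_iff'.2 (fun x => ?_) hp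
    obtain ⟨x, rfl⟩ := Submodule.Quotient.mk_surjective _ x
    refine ⟨a, hap, ?_⟩
    rw [← Submodule.Quotient.mk_smul, Submodule.Quotient.mk_eq_zero, Submodule.submoduleOf, Submodule.mem_comap]
    have : a • (x : ∀ i, V i) = 0 := funext fun i => by
      obtain ⟨m, hm⟩ := x.2 i trivial
      rw [Pi.smul_apply, ← hm, ← map_smul, (Module.mem_annihilator.1 ha) m, map_zero, Pi.zero_apply]
    show a • (x : ∀ i, V i) ∈ LinearMap.range (allGen ι)
    rw [this]
    exact Submodule.zero_mem _
  rcases hι.cover p hp' with h | ⟨i, hi⟩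
  · exact le_antisymm (le_maximalIdeal p.2.ne_top) (h _ inferInstance)
  · refine absurd hp (Module.notMem_support_iff'.2 fun x => ?_)
    obtain ⟨x, rfl⟩ := Submodule.Quotient.mk_surjective _ x
    have ha : ∀ j, j ≠ i → ∃ a : R, a ∉ prime R K i ∧ ∀ v : V j, a • v = 0 := fun j hj => by
      obtain ⟨a, haj, hai⟩ := SetLike.not_le_iff_exists.1 (hι.incomp i j (Ne.symm hj))
      refine ⟨a ^ (s j).depth, fun h => hai ((Ideal.IsPrime.comap (algebraMap R (K i))).mem_of_pow_mem _ h), fun v => ?_⟩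
      rw [← IsScalarTower.algebraMap_smul (K j), map_pow]
      exact (s j).pow_smul_eq_zero _ haj v trivial
    choose a hai haz using ha
    let c := ∏ j : {j : G // j ≠ i}, a j.1 j.2
    have hci : c ∉ prime R K i := fun h => by
      obtain ⟨j, -, hj⟩ := (Ideal.IsPrime.comap (algebraMap R (K i))).prod_mem_iff.1 h
      exact hai j.1 j.2 hj
    have hc0 : ∀ j, j ≠ i → ∀ v : V j, c • v = 0 := fun j hj v => by
      obtain ⟨d, hd⟩ : a j hj ∣ c := Finset.dvd_prod_of_mem (fun j : {j : G // j ≠ i} => a j.1 j.2) (Finset.mem_univ ⟨j, hj⟩)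
      rw [hd, mul_comm, mul_smul, haz j hj v, smul_zero]
    refine ⟨c, hi ▸ hci, ?_⟩
    rw [← Submodule.Quotient.mk_smul, Submodule.Quotient.mk_eq_zero, Submodule.submoduleOf, Submodule.mem_comap]
    obtain ⟨m, hm⟩ := x.2 i trivial
    refine ⟨c • m, funext fun j => ?_⟩
    show ι j (c • m) = c • (x.1 j)
    rw [map_smul]
    by_cases hj : j = i
    · subst hj; rw [hm]
    · rw [hc0 j hj, hc0 j hj]

/-- Additivity. -/
theorem locDeg_add {A B C : Type u} [AddCommGroup A] [Module R A] [AddCommGroup B] [Module R B]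
    [AddCommGroup C] [Module R C] {VA VB VC : G → Type u}
    [∀ i, AddCommGroup (VA i)] [∀ i, Module (K i) (VA i)] [∀ i, Module R (VA i)] [∀ i, IsScalarTower R (K i) (VA i)]
    [∀ i, AddCommGroup (VB i)] [∀ i, Module (K i) (VB i)] [∀ i, Module R (VB i)] [∀ i, IsScalarTower R (K i) (VB i)]
    [∀ i, AddCommGroup (VC i)] [∀ i, Module (K i) (VC i)] [∀ i, Module R (VC i)] [∀ i, IsScalarTower R (K i) (VC i)]
    {ιA : ∀ i, A →ₗ[R] VA i} {ιB : ∀ i, B →ₗ[R] VB i} {ιC : ∀ i, C →ₗ[R] VC i}
    (hA : IsGenData ιA K) (hB : IsGenData ιB K) (hC : IsGenData ιC K)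
    (f : A →ₗ[R] B) (g : B →ₗ[R] C) (hf : Function.Injective f) (hg : Function.Surjective g) (hfg : Function.Exact f g)
    (fV : ∀ i, VA i →ₗ[K i] VB i) (gV : ∀ i, VB i →ₗ[K i] VC i) (hfV : ∀ i, Function.Injective (fV i))
    (hgV : ∀ i, Function.Surjective (gV i)) (hfgV : ∀ i, LinearMap.range (fV i) = LinearMap.ker (gV i))
    (hfc : ∀ i a, ιB i (f a) = fV i (ιA i a)) (hgc : ∀ i b, ιC i (g b) = gV i (ιB i b))
    (sA : ∀ i, Ser (K i) (VA i) ⊤) (sC : ∀ i, Ser (K i) (VC i) ⊤) :
    locDeg ιB (fun i => Ser.ext (fV i) (hfV i) (gV i) (hgV i) (hfgV i) (sA i) (sC i)) =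
      locDeg ιA sA + locDeg ιC sC := by
  classical
  let sB : ∀ i, Ser (K i) (VB i) ⊤ := fun i => Ser.ext (fV i) (hfV i) (gV i) (hgV i) (hfgV i) (sA i) (sC i)
  show locDeg ιB sB = _
  let A' : ∀ i, Submodule R (VA i) := fun i => (LinearMap.range (ιB i)).comap ((fV i).restrictScalars R)
  have hAA' : ∀ i, LinearMap.range (ιA i) ≤ A' i := fun i => by
    rintro _ ⟨a, rfl⟩
    exact ⟨f a, hfc i a⟩
  have hA'lat : ∀ i, IsLat (⊤ : Submodule (K i) (VA i)) (A' i) := fun i => by
    refine ⟨Submodule.fg_of_fg_map_injective ((fV i).restrictScalars R) (hfV i) ?_, fun _ _ => trivial,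
      fun v _ => (hA.surj i v).imp fun b hb => ⟨hb.1, hAA' i hb.2⟩⟩
    exact fg_of_le (K := K i) (isLat_range hB i).fg (Submodule.map_comap_le _ _)
  have hlam : ∀ i, (sB i).lam (LinearMap.range (ιB i)) =
      (sC i).lam (LinearMap.range (ιC i)) + ((sA i).lam (LinearMap.range (ιA i)) + rlen (LinearMap.range (ιA i)) (A' i)) := by
    intro i
    simp only [sB, Ser.ext]
    rw [Ser.lam_comap (gV i) (hgV i) _ (sC i) _ (fun _ _ => trivial), lam_cast, Ser.lam_map]
    have e1 : (LinearMap.range (ιB i)).map ((gV i).restrictScalars R) = LinearMap.range (ιC i) := by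
      refine le_antisymm ?_ ?_
      · rintro _ ⟨_, ⟨b, rfl⟩, rfl⟩
        exact ⟨g b, hgc i b⟩
      · rintro _ ⟨c, rfl⟩
        obtain ⟨b, rfl⟩ := hg c
        exact ⟨ιB i b, ⟨b, rfl⟩, (hgc i b).symm⟩
    have e2 : (LinearMap.range (ιB i) ⊓ (LinearMap.ker (gV i)).restrictScalars R).comap ((fV i).restrictScalars R) ⊓
        (⊤ : Submodule (K i) (VA i)).restrictScalars R = A' i := by
      ext v
      refine ⟨fun h => h.1.1, fun h => ⟨⟨h, ?_⟩, trivial⟩⟩
      exact (hfgV i).le ⟨v, rfl⟩
    rw [e1, e2, ← Ser.lam_sub (sA i) (hA'lat i) (isLat_range hA i) (hAA' i)]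
    ring
  let F : (∀ i, VA i) →ₗ[R] (∀ i, VB i) := LinearMap.pi fun i => ((fV i).restrictScalars R).comp (LinearMap.proj i)
  let Γ : (∀ i, VB i) →ₗ[R] (∀ i, VC i) := LinearMap.pi fun i => ((gV i).restrictScalars R).comp (LinearMap.proj i)
  have hF : Function.Injective F := fun v w h => funext fun i => hfV i (congrFun h i)
  have hFΦ : ∀ a, F (allGen ιA a) = allGen ιB (f a) := fun a => funext fun i => (hfc i a).symm
  have hΓΦ : ∀ b, Γ (allGen ιB b) = allGen ιC (g b) := fun b => funext fun i => (hgc i b).symm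
  have hΓF : ∀ w, Γ w = 0 ↔ w ∈ LinearMap.range F := fun w => by
    constructor
    · intro h
      choose v hv using fun i => (hfgV i).ge (show w i ∈ LinearMap.ker (gV i) from congrFun h i)
      exact ⟨v, funext hv⟩
    · rintro ⟨v, rfl⟩
      exact funext fun i => (hfgV i).le ⟨v i, rfl⟩
  set kA := LinearMap.ker (allGen ιA)
  set kB := LinearMap.ker (allGen ιB)
  set kC := LinearMap.ker (allGen ιC)
  set P := LinearMap.range (allGen ιB)
  set Q := images ιB
  set PK := P ⊓ LinearMap.ker Γ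
  set QK := Q ⊓ LinearMap.ker Γ
  -- kernels
  have hmem : ∀ b, g b ∈ kC ↔ allGen ιB b ∈ LinearMap.ker Γ := fun b => by
    rw [LinearMap.mem_ker, LinearMap.mem_ker, hΓΦ]
  have hgk : kB.map g ≤ kC := by
    rintro _ ⟨b, hb, rfl⟩
    rw [hmem, show allGen ιB b = 0 from hb]
    exact zero_mem _
  have eK : qlen ⊥ kB = qlen ⊥ kA + qlen ⊥ (kB.map g) := by
    have h := qlen_exact (K := LinearMap.range f) (bot_le : ⊥ ≤ kB) (g.comp kB.subtype)
      (fun v => (hfg (v : B))) ⊥ (kB.map g) (by
        rw [eq_comm, eq_bot_iff]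
        rintro _ ⟨v, hv, rfl⟩
        show g v ∈ (⊥ : Submodule R C)
        rw [show (v : B) = 0 from (Submodule.mem_bot R).1 hv, map_zero]
        exact zero_mem _)
      (by rw [LinearMap.range_comp, Submodule.range_subtype])
    have e : kB ⊓ LinearMap.range f = kA.map f := by
      refine le_antisymm ?_ ?_
      · rintro _ ⟨hb, a, rfl⟩
        refine ⟨a, ?_, rfl⟩
        have h1 : F (allGen ιA a) = 0 := (hFΦ a).trans hb
        exact LinearMap.mem_ker.2 (hF (h1.trans (map_zero F).symm))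
      · rintro _ ⟨a, ha, rfl⟩
        exact ⟨by rw [SetLike.mem_coe, LinearMap.mem_ker, ← hFΦ, show allGen ιA a = 0 from ha, map_zero], a, rfl⟩
    rw [h, bot_inf_eq, e]
    conv_lhs => rw [← Submodule.map_bot f, qlen_map f hf]
  have eKC : qlen ⊥ kC = qlen ⊥ (kB.map g) + qlen (kB.map g) kC := qlen_add bot_le hgk
  -- the connecting term
  set T := kC.comap g
  set S := LinearMap.range f ⊔ kB
  have hST : S ≤ T := sup_le (by
      rintro _ ⟨a, rfl⟩
      show g (f a) ∈ kC
      rw [hfg.apply_apply_eq_zero]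
      exact zero_mem _) fun b hb => hgk ⟨b, hb, rfl⟩
  have eD1 : qlen S T = qlen ((LinearMap.range (allGen ιA)).map F) PK := by
    have h := qlen_exact (K := kB) hST ((allGen ιB).comp T.subtype) (fun v => LinearMap.mem_ker.symm)
      ((LinearMap.range (allGen ιA)).map F) PK (by
        refine le_antisymm ?_ ?_
        · rintro _ ⟨_, ⟨a, rfl⟩, rfl⟩
          exact ⟨⟨f a, hST (Submodule.mem_sup_left ⟨a, rfl⟩)⟩, Submodule.mem_sup_left ⟨a, rfl⟩, (hFΦ a).symm⟩
        · rintro _ ⟨v, hv, rfl⟩
          obtain ⟨_, ⟨a, rfl⟩, b, hb, e⟩ := Submodule.mem_sup.1 hv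
          refine ⟨_, ⟨a, rfl⟩, ?_⟩
          show _ = allGen ιB (v : B)
          replace e : f a + b = (v : B) := e
          rw [hFΦ, ← e, map_add, show allGen ιB b = 0 from hb, add_zero])
      (by
        rw [LinearMap.range_comp, Submodule.range_subtype]
        refine le_antisymm ?_ ?_
        · rintro _ ⟨⟨b, rfl⟩, hb⟩
          exact ⟨b, (hmem b).2 hb, rfl⟩
        · rintro _ ⟨b, hb, rfl⟩
          exact ⟨⟨b, rfl⟩, (hmem b).1 hb⟩)
    rw [h, inf_eq_right.2 (show kB ≤ S from le_sup_right),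
      inf_eq_right.2 (show kB ≤ T from le_sup_right.trans hST), qlen_self, zero_add]
  have eD2 : qlen S T = qlen (kB.map g) kC := by
    have h := qlen_exact (K := LinearMap.range f) hST (g.comp T.subtype) (fun v => hfg (v : B)) (kB.map g) kC (by
        refine le_antisymm ?_ ?_
        · rintro _ ⟨b, hb, rfl⟩
          exact ⟨⟨b, hST (Submodule.mem_sup_right hb)⟩, Submodule.mem_sup_right hb, rfl⟩
        · rintro _ ⟨v, hv, rfl⟩
          obtain ⟨_, ⟨a, rfl⟩, b, hb, e⟩ := Submodule.mem_sup.1 hv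
          refine ⟨b, hb, ?_⟩
          show g b = g (v : B)
          replace e : f a + b = (v : B) := e
          rw [← e, map_add, hfg.apply_apply_eq_zero, zero_add])
      (by
        rw [LinearMap.range_comp, Submodule.range_subtype]
        exact (Submodule.map_comap_eq_of_surjective hg kC).symm)
    rw [h, inf_eq_right.2 (show LinearMap.range f ≤ S from le_sup_left),
      inf_eq_right.2 (show LinearMap.range f ≤ T from le_sup_left.trans hST), qlen_self, zero_add]
  -- cokernels
  have hPQ : P ≤ Q := by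
    rintro _ ⟨b, rfl⟩ i _
    exact ⟨b, rfl⟩
  have eB : qlen P Q = qlen PK QK + qlen (LinearMap.range (allGen ιC)) (images ιC) := by
    refine qlen_exact hPQ (Γ.comp Q.subtype) (fun v => LinearMap.mem_ker.symm) _ _ ?_ ?_
    · refine le_antisymm ?_ ?_
      · rintro _ ⟨c, rfl⟩
        obtain ⟨b, rfl⟩ := hg c
        exact ⟨⟨_, hPQ ⟨b, rfl⟩⟩, ⟨b, rfl⟩, hΓΦ b⟩
      · rintro _ ⟨v, ⟨b, hb⟩, rfl⟩
        exact ⟨g b, by rw [← hΓΦ, hb]; rfl⟩
    · rw [LinearMap.range_comp, Submodule.range_subtype]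
      refine le_antisymm (fun w hw => ?_) ?_
      · choose c hc using fun i => hw i trivial
        choose b hb using fun i => hg (c i)
        exact ⟨fun i => ιB i (b i), fun i _ => ⟨b i, rfl⟩, funext fun i => by
          show gV i (ιB i (b i)) = w i
          rw [← hgc, hb, hc]⟩
      · rintro _ ⟨v, hv, rfl⟩ i _
        obtain ⟨b, hb⟩ := hv i trivial
        exact ⟨g b, by rw [hgc, hb]; rfl⟩
  have hQK : (Submodule.pi Set.univ A').map F = QK := by
    refine le_antisymm ?_ ?_
    · rintro _ ⟨v, hv, rfl⟩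
      exact ⟨fun i _ => hv i trivial, (hΓF _).2 ⟨v, rfl⟩⟩
    · rintro w ⟨hw, hw0⟩
      obtain ⟨v, rfl⟩ := (hΓF w).1 hw0
      exact ⟨v, fun i _ => hw i trivial, rfl⟩
  have hAP : (LinearMap.range (allGen ιA)).map F ≤ PK := by
    rintro _ ⟨_, ⟨a, rfl⟩, rfl⟩
    exact ⟨⟨f a, (hFΦ a).symm⟩, (hΓF _).2 ⟨_, rfl⟩⟩
  have hPA : LinearMap.range (allGen ιA) ≤ images ιA := by
    rintro _ ⟨a, rfl⟩ i _
    exact ⟨a, rfl⟩
  have eA : qlen (LinearMap.range (allGen ιA)) (images ιA) + ∑ i, qlen (LinearMap.range (ιA i)) (A' i) =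
      qlen (kB.map g) kC + qlen PK QK := by
    rw [← eD2, eD1, ← qlen_pi,
      ← qlen_add hPA (show images ιA ≤ Submodule.pi Set.univ A' from fun w hw i hi => hAA' i (hw i hi)),
      ← qlen_map F hF, hQK, qlen_add hAP (inf_le_inf_right _ hPQ)]
  -- finiteness
  have hfA := qlen_coker_ne_top hA sA
  have hfk : qlen ⊥ kC ≠ ⊤ := qlen_ker_ne_top hC
  have hfB := qlen_coker_ne_top hB sB
  have hfkB : qlen ⊥ kB ≠ ⊤ := qlen_ker_ne_top hB
  rw [eB] at hfB
  rw [eK] at hfkB
  obtain ⟨f1, f2⟩ := WithTop.add_ne_top.1 hfB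
  obtain ⟨f3, f4⟩ := WithTop.add_ne_top.1 hfkB
  rw [eKC] at hfk
  obtain ⟨-, f5⟩ := WithTop.add_ne_top.1 hfk
  have f6 : ∀ i, qlen (LinearMap.range (ιA i)) (A' i) ≠ ⊤ := fun i => qlen_ne_top (sA i) (isLat_range hA i) (hA'lat i)
  have f7 : ∑ i, qlen (LinearMap.range (ιA i)) (A' i) ≠ ⊤ := fun h => by
    obtain ⟨i, -, hi⟩ := WithTop.sum_eq_top.1 h
    exact f6 i hi
  have n1 : rlen ⊥ kB = rlen ⊥ kA + rlen ⊥ (kB.map g) := by
    simp only [rlen, eK, ENat.toNat_add f3 f4]
    push_cast; ring
  have n2 : rlen ⊥ kC = rlen ⊥ (kB.map g) + rlen (kB.map g) kC := by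
    simp only [rlen, eKC, ENat.toNat_add f4 f5]
    push_cast; ring
  have n3 : rlen P Q = rlen PK QK + rlen (LinearMap.range (allGen ιC)) (images ιC) := by
    simp only [rlen, eB, ENat.toNat_add f1 f2]
    push_cast; ring
  have n4 : rlen (LinearMap.range (allGen ιA)) (images ιA) + ∑ i, rlen (LinearMap.range (ιA i)) (A' i) =
      rlen (kB.map g) kC + rlen PK QK := by
    have e := congrArg ENat.toNat eA
    rw [ENat.toNat_add hfA f7, ENat.toNat_add f5 f1, ENat.toNat_sum fun i _ => f6 i] at e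
    simp only [rlen]
    exact_mod_cast e
  simp only [locDeg, chi, Finset.sum_congr rfl fun i _ => hlam i, Finset.sum_add_distrib]
  linarith

end Groth.L22.LatDeg
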