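import Groth.Agent.L22.LatDeg.Sigma
import Groth.Agent.L00.Skyscraper
import Groth.Agent.L16.QcqsPush

/-!
Products of skyscrapers over a locally finite set of points.
-/

set_option autoImplicit false
set_option linter.style.haveILetI false
set_option backward.isDefEq.respectTransparency false
set_option backward.isDefEq.respectTransparency.types false

universe u

open CategoryTheory CategoryTheory.Limits AlgebraicGeometry Opposite TopologicalSpace
open Groth.L00.Tensor Groth.L00.StalkTensor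
open Groth.L00.Sky (sky toHom ofHom ofHom_germ)
open Groth.L18.Frame (rs ro)

noncomputable section

namespace Groth.L22.LatDeg.MSky

variable {X : Scheme.{u}} (T : Set X) (N : (ξ : T) → ModuleCat.{u} (X.presheaf.stalk ξ.1))

/-- sections over `U` -/
def Sec (U : X.Opens) : Type u := (ξ : T) → Groth.L00.Sky.Sec ξ.1 (N ξ) U

instance (U : X.Opens) : AddCommGroup (Sec T N U) :=
  inferInstanceAs (AddCommGroup ((ξ : T) → Groth.L00.Sky.Sec ξ.1 (N ξ) U))

instance secModule (U : X.Opens) : Module (X.presheaf.obj (op U)) (Sec T N U) :=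
  inferInstanceAs (Module (X.presheaf.obj (op U)) ((ξ : T) → Groth.L00.Sky.Sec ξ.1 (N ξ) U))

/-- the presheaf of abelian groups -/
def abPre : X.Opensᵒᵖ ⥤ Ab.{u} where
  obj U := AddCommGrpCat.of (Sec T N U.unop)
  map {U V} i := AddCommGrpCat.ofHom
    { toFun := fun s ξ h => s ξ ⟨i.unop.le h.down⟩
      map_zero' := rfl
      map_add' := fun _ _ => rfl }

instance (U : X.Opensᵒᵖ) : Module ((X.presheaf ⋙ forget₂ CommRingCat RingCat).obj U) ((abPre T N).obj U) :=
  secModule T N U.unop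

theorem abPre_map_smul ⦃U V : X.Opensᵒᵖ⦄ (i : U ⟶ V)
    (r : (X.presheaf ⋙ forget₂ CommRingCat RingCat).obj U) (m : (abPre T N).obj U) :
    (abPre T N).map i (r • m) =
      (X.presheaf ⋙ forget₂ CommRingCat RingCat).map i r • (abPre T N).map i m := by
  funext ξ
  exact Groth.L00.Sky.abPre_map_smul ξ.1 (N ξ) i r (m ξ)

theorem abPre_isSheaf : TopCat.Presheaf.IsSheaf (abPre T N) := by
  rw [TopCat.Presheaf.isSheaf_iff_isSheafUniqueGluing]
  intro ι U sf hc
  classical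
  let s : Sec T N (iSup U) := fun ξ h =>
    sf (Opens.mem_iSup.1 h.down).choose ξ ⟨(Opens.mem_iSup.1 h.down).choose_spec⟩
  refine ⟨s, fun i => funext fun ξ => funext fun h => ?_, fun t ht => funext fun ξ => funext fun h => ?_⟩
  · exact congrFun (congrFun (hc _ i) ξ)
      ⟨⟨(Opens.mem_iSup.1 ((Opens.leSupr U i).le h.down)).choose_spec, h.down⟩⟩
  · exact congrFun (congrFun (ht (Opens.mem_iSup.1 h.down).choose) ξ) ⟨(Opens.mem_iSup.1 h.down).choose_spec⟩

/-- the product of the skyscrapers -/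
def msky : X.Modules where
  val := PresheafOfModules.ofPresheaf (R := X.presheaf ⋙ forget₂ CommRingCat RingCat) (abPre T N)
    (abPre_map_smul T N)
  isSheaf := abPre_isSheaf T N

/-- the projections -/
def proj (ξ : T) : msky T N ⟶ sky ξ.1 (N ξ) :=
  ⟨PresheafOfModules.homMk
    { app := fun U => AddCommGrpCat.ofHom
        { toFun := fun (s : Sec T N U.unop) => (s ξ : Groth.L00.Sky.Sec ξ.1 (N ξ) U.unop)
          map_zero' := rfl
          map_add' := fun _ _ => rfl }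
      naturality := fun _ _ _ => rfl }
    (fun _ _ _ => rfl)⟩

variable {T N}

/-- maps into the product -/
def lift {M : X.Modules} (φ : (ξ : T) → ((Groth.L00.Stk.F X ξ.1).obj M ⟶ N ξ)) : M ⟶ msky T N :=
  ⟨PresheafOfModules.homMk
    { app := fun U => AddCommGrpCat.ofHom
        { toFun := fun m => (fun ξ => (toHom M (N ξ) (φ ξ)).app U.unop m : Sec T N U.unop)
          map_zero' := funext fun ξ => map_zero ((toHom M (N ξ) (φ ξ)).app U.unop).hom
          map_add' := fun a b => funext fun ξ => map_add ((toHom M (N ξ) (φ ξ)).app U.unop).hom a b }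
      naturality := fun U V i => by
        ext m
        funext ξ h
        exact congrArg (φ ξ) (germ_rs (pre M) ξ.1 i.unop h.down m) }
    (fun U r m => funext fun ξ => (((toHom M (N ξ) (φ ξ)).val.app U).hom.map_smul r m :))⟩

theorem lift_proj {M : X.Modules} (φ : (ξ : T) → ((Groth.L00.Stk.F X ξ.1).obj M ⟶ N ξ)) (ξ : T) :
    lift φ ≫ proj T N ξ = toHom M (N ξ) (φ ξ) := by
  apply Scheme.Modules.hom_ext
  intro U
  ext m
  rfl

variable (T N) in
/-- evaluation at a point of the family -/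
def ev (ξ : T) : (Groth.L00.Stk.F X ξ.1).obj (msky T N) ⟶ N ξ := ofHom (proj T N ξ)

theorem ofHom_comp {M M' : X.Modules} {x : X} {P : ModuleCat.{u} (X.presheaf.stalk x)} (f : M ⟶ M')
    (ψ : M' ⟶ sky x P) : ofHom (f ≫ ψ) = (Groth.L00.Stk.F X x).map f ≫ ofHom ψ :=
  by
  ext p
  obtain ⟨U, hU, m, rfl⟩ := exists_germ (pre M) x p
  refine (ofHom_germ (f ≫ ψ) hU m).trans ?_
  refine (ofHom_germ ψ hU (f.app U m)).symm.trans ?_
  exact congrArg (ofHom ψ) (DerSch.stalkFunctor_map_germ x f U hU m).symm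

theorem map_lift_ev {M : X.Modules} (φ : (ξ : T) → ((Groth.L00.Stk.F X ξ.1).obj M ⟶ N ξ)) (ξ : T) :
    (Groth.L00.Stk.F X ξ.1).map (lift φ) ≫ ev T N ξ = φ ξ := by
  rw [ev, ← ofHom_comp, lift_proj]
  ext p
  obtain ⟨U, hU, m, rfl⟩ := exists_germ (pre M) ξ.1 p
  exact ofHom_germ _ hU m

theorem ev_injective (hT : ∀ x : X, ∃ U : Set X, IsOpen U ∧ x ∈ U ∧ (U ∩ T).Finite)
    (hsp : ∀ a ∈ T, ∀ b ∈ T, a ⤳ b → a = b) (ξ : T) : Function.Injective (ev T N ξ) := by
  rw [injective_iff_map_eq_zero]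
  intro p hp
  obtain ⟨U, hU, s, rfl⟩ := exists_germ (pre (msky T N)) ξ.1 p
  replace hp : (s : Sec T N U) ξ ⟨hU⟩ = 0 := (ofHom_germ (proj T N ξ) hU s).symm.trans hp
  obtain ⟨W, hW, hξW, hfin⟩ := hT ξ.1
  let C : Set X := ⋃ a ∈ (W ∩ T) \ {ξ.1}, closure {a}
  have hC : IsClosed C := (hfin.subset Set.sdiff_subset).isClosed_biUnion fun _ _ => isClosed_closure
  let V : X.Opens := U ⊓ ⟨W ∩ Cᶜ, hW.inter hC.isOpen_compl⟩
  have hξV : ξ.1 ∈ V := ⟨hU, hξW, fun h => by
    obtain ⟨a, ha, hh⟩ := Set.mem_iUnion₂.1 h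
    exact ha.2 (hsp a ha.1.2 ξ.1 ξ.2 (specializes_iff_mem_closure.2 hh))⟩
  let i : V ⟶ U := homOfLE inf_le_left
  refine (germ_rs (pre (msky T N)) ξ.1 i hξV s).symm.trans ?_
  have h0 : (pre (msky T N)).map i.op s = 0 := by
    funext a h
    by_cases e : a.1 = ξ.1
    · obtain rfl : a = ξ := Subtype.ext e
      exact hp
    · exact absurd (Set.mem_iUnion₂.2 ⟨a.1, ⟨⟨h.down.2.1, a.2⟩, e⟩, subset_closure (Set.mem_singleton _)⟩) h.down.2.2
  exact (congrArg (germ (pre (msky T N)) ξ.1 hξV) h0).trans (map_zero _)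

/-- Products of finite length skyscrapers are quasi-coherent. -/
theorem isQCoh_msky (hT : ∀ x : X, ∃ U : Set X, IsOpen U ∧ x ∈ U ∧ (U ∩ T).Finite)
    (hN : ∀ ξ : T, ∃ n : ℕ, ∀ r ∈ IsLocalRing.maximalIdeal (X.presheaf.stalk ξ.1), ∀ v : N ξ, r ^ n • v = 0) :
    Coh.IsQCoh (msky T N) := by
  classical
  refine Groth.L16.QcqsPush.isQCoh_of_sections _ fun y => ?_
  obtain ⟨_, ⟨V, hV, rfl⟩, hyV, -⟩ :=
    X.isBasis_affineOpens.exists_subset_of_mem_open (Set.mem_univ y) isOpen_univ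
  choose W hW hxW hWfin using hT
  obtain ⟨F, -, hF⟩ := hV.isCompact.elim_nhds_subcover W fun x _ => (hW x).mem_nhds (hxW x)
  have hfin : ((V : Set X) ∩ T).Finite := (F.finite_toSet.biUnion fun x _ => hWfin x).subset fun z hz => by
    obtain ⟨x, hx, hzx⟩ := Set.mem_iUnion₂.1 (hF hz.1)
    exact Set.mem_iUnion₂.2 ⟨x, hx, hzx, hz.2⟩
  choose n hn using hN
  haveI := hfin.to_subtype
  haveI : Finite {ξ : T // ξ.1 ∈ V} :=
    Finite.of_injective (β := ↥((V : Set X) ∩ T)) (fun ξ => ⟨ξ.1.1, ξ.2, ξ.1.2⟩)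
      fun a b e => Subtype.ext (Subtype.ext (congrArg Subtype.val e :))
  obtain ⟨m, hm⟩ := Finite.exists_le fun ξ : {ξ : T // ξ.1 ∈ V} => n ξ.1
  refine ⟨V, hyV, hV, fun a => ⟨fun s => ?_, fun t ht => ⟨m, funext fun ξ => funext fun h => ?_⟩⟩⟩
  · refine ⟨0, (fun ξ _ => if hx : ξ.1 ∈ X.basicOpen a then (s : Sec T N _) ξ ⟨hx⟩ else 0 : Sec T N V), ?_⟩
    refine Eq.trans ?_ ((congrArg (· • s) (show ro (X.basicOpen_le a) (a ^ 0) = 1 by
      rw [pow_zero]; exact map_one _)).trans (one_smul _ _)).symm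
    funext ξ h
    exact dif_pos h.down
  · show (X.presheaf.germ V ξ.1 h.down (a ^ m) : X.presheaf.stalk ξ.1) • (t : Sec T N V) ξ h = 0
    by_cases hx : ξ.1 ∈ X.basicOpen a
    · rw [show (t : Sec T N V) ξ h = 0 from congrFun (congrFun ht ξ) ⟨hx⟩, smul_zero]
    · obtain ⟨j, hj⟩ := Nat.exists_eq_add_of_le (hm ⟨ξ, h.down⟩)
      rw [map_pow, hj, pow_add, mul_comm, mul_smul,
        hn ξ _ ((IsLocalRing.mem_maximalIdeal _).2 fun hu => hx ((X.mem_basicOpen a ξ.1 h.down).2 hu)), smul_zero]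

end Groth.L22.LatDeg.MSky
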