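import Groth.Agent.L22.LatDeg.DevEquiv
import Groth.Agent.L22.C1.Comm
import Groth.Agent.L22.Cyc.FlatRat
import Groth.Agent.L22.WeakAssPoints

/-!
A principal divisor is the difference of two cokernels.
-/

set_option autoImplicit false
set_option linter.style.haveILetI false
set_option maxSynthPendingDepth 3
set_option backward.isDefEq.respectTransparency false
set_option backward.isDefEq.respectTransparency.types false

universe u

open CategoryTheory CategoryTheory.Limits AlgebraicGeometry IsLocalRing Opposite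
open Groth.L16.CohSupport (len)
open Groth.L00.Tensor Groth.L00.StalkTensor

noncomputable section

namespace Groth.L22.LatDeg

theorem qlen_top {R V : Type u} [CommRing R] [AddCommGroup V] [Module R V] (P : Submodule R V) :
    qlen P ⊤ = Module.length R (V ⧸ P) := by
  refine (Submodule.Quotient.equiv _ _ Submodule.topEquiv ?_).length_eq
  ext v
  exact ⟨fun ⟨w, hw, e⟩ => e ▸ hw, fun hv => ⟨⟨v, trivial⟩, hv, rfl⟩⟩

/-- The change of the length along a unit. -/
theorem rlen_span_sub {K : Type u} [CommRing K] [IsLocalRing K] {R : Type u} [CommRing R] [Algebra R K] [Adm R K]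
    {c : ResidueField K} (hc : c ≠ 0) :
    rlen (one K) (one K ⊔ Submodule.span R {c}) - rlen (Submodule.span R {c}) (one K ⊔ Submodule.span R {c}) =
      -ordR R c := by
  have hL : IsLat (⊤ : Submodule K (ResidueField K)) (one K ⊔ Submodule.span R {c}) :=
    isLat_one.mono (isLat_one.fg.sup (isLat_span hc).fg) le_sup_left fun _ _ => trivial
  have h1 := deg_sub hL isLat_one le_sup_left
  have h2 := deg_sub hL (isLat_span hc) le_sup_right
  rw [deg_one] at h1
  rw [ordR]
  linarith

theorem pi_sup {R : Type u} [CommRing R] {G : Type u} {V : G → Type u} [∀ i, AddCommGroup (V i)]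
    [∀ i, Module R (V i)] (P Q : ∀ i, Submodule R (V i)) :
    Submodule.pi Set.univ P ⊔ Submodule.pi Set.univ Q = Submodule.pi Set.univ fun i => P i ⊔ Q i := by
  refine le_antisymm (sup_le (fun v hv i hi => Submodule.mem_sup_left (hv i hi))
    fun v hv i hi => Submodule.mem_sup_right (hv i hi)) fun v hv => ?_
  choose a ha b hb e using fun i => Submodule.mem_sup.1 (hv i trivial)
  exact Submodule.mem_sup.2 ⟨a, fun i _ => ha i, b, fun i _ => hb i, funext e⟩

variable {X : Scheme.{u}}

theorem spL_oneGerm {x ξ : X} (h : ξ ⤳ x) :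
    spL (Coh.structureModule X) h (Groth.L22.oneGerm x) = Groth.L22.oneGerm ξ :=
  TopCat.Presheaf.germ_stalkSpecializes_apply (Coh.structureModule X).presheaf (U := ⊤) (hy := trivial) h _

/-- The residue field as a module. -/
abbrev resMod (ξ : X) : ModuleCat.{u} (X.presheaf.stalk ξ) :=
  ModuleCat.of (X.presheaf.stalk ξ) (ResidueField (X.presheaf.stalk ξ))

/-- The product of the residue fields. -/
abbrev ratSky (T : Set X) : X.Modules := MSky.msky T fun ξ => resMod ξ.1

/-- Values at the points generising `x`. -/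
def evP (T : Set X) (x : X) :
    letI : ∀ g : Gens T x, Algebra (X.presheaf.stalk x) (X.presheaf.stalk g.1) := fun g => algSp g.2.2
    (ratSky T).presheaf.stalk x →ₗ[X.presheaf.stalk x] ∀ g : Gens T x, ResidueField (X.presheaf.stalk g.1) :=
  letI : ∀ g : Gens T x, Algebra (X.presheaf.stalk x) (X.presheaf.stalk g.1) := fun g => algSp g.2.2
  { toFun := fun v g => MSky.ev T (fun ξ => resMod ξ.1) ⟨g.1, g.2.1⟩ (spL (ratSky T) g.2.2 v)
    map_add' := fun a b => funext fun g => by
      rw [map_add]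
      exact map_add (MSky.ev T (fun ξ => resMod ξ.1) ⟨g.1, g.2.1⟩).hom _ _
    map_smul' := fun r v => funext fun g => by
      letI := modSp (ratSky T) g.2.2
      rw [map_smul]
      refine ((MSky.ev T (fun ξ => resMod ξ.1) ⟨g.1, g.2.1⟩).hom.map_smul
        (X.presheaf.stalkSpecializes g.2.2 r) (spL (ratSky T) g.2.2 v)).trans ?_
      exact IsScalarTower.algebraMap_smul (X.presheaf.stalk g.1) r _ }

theorem evP_apply (T : Set X) (x : X) (v : (ratSky T).presheaf.stalk x) (g : Gens T x) :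
    evP T x v g = MSky.ev T (fun ξ => resMod ξ.1) ⟨g.1, g.2.1⟩ (spL (ratSky T) g.2.2 v) := rfl

theorem evP_injective {T : Set X} (hT : ∀ x : X, ∃ U : Set X, IsOpen U ∧ x ∈ U ∧ (U ∩ T).Finite) (x : X) :
    Function.Injective (evP T x) := by
  rw [injective_iff_map_eq_zero]
  intro p hp
  obtain ⟨U, hU, s, rfl⟩ := exists_germ (pre (ratSky T)) x p
  obtain ⟨W, hW, hxW, hfin⟩ := hT x
  let C : Set X := ⋃ a ∈ {a | a ∈ W ∩ T ∧ ¬ a ⤳ x}, closure {a}
  have hC : IsClosed C := (hfin.subset fun a ha => ha.1).isClosed_biUnion fun _ _ => isClosed_closure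
  let V : X.Opens := U ⊓ ⟨W ∩ Cᶜ, hW.inter hC.isOpen_compl⟩
  have hxV : x ∈ V := ⟨hU, hxW, fun h => by
    obtain ⟨a, ha, hh⟩ := Set.mem_iUnion₂.1 h
    exact ha.2 (specializes_iff_mem_closure.2 hh)⟩
  let i : V ⟶ U := homOfLE inf_le_left
  refine (germ_rs (pre (ratSky T)) x i hxV s).symm.trans ?_
  have h0 : (pre (ratSky T)).map i.op s = 0 := by
    funext a h
    have hax : a.1 ⤳ x := by
      by_contra hne
      exact h.down.2.2 (Set.mem_iUnion₂.2 ⟨a.1, ⟨⟨h.down.2.1, a.2⟩, hne⟩, subset_closure (Set.mem_singleton _)⟩)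
    have e : MSky.ev T (fun ξ => resMod ξ.1) a
        (spL (ratSky T) hax ((ratSky T).presheaf.germ U x hU s)) = 0 := congrFun hp ⟨a.1, a.2, hax⟩
    rw [spL_apply, TopCat.Presheaf.germ_stalkSpecializes_apply] at e
    exact (Groth.L00.Sky.ofHom_germ (MSky.proj T (fun ξ => resMod ξ.1) a) (h.down.1) s).symm.trans e
  exact (congrArg (germ (pre (ratSky T)) x hxV) h0).trans (map_zero _)

theorem hom_ext_msky {T : Set X} {N : (ξ : T) → ModuleCat.{u} (X.presheaf.stalk ξ.1)} {M : X.Modules}
    {f g : M ⟶ MSky.msky T N}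
    (h : ∀ ξ : T, (Groth.L00.Stk.F X ξ.1).map f ≫ MSky.ev T N ξ = (Groth.L00.Stk.F X ξ.1).map g ≫ MSky.ev T N ξ) :
    f = g := by
  apply Scheme.Modules.hom_ext
  intro U
  ext m
  funext ξ hξ
  have e := ConcreteCategory.congr_hom (h ξ) (germ (pre M) ξ.1 hξ.down m)
  rw [MSky.ev, ← MSky.ofHom_comp, ← MSky.ofHom_comp] at e
  exact ((Groth.L00.Sky.ofHom_germ (f ≫ MSky.proj T N ξ) hξ.down m).symm.trans e).trans
    (Groth.L00.Sky.ofHom_germ (g ≫ MSky.proj T N ξ) hξ.down m)

section Build

variable (T : Set X) (c : (ξ : T) → ResidueField (X.presheaf.stalk ξ.1))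

/-- Multiplication on the product. -/
def mulSky : ratSky T ⟶ ratSky T :=
  MSky.lift fun ξ => MSky.ev T (fun ξ => resMod ξ.1) ξ ≫
    ModuleCat.ofHom (LinearMap.mulLeft (X.presheaf.stalk ξ.1) (c ξ))

theorem ev_mulSky (ξ : T) (v : (ratSky T).presheaf.stalk ξ.1) :
    MSky.ev T (fun ξ => resMod ξ.1) ξ ((Groth.L00.Stk.F X ξ.1).map (mulSky T c) v) =
      c ξ * MSky.ev T (fun ξ => resMod ξ.1) ξ v :=
  ConcreteCategory.congr_hom (MSky.map_lift_ev (fun ξ : T => MSky.ev T (fun ξ => resMod ξ.1) ξ ≫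
    ModuleCat.ofHom (LinearMap.mulLeft (X.presheaf.stalk ξ.1) (c ξ))) ξ) v

theorem mulSky_comp (d : (ξ : T) → ResidueField (X.presheaf.stalk ξ.1)) (h : ∀ ξ, d ξ * c ξ = 1) :
    mulSky T c ≫ mulSky T d = 𝟙 _ := by
  refine hom_ext_msky fun ξ => ?_
  ext v
  rw [Functor.map_comp, CategoryTheory.Functor.map_id]
  show MSky.ev T (fun ξ => resMod ξ.1) ξ ((Groth.L00.Stk.F X ξ.1).map (mulSky T d)
    ((Groth.L00.Stk.F X ξ.1).map (mulSky T c) v)) = MSky.ev T (fun ξ => resMod ξ.1) ξ v
  rw [ev_mulSky, ev_mulSky, ← mul_assoc, h, one_mul]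

/-- The residue map on the structure sheaf. -/
def resOne (ξ : X) : (Groth.L00.Stk.F X ξ).obj (Coh.structureModule X) ⟶ resMod ξ :=
  ModuleCat.ofHom ((Algebra.linearMap (X.presheaf.stalk ξ) (ResidueField (X.presheaf.stalk ξ))).comp
    (LinearEquiv.ofBijective
      (LinearMap.toSpanSingleton (X.presheaf.stalk ξ) ((Coh.structureModule X).presheaf.stalk ξ)
        (Groth.L22.oneGerm ξ))
      ⟨(injective_iff_map_eq_zero _).2 fun a ha => Groth.L22.eq_zero_of_smul_oneGerm ha,
        Groth.L22.stalk_smul_oneGerm_surjective ξ⟩).symm.toLinearMap)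

theorem resOne_oneGerm (ξ : X) : resOne ξ (Groth.L22.oneGerm ξ) = (1 : ResidueField (X.presheaf.stalk ξ)) := by
  show algebraMap (X.presheaf.stalk ξ) (ResidueField (X.presheaf.stalk ξ)) ((LinearEquiv.ofBijective _ _).symm _) = 1
  rw [(LinearEquiv.symm_apply_eq _).2 (one_smul (X.presheaf.stalk ξ) (Groth.L22.oneGerm ξ)).symm]
  exact map_one _

open Classical in
/-- The section `1` of one factor. -/
def oMap (ξ : T) : Coh.structureModule X ⟶ ratSky T :=
  MSky.lift fun a => if a = ξ then resOne a.1 else 0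

open Classical in
theorem ev_oMap (ξ a : T) : MSky.ev T (fun ξ => resMod ξ.1) a
    ((Groth.L00.Stk.F X a.1).map (oMap T ξ) (Groth.L22.oneGerm a.1)) = if a = ξ then 1 else 0 := by
  refine (ConcreteCategory.congr_hom (MSky.map_lift_ev (fun a : T => if a = ξ then resOne a.1 else 0) a)
    (Groth.L22.oneGerm a.1)).trans ?_
  split_ifs
  · exact resOne_oneGerm a.1
  · rfl

/-- The sum of the images of the sections `1`. -/
abbrev allOne : (∐ fun ξ : T => Abelian.image (oMap T ξ)) ⟶ ratSky T :=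
  Limits.Sigma.desc fun ξ => Abelian.image.ι (oMap T ξ)

/-- The standard lattice. -/
abbrev latA : X.Modules := Abelian.image (allOne T)

/-- The two lattices together. -/
abbrev latH : X.Modules :=
  Abelian.image (biprod.desc (Abelian.image.ι (allOne T)) (Abelian.image.ι (allOne T) ≫ mulSky T c))

/-- The first inclusion. -/
abbrev inA : latA T ⟶ latH T c :=
  biprod.inl ≫ Abelian.factorThruImage
    (biprod.desc (Abelian.image.ι (allOne T)) (Abelian.image.ι (allOne T) ≫ mulSky T c))

/-- The second inclusion. -/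
abbrev inB : latA T ⟶ latH T c :=
  biprod.inr ≫ Abelian.factorThruImage
    (biprod.desc (Abelian.image.ι (allOne T)) (Abelian.image.ι (allOne T) ≫ mulSky T c))

theorem inA_ι : inA T c ≫ Abelian.image.ι _ = Abelian.image.ι (allOne T) := by
  rw [inA, Category.assoc, Abelian.image.fac, biprod.inl_desc]

theorem inB_ι : inB T c ≫ Abelian.image.ι _ = Abelian.image.ι (allOne T) ≫ mulSky T c := by
  rw [inB, Category.assoc, Abelian.image.fac, biprod.inr_desc]

theorem mono_inA : Mono (inA T c) := by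
  haveI : Mono (inA T c ≫ Abelian.image.ι _) := by rw [inA_ι]; infer_instance
  exact mono_of_mono _ (Abelian.image.ι _)

variable (hc : ∀ ξ, c ξ ≠ 0)

include hc in
theorem mono_inB : Mono (inB T c) := by
  haveI : Mono (mulSky T c) :=
    mono_of_mono_fac (mulSky_comp T c (fun ξ => (c ξ)⁻¹) fun ξ => inv_mul_cancel₀ (hc ξ))
  haveI : Mono (inB T c ≫ Abelian.image.ι _) := by rw [inB_ι]; exact mono_comp _ _
  exact mono_of_mono _ (Abelian.image.ι _)

theorem map_surjective {A B : X.Modules} (f : A ⟶ B) [Epi f] (x : X) :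
    Function.Surjective ((Groth.L00.Stk.F X x).map f) :=
  (AddCommGrpCat.epi_iff_surjective _).1 ((Groth.L21.Mod.epi_iff_stalk f).1 inferInstance x)

theorem map_injective {A B : X.Modules} (f : A ⟶ B) [Mono f] (x : X) :
    Function.Injective ((Groth.L00.Stk.F X x).map f) :=
  (AddCommGrpCat.mono_iff_injective _).1 ((Groth.L21.Mod.mono_iff_stalk f).1 inferInstance x)

theorem map_map {A B C : X.Modules} (f : A ⟶ B) (g : B ⟶ C) (x : X) (v : (Groth.L00.Stk.F X x).obj A) :
    ((Groth.L00.Stk.F X x).map g).hom (((Groth.L00.Stk.F X x).map f).hom v) =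
      ((Groth.L00.Stk.F X x).map (f ≫ g)).hom v := by
  rw [Functor.map_comp]
  rfl

/-- A stalk of a sum is spanned by the stalks of the summands. -/
theorem range_map_desc {I : Type u} {M : I → X.Modules} {Q : X.Modules} (f : ∀ i, M i ⟶ Q) (x : X)
    (S : Submodule (X.presheaf.stalk x) ((Groth.L00.Stk.F X x).obj Q))
    (h : ∀ i (v : (Groth.L00.Stk.F X x).obj (M i)), (Groth.L00.Stk.F X x).map (f i) v ∈ S)
    (v : (Groth.L00.Stk.F X x).obj (∐ M)) : (Groth.L00.Stk.F X x).map (Limits.Sigma.desc f) v ∈ S := by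
  let e := PreservesCoproduct.iso (Groth.L00.Stk.F X x) M
  have h0 : ModuleCat.ofHom (S.mkQ.comp (e.inv ≫ (Groth.L00.Stk.F X x).map (Limits.Sigma.desc f)).hom) = 0 := by
    refine Limits.Sigma.hom_ext _ _ fun i => ?_
    ext w
    show S.mkQ _ = _
    have e1 : Limits.Sigma.ι (fun i => (Groth.L00.Stk.F X x).obj (M i)) i ≫ e.inv ≫
        (Groth.L00.Stk.F X x).map (Limits.Sigma.desc f) = (Groth.L00.Stk.F X x).map (f i) := by
      rw [← Category.assoc, PreservesCoproduct.inv_hom, ι_comp_sigmaComparison, ← Functor.map_comp,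
        Limits.Sigma.ι_desc]
    rw [comp_zero]
    refine (congrArg S.mkQ (ConcreteCategory.congr_hom e1 w)).trans ?_
    exact (Submodule.Quotient.mk_eq_zero _).2 (h i w)
  have h1 := LinearMap.congr_fun (congrArg ModuleCat.Hom.hom h0) (e.hom v)
  have h2 : (e.inv ≫ (Groth.L00.Stk.F X x).map (Limits.Sigma.desc f)).hom (e.hom v) =
      (Groth.L00.Stk.F X x).map (Limits.Sigma.desc f) v := by
    show ((e.hom ≫ e.inv) ≫ (Groth.L00.Stk.F X x).map (Limits.Sigma.desc f)) v = _
    rw [e.hom_inv_id, Category.id_comp]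
  rw [ModuleCat.hom_ofHom, LinearMap.comp_apply, h2] at h1
  exact (Submodule.Quotient.mk_eq_zero _).1 h1

open Classical in
theorem evP_oMap (ξ : T) (x : X) (r : X.presheaf.stalk x) (g : Gens T x) :
    letI : ∀ g : Gens T x, Algebra (X.presheaf.stalk x) (X.presheaf.stalk g.1) := fun g => algSp g.2.2
    evP T x ((Groth.L00.Stk.F X x).map (oMap T ξ) (r • Groth.L22.oneGerm x)) g =
      r • if g.1 = ξ.1 then (1 : ResidueField (X.presheaf.stalk g.1)) else 0 := by
  letI : ∀ g : Gens T x, Algebra (X.presheaf.stalk x) (X.presheaf.stalk g.1) := fun g => algSp g.2.2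
  rw [map_smul, map_smul, Pi.smul_apply]
  congr 1
  rw [evP_apply, stalkMap_sp, spL_oneGerm, ev_oMap]
  simp only [Subtype.ext_iff]

/-- The stalk of the standard lattice. -/
theorem range_evP_latA (hT : ∀ x : X, ∃ U : Set X, IsOpen U ∧ x ∈ U ∧ (U ∩ T).Finite) (x : X) :
    letI : ∀ g : Gens T x, Algebra (X.presheaf.stalk x) (X.presheaf.stalk g.1) := fun g => algSp g.2.2
    LinearMap.range ((evP T x).comp ((Groth.L00.Stk.F X x).map (Abelian.image.ι (allOne T))).hom) =
      Submodule.pi Set.univ fun g : Gens T x => one (R := X.presheaf.stalk x) (X.presheaf.stalk g.1) := by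
  classical
  letI : ∀ g : Gens T x, Algebra (X.presheaf.stalk x) (X.presheaf.stalk g.1) := fun g => algSp g.2.2
  refine le_antisymm ?_ ?_
  · rintro _ ⟨v, rfl⟩
    obtain ⟨w, rfl⟩ := map_surjective (Abelian.factorThruImage (allOne T)) x v
    show evP T x (((Groth.L00.Stk.F X x).map (Abelian.image.ι (allOne T))).hom
      (((Groth.L00.Stk.F X x).map (Abelian.factorThruImage (allOne T))).hom w)) ∈ _
    rw [map_map, Abelian.image.fac]
    refine range_map_desc (fun ξ : T => Abelian.image.ι (oMap T ξ)) x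
      ((Submodule.pi Set.univ fun g : Gens T x => one (R := X.presheaf.stalk x) (X.presheaf.stalk g.1)).comap
        (evP T x)) (fun ξ v => ?_) w
    obtain ⟨u, rfl⟩ := map_surjective (Abelian.factorThruImage (oMap T ξ)) x v
    rw [← ConcreteCategory.comp_apply, ← Functor.map_comp, Abelian.image.fac]
    obtain ⟨r, rfl⟩ := Groth.L22.stalk_smul_oneGerm_surjective x u
    intro g _
    show evP T x _ g ∈ _
    rw [evP_oMap]
    refine Submodule.smul_mem _ r ?_
    split_ifs
    · exact Submodule.mem_span_singleton_self _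
    · exact Submodule.zero_mem _
  · intro w hw
    haveI : Finite (Gens T x) := by
      obtain ⟨U, hU, hxU, hfin⟩ := hT x
      exact (hfin.subset fun ξ (h : ξ ∈ T ∧ ξ ⤳ x) => (⟨h.2.mem_open hU hxU, h.1⟩ : ξ ∈ U ∩ T)).to_subtype
    letI : Fintype (Gens T x) := Fintype.ofFinite _
    choose r hr using fun g => Submodule.mem_span_singleton.1 (hw g trivial)
    have hmem : ∀ g : Gens T x, ∃ v, evP T x ((Groth.L00.Stk.F X x).map (Abelian.image.ι (allOne T)) v) =
        fun g' : Gens T x => if g'.1 = g.1 then r g • (1 : ResidueField (X.presheaf.stalk g'.1)) else 0 := fun g => by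
      refine ⟨(Groth.L00.Stk.F X x).map (Abelian.factorThruImage (oMap T ⟨g.1, g.2.1⟩) ≫
        Limits.Sigma.ι (fun ξ : T => Abelian.image (oMap T ξ)) ⟨g.1, g.2.1⟩ ≫
        Abelian.factorThruImage (allOne T)) (r g • Groth.L22.oneGerm x), funext fun g' => ?_⟩
      rw [← ConcreteCategory.comp_apply, ← Functor.map_comp, Category.assoc, Category.assoc,
        Abelian.image.fac, Limits.Sigma.ι_desc, Abelian.image.fac, evP_oMap]
      split_ifs <;> simp
    choose v hv using hmem
    refine ⟨∑ g, v g, funext fun g' => ?_⟩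
    rw [LinearMap.comp_apply, map_sum, map_sum, Finset.sum_apply, Finset.sum_eq_single g' (fun g _ hg => ?_) (by simp)]
    · refine (congrFun (hv g') g').trans ?_
      rw [if_pos rfl, hr]
    · refine (congrFun (hv g) g').trans ?_
      exact if_neg fun e => hg (Subtype.ext e.symm)

theorem evP_mulSky (x : X) (v : (ratSky T).presheaf.stalk x) (g : Gens T x) :
    evP T x ((Groth.L00.Stk.F X x).map (mulSky T c) v) g = c ⟨g.1, g.2.1⟩ * evP T x v g := by
  rw [evP_apply, stalkMap_sp, evP_apply]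
  exact ev_mulSky T c ⟨g.1, g.2.1⟩ _

theorem range_evP_latB (hT : ∀ x : X, ∃ U : Set X, IsOpen U ∧ x ∈ U ∧ (U ∩ T).Finite) (x : X) :
    letI : ∀ g : Gens T x, Algebra (X.presheaf.stalk x) (X.presheaf.stalk g.1) := fun g => algSp g.2.2
    LinearMap.range ((evP T x).comp
        ((Groth.L00.Stk.F X x).map (Abelian.image.ι (allOne T) ≫ mulSky T c)).hom) =
      Submodule.pi Set.univ fun g : Gens T x => Submodule.span (X.presheaf.stalk x) {c ⟨g.1, g.2.1⟩} := by
  letI : ∀ g : Gens T x, Algebra (X.presheaf.stalk x) (X.presheaf.stalk g.1) := fun g => algSp g.2.2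
  let mP : (∀ g : Gens T x, ResidueField (X.presheaf.stalk g.1)) →ₗ[X.presheaf.stalk x]
      ∀ g : Gens T x, ResidueField (X.presheaf.stalk g.1) :=
    LinearMap.pi fun g => (mulBy (c ⟨g.1, g.2.1⟩)).comp (LinearMap.proj g)
  have e : (evP T x).comp ((Groth.L00.Stk.F X x).map (Abelian.image.ι (allOne T) ≫ mulSky T c)).hom =
      mP.comp ((evP T x).comp ((Groth.L00.Stk.F X x).map (Abelian.image.ι (allOne T))).hom) := by
    ext v g
    rw [Functor.map_comp]
    exact evP_mulSky T c x _ g
  rw [e, LinearMap.range_comp, range_evP_latA T hT x]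
  refine le_antisymm ?_ fun w hw => ?_
  · rintro _ ⟨w, hw, rfl⟩ g _
    exact (map_mulBy_one (R := X.presheaf.stalk x) (c ⟨g.1, g.2.1⟩)).le ⟨w g, hw g trivial, rfl⟩
  · choose a ha e' using fun g => (map_mulBy_one (R := X.presheaf.stalk x) (c ⟨(g : Gens T x).1, g.2.1⟩)).ge (hw g trivial)
    exact ⟨a, fun g _ => ha g, funext e'⟩

/-- The stalk of the cokernel of an inclusion. -/
theorem len_cokernel {A H : X.Modules} (a : A ⟶ H) (ι : H ⟶ ratSky T) [Mono ι]
    (hT : ∀ x : X, ∃ U : Set X, IsOpen U ∧ x ∈ U ∧ (U ∩ T).Finite) (x : X) :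
    letI : ∀ g : Gens T x, Algebra (X.presheaf.stalk x) (X.presheaf.stalk g.1) := fun g => algSp g.2.2
    len x (cokernel a) = qlen (LinearMap.range ((evP T x).comp ((Groth.L00.Stk.F X x).map (a ≫ ι)).hom))
      (LinearMap.range ((evP T x).comp ((Groth.L00.Stk.F X x).map ι).hom)) := by
  letI : ∀ g : Gens T x, Algebra (X.presheaf.stalk x) (X.presheaf.stalk g.1) := fun g => algSp g.2.2
  let f := (evP T x).comp ((Groth.L00.Stk.F X x).map ι).hom
  have hf : Function.Injective f := (evP_injective hT x).comp (map_injective ι x)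
  rw [Functor.map_comp, ModuleCat.hom_comp, ← LinearMap.comp_assoc, LinearMap.range_comp, ← Submodule.map_top f,
    qlen_map f hf, qlen_top]
  let π := ((Groth.L00.Stk.F X x).map (cokernel.π a)).hom
  have hex : LinearMap.ker π = LinearMap.range ((Groth.L00.Stk.F X x).map a).hom :=
    ((ShortComplex.moduleCat_exact_iff_range_eq_ker _).1
      ((ShortComplex.exact_cokernel a).map (Groth.L00.Stk.F X x))).symm
  exact ((Submodule.quotEquivOfEq _ _ hex.symm).trans
    (π.quotKerEquivOfSurjective (map_surjective (cokernel.π a) x))).length_eq.symm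

theorem range_evP_latH (hT : ∀ x : X, ∃ U : Set X, IsOpen U ∧ x ∈ U ∧ (U ∩ T).Finite) (x : X) :
    letI : ∀ g : Gens T x, Algebra (X.presheaf.stalk x) (X.presheaf.stalk g.1) := fun g => algSp g.2.2
    LinearMap.range ((evP T x).comp ((Groth.L00.Stk.F X x).map (Abelian.image.ι
        (biprod.desc (Abelian.image.ι (allOne T)) (Abelian.image.ι (allOne T) ≫ mulSky T c)))).hom) =
      Submodule.pi Set.univ fun g : Gens T x =>
        one (R := X.presheaf.stalk x) (X.presheaf.stalk g.1) ⊔ Submodule.span (X.presheaf.stalk x) {c ⟨g.1, g.2.1⟩} := by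
  letI : ∀ g : Gens T x, Algebra (X.presheaf.stalk x) (X.presheaf.stalk g.1) := fun g => algSp g.2.2
  rw [← pi_sup, ← range_evP_latA T hT x, ← range_evP_latB T c hT x]
  let d := biprod.desc (Abelian.image.ι (allOne T)) (Abelian.image.ι (allOne T) ≫ mulSky T c)
  refine le_antisymm ?_ (sup_le ?_ ?_)
  · rintro _ ⟨v, rfl⟩
    obtain ⟨w, rfl⟩ := map_surjective (Abelian.factorThruImage d) x v
    have hw : w = (Groth.L00.Stk.F X x).map biprod.inl ((Groth.L00.Stk.F X x).map biprod.fst w) +
        (Groth.L00.Stk.F X x).map biprod.inr ((Groth.L00.Stk.F X x).map biprod.snd w) := by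
      rw [← ConcreteCategory.comp_apply, ← ConcreteCategory.comp_apply, ← Functor.map_comp, ← Functor.map_comp]
      have h := ConcreteCategory.congr_hom
        (congrArg (Groth.L00.Stk.F X x).map (biprod.total (X := latA T) (Y := latA T))) w
      rw [Functor.map_add, CategoryTheory.Functor.map_id] at h
      exact h.symm
    rw [LinearMap.comp_apply, hw, map_add, map_add, map_add]
    refine Submodule.add_mem_sup ⟨(Groth.L00.Stk.F X x).map biprod.fst w, ?_⟩
      ⟨(Groth.L00.Stk.F X x).map biprod.snd w, ?_⟩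
    · rw [LinearMap.comp_apply]
      congr 1
      conv_lhs => rw [← inA_ι T c, inA, Functor.map_comp, Functor.map_comp]
      rfl
    · rw [LinearMap.comp_apply]
      congr 1
      conv_lhs => rw [← inB_ι T c, inB, Functor.map_comp, Functor.map_comp]
      rfl
  · refine le_trans (le_of_eq ?_) (LinearMap.range_comp_le_range ((Groth.L00.Stk.F X x).map (inA T c)).hom _)
    rw [LinearMap.comp_assoc, ← ModuleCat.hom_comp, ← Functor.map_comp, inA_ι]
  · refine le_trans (le_of_eq ?_) (LinearMap.range_comp_le_range ((Groth.L00.Stk.F X x).map (inB T c)).hom _)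
    rw [LinearMap.comp_assoc, ← ModuleCat.hom_comp, ← Functor.map_comp, inB_ι]

theorem len_cokernel_inA (hT : ∀ x : X, ∃ U : Set X, IsOpen U ∧ x ∈ U ∧ (U ∩ T).Finite) (x : X) :
    letI : ∀ g : Gens T x, Algebra (X.presheaf.stalk x) (X.presheaf.stalk g.1) := fun g => algSp g.2.2
    len x (cokernel (inA T c)) =
      qlen (Submodule.pi Set.univ fun g : Gens T x => one (R := X.presheaf.stalk x) (X.presheaf.stalk g.1))
        (Submodule.pi Set.univ fun g : Gens T x => one (R := X.presheaf.stalk x) (X.presheaf.stalk g.1) ⊔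
          Submodule.span (X.presheaf.stalk x) {c ⟨g.1, g.2.1⟩}) := by
  letI : ∀ g : Gens T x, Algebra (X.presheaf.stalk x) (X.presheaf.stalk g.1) := fun g => algSp g.2.2
  rw [len_cokernel T (inA T c) (Abelian.image.ι _) hT x, inA_ι T c, range_evP_latA T hT x,
    range_evP_latH T c hT x]

theorem len_cokernel_inB (hT : ∀ x : X, ∃ U : Set X, IsOpen U ∧ x ∈ U ∧ (U ∩ T).Finite) (x : X) :
    letI : ∀ g : Gens T x, Algebra (X.presheaf.stalk x) (X.presheaf.stalk g.1) := fun g => algSp g.2.2
    len x (cokernel (inB T c)) =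
      qlen (Submodule.pi Set.univ fun g : Gens T x => Submodule.span (X.presheaf.stalk x) {c ⟨g.1, g.2.1⟩})
        (Submodule.pi Set.univ fun g : Gens T x => one (R := X.presheaf.stalk x) (X.presheaf.stalk g.1) ⊔
          Submodule.span (X.presheaf.stalk x) {c ⟨g.1, g.2.1⟩}) := by
  letI : ∀ g : Gens T x, Algebra (X.presheaf.stalk x) (X.presheaf.stalk g.1) := fun g => algSp g.2.2
  rw [len_cokernel T (inB T c) (Abelian.image.ι _) hT x, inB_ι T c, range_evP_latB T c hT x,
    range_evP_latH T c hT x]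

theorem span_eq_top {x ξ : X} (h : ξ ⤳ x) (e : ξ = x) {u : ResidueField (X.presheaf.stalk ξ)} (hu : u ≠ 0) :
    letI := algSp h
    Submodule.span (X.presheaf.stalk x) {u} = ⊤ := by
  letI := algSp h
  have hs : Function.Surjective (X.presheaf.stalkSpecializes h) := by
    subst e
    rw [TopCat.Presheaf.stalkSpecializes_refl]
    exact fun a => ⟨a, rfl⟩
  refine eq_top_iff.2 fun v _ => ?_
  obtain ⟨z, hz⟩ := residue_surjective (v / u)
  obtain ⟨r, hr⟩ := hs z
  refine Submodule.mem_span_singleton.2 ⟨r, ?_⟩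
  rw [Algebra.smul_def, IsScalarTower.algebraMap_apply (X.presheaf.stalk x) (X.presheaf.stalk ξ),
    ResidueField.algebraMap_eq, RingHom.algebraMap_toAlgebra]
  show residue _ (X.presheaf.stalkSpecializes h r) * u = v
  rw [hr, hz, div_mul_cancel₀ v hu]

theorem support_image_oMap (hT : ∀ x : X, ∃ U : Set X, IsOpen U ∧ x ∈ U ∧ (U ∩ T).Finite) (ξ : T) :
    CohB1.support (Abelian.image (oMap T ξ)) ⊆ closure {ξ.1} := fun y hy => by
  by_contra h
  refine hy (subsingleton_of_forall_eq 0 fun v => ?_)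
  obtain ⟨u, rfl⟩ := map_surjective (Abelian.factorThruImage (oMap T ξ)) y v
  apply map_injective (Abelian.image.ι (oMap T ξ)) y
  apply evP_injective hT y
  rw [map_zero, map_zero, ← ConcreteCategory.comp_apply, ← Functor.map_comp, Abelian.image.fac]
  obtain ⟨r, rfl⟩ := Groth.L22.stalk_smul_oneGerm_surjective y u
  funext g
  rw [evP_oMap, if_neg (show ¬ g.1 = ξ.1 from fun e => h (specializes_iff_mem_closure.1 (e ▸ g.2.2)))]
  letI : Algebra (X.presheaf.stalk y) (X.presheaf.stalk g.1) := algSp g.2.2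
  exact smul_zero (A := ResidueField (X.presheaf.stalk g.1)) r

variable [IsLocallyNoetherian X] {δ : X → ℤ} (hδ : Cyc.IsDimFun X δ) {k : ℤ}

include hδ in
theorem cohLe_lat (hT : Tops δ k T) [Coh.IsQCoh (ratSky T)] :
    Cyc.CohLe δ (k + 1) (latA T) ∧ Cyc.CohLe δ (k + 1) (latH T c) := by
  have hsupp := support_image_oMap T hT.locFin
  have hloc : LocFin fun ξ : T => Abelian.image (oMap T ξ) :=
    locFin_of_points (fun ξ : T => ξ.1) _ hsupp fun x => by
      obtain ⟨U, hU, hxU, hfin⟩ := hT.locFin x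
      exact ⟨U, hU, hxU, (hfin.preimage Subtype.val_injective.injOn).subset fun ξ h => ⟨h, ξ.2⟩⟩
  have hcA : Cyc.CohLe δ (k + 1) (latA T) := by
    refine ⟨Groth.L16.CohSupport.isCoh_image (isCoh_sigma hloc fun ξ =>
      Groth.L16.CohSupport.isCoh_image Groth.L16.CohClosedPush.isCoh_structure _) _, fun x hx => ?_⟩
    obtain ⟨ξ, hξ⟩ := exists_mem_of_mem_support_sigma _
      (Groth.L29.CohSupp.support_of_epi (Abelian.factorThruImage (allOne T)) (mem_support.2 hx))
    have hsp := specializes_iff_mem_closure.2 (hsupp ξ hξ)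
    have hk := hT.dim _ ξ.2
    by_cases e : ξ.1 = x
    · rw [← e]; omega
    · have := (hδ _ _ hsp e).1
      omega
  exact ⟨hcA, Groth.L16.CohSupport.isCoh_image (cohLe_biprod hcA hcA).1 _, fun x hx => (cohLe_biprod hcA hcA).2 x
    (mem_support.1 (Groth.L29.CohSupp.support_of_epi (Abelian.factorThruImage _) (mem_support.2 hx)))⟩

include hδ hc in
theorem len_eq_zero_top (hT : Tops δ k T) (x : X) (hx : δ x = k + 1) :
    len x (cokernel (inA T c)) = 0 ∧ len x (cokernel (inB T c)) = 0 := by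
  letI : ∀ g : Gens T x, Algebra (X.presheaf.stalk x) (X.presheaf.stalk g.1) := fun g => algSp g.2.2
  have htop : ∀ g : Gens T x, g.1 = x := fun g => by
    by_contra e
    have := (hδ _ _ g.2.2 e).1
    have := hT.dim _ g.2.1
    omega
  have h1 : ∀ g : Gens T x, one (R := X.presheaf.stalk x) (X.presheaf.stalk g.1) = ⊤ :=
    fun g => span_eq_top g.2.2 (htop g) one_ne_zero
  have h2 : ∀ g : Gens T x, Submodule.span (X.presheaf.stalk x) {c ⟨g.1, g.2.1⟩} = ⊤ :=
    fun g => span_eq_top g.2.2 (htop g) (hc _)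
  rw [len_cokernel_inA T c hT.locFin x, len_cokernel_inB T c hT.locFin x]
  simp only [h1, h2, sup_idem, qlen_self, and_self]

include hδ hc in
theorem len_diff (hT : Tops δ k T) (x : X) (hx : δ x = k) :
    ((len x (cokernel (inB T c))).toNat : ℤ) - ((len x (cokernel (inA T c))).toNat : ℤ) =
      ∑ᶠ ξ : T, Cyc.divFun δ ξ.1 (c ξ) x := by
  classical
  haveI := hT.finite_gens x
  letI : Fintype (Gens T x) := Fintype.ofFinite _
  letI : ∀ g : Gens T x, Algebra (X.presheaf.stalk x) (X.presheaf.stalk g.1) := fun g => algSp g.2.2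
  haveI : ∀ g : Gens T x, Adm (X.presheaf.stalk x) (X.presheaf.stalk g.1) :=
    fun g => adm hδ g.2.2 (by rw [hx, hT.dim _ g.2.1])
  have hzero : ∀ ξ : T, ¬ (ξ : X) ⤳ x → Cyc.divFun δ ξ.1 (c ξ) x = 0 := fun ξ h => by
    by_contra h0
    exact h (C1.divFun_ne_zero h0).1
  let φ : Gens T x → T := fun g => ⟨g.1, g.2.1⟩
  have hφ : Function.Injective φ := fun a b e => Subtype.ext (congrArg (fun t : T => t.1) e)
  have hL : ∀ g : Gens T x, IsLat (⊤ : Submodule (X.presheaf.stalk g.1) (ResidueField (X.presheaf.stalk g.1)))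
      (one (R := X.presheaf.stalk x) (X.presheaf.stalk g.1) ⊔ Submodule.span (X.presheaf.stalk x) {c (φ g)}) :=
    fun g => isLat_one.mono (isLat_one.fg.sup (isLat_span (hc (φ g))).fg) le_sup_left fun _ _ => trivial
  rw [len_cokernel_inA T c hT.locFin x, len_cokernel_inB T c hT.locFin x, qlen_pi, qlen_pi,
    ENat.toNat_sum fun g _ => qlen_ne_top (serResidue _) (isLat_span (hc (φ g))) (hL g),
    ENat.toNat_sum fun g _ => qlen_ne_top (serResidue _) isLat_one (hL g),
    Nat.cast_sum, Nat.cast_sum, ← Finset.sum_sub_distrib,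
    finsum_eq_sum_of_support_subset (s := Finset.univ.image φ) _ fun ξ hξ => ?_,
    Finset.sum_image fun a _ b _ e => hφ e]
  · refine Finset.sum_congr rfl fun g _ => ?_
    have hd1 : δ x + 1 = δ g.1 := by rw [hx, hT.dim _ g.2.1]
    have h1 := rlen_span_sub (R := X.presheaf.stalk x) (hc (φ g))
    rw [Cyc.divFun, dif_pos ⟨g.2.2, hd1⟩, ← ordR_eq_ordAt hδ g.2.2 hd1 (c (φ g)) (hc _)]
    simp only [rlen] at h1
    linarith
  · rw [Function.mem_support] at hξ
    by_cases hsp : (ξ : X) ⤳ x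
    · exact Finset.mem_coe.2 (Finset.mem_image.2 ⟨⟨ξ.1, ξ.2, hsp⟩, Finset.mem_univ _, rfl⟩)
    · exact absurd (hzero ξ hsp) hξ

include hδ hc in
/-- A principal divisor is a difference of cokernels with equal classes. -/
theorem exists_rat (hT : Tops δ k T) :
    ∃ P N : X.Modules, Cyc.CohLe δ k P ∧ Cyc.CohLe δ k N ∧
      Cyc.toK0CohQuot δ (k + 1) (k - 1) P = Cyc.toK0CohQuot δ (k + 1) (k - 1) N ∧
      ∀ x : X, Cyc.sheafFun δ k P x - Cyc.sheafFun δ k N x = ∑ᶠ ξ : T, Cyc.divFun δ ξ.1 (c ξ) x := by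
  haveI : Coh.IsQCoh (ratSky T) := MSky.isQCoh_msky hT.locFin fun ξ => ⟨1, fun r hr v => by
    rw [pow_one]
    show r • (v : ResidueField (X.presheaf.stalk ξ.1)) = 0
    rw [Algebra.smul_def, ResidueField.algebraMap_eq, (residue_eq_zero_iff r).2 hr, zero_mul]⟩
  obtain ⟨hcA, hcH⟩ := cohLe_lat T c hδ hT
  have hle : ∀ {a : latA T ⟶ latH T c}, (∀ x, δ x = k + 1 → len x (cokernel a) = 0) →
      Cyc.CohLe δ k (cokernel a) := fun {a} h => by
    refine ⟨(cohLe_cokernel hcA hcH a).1, fun x hx => ?_⟩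
    have h1 := (cohLe_cokernel hcA hcH a).2 x hx
    rcases h1.lt_or_eq with h1 | h1
    · omega
    exact absurd (mem_support.2 hx) ((Groth.L16.CohSupport.len_eq_zero_iff _ _).1 (h x h1))
  have hPc := hle fun x hx => (len_eq_zero_top T c hc hδ hT x hx).1
  have hNc := hle fun x hx => (len_eq_zero_top T c hc hδ hT x hx).2
  refine ⟨cokernel (inB T c), cokernel (inA T c), hNc, hPc, ?_, fun x => ?_⟩
  · have hA := toK0_map (b := k - 1) (inA T c) hcA hcH
    have hB := toK0_map (b := k - 1) (inB T c) hcA hcH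
    haveI := mono_inA T c
    haveI := mono_inB T c hc
    rw [toK0_eq_zero (cohLe_of_isZero (isZero_kernel_of_mono (inA T c)) _), add_zero] at hA
    rw [toK0_eq_zero (cohLe_of_isZero (isZero_kernel_of_mono (inB T c)) _), add_zero] at hB
    exact add_left_cancel (hB.trans hA.symm)
  by_cases hx : δ x = k
  · simp only [Cyc.sheafFun, if_pos hx]
    exact len_diff T c hc hδ hT x hx
  · simp only [Cyc.sheafFun, if_neg hx, sub_zero]
    refine (finsum_eq_zero_of_forall_eq_zero fun ξ => ?_).symm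
    by_contra h0
    obtain ⟨-, h2⟩ := C1.divFun_ne_zero h0
    have := hT.dim _ ξ.2
    omega

end Build

end Groth.L22.LatDeg
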