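import Groth.Agent.L22.LatDeg.Rat

/-!
Rationally equivalent cycles have the same class in `K₀`.
-/

set_option autoImplicit false
set_option linter.style.haveILetI false
set_option backward.isDefEq.respectTransparency false
set_option backward.isDefEq.respectTransparency.types false

universe u

open CategoryTheory AlgebraicGeometry

noncomputable section

namespace Groth.L22.LatDeg

variable {X : Scheme.{u}} [IsLocallyNoetherian X] {δ : X → ℤ} (hδ : Cyc.IsDimFun X δ) {k : ℤ}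

variable (δ k) in
/-- From dimension `k` to dimension `k + 1`. -/
def incK : Cyc.K0CohQuot δ k (k - 1) →+ Cyc.K0CohQuot δ (k + 1) (k - 1) :=
  QuotientAddGroup.lift _
    (QuotientAddGroup.lift _ (FreeAbelianGroup.lift fun F => Cyc.toK0CohQuot δ (k + 1) (k - 1) F.1) (by
      rw [KZero.relSub, AddSubgroup.closure_le]
      rintro _ ⟨S, h1, h2, h3, hS, rfl⟩
      rw [SetLike.mem_coe, AddMonoidHom.mem_ker, map_sub, map_sub, FreeAbelianGroup.lift_apply_of,
        FreeAbelianGroup.lift_apply_of, FreeAbelianGroup.lift_apply_of]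
      show Cyc.toK0CohQuot δ (k + 1) (k - 1) S.X₂ - Cyc.toK0CohQuot δ (k + 1) (k - 1) S.X₁ -
        Cyc.toK0CohQuot δ (k + 1) (k - 1) S.X₃ = 0
      rw [toK0_add hS (cohLe_mono (by omega) h1) (cohLe_mono (by omega) h2) (cohLe_mono (by omega) h3)]
      abel)) (by
    rw [AddSubgroup.closure_le]
    rintro _ ⟨F, hF, rfl⟩
    rw [SetLike.mem_coe, AddMonoidHom.mem_ker, KZero.clSub, dif_pos (cohLe_mono (by omega) hF)]
    exact (FreeAbelianGroup.lift_apply_of _ _).trans (toK0_eq_zero hF))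

theorem incK_cl {F : X.Modules} (h : Cyc.CohLe δ k F) :
    incK δ k (Cyc.toK0CohQuot δ k (k - 1) F) = Cyc.toK0CohQuot δ (k + 1) (k - 1) F := by
  conv_lhs => rw [Cyc.toK0CohQuot, KZero.clSub, dif_pos h]
  exact FreeAbelianGroup.lift_apply_of
    (fun F : Subtype (Cyc.CohLe δ k) => Cyc.toK0CohQuot δ (k + 1) (k - 1) F.1) ⟨F, h⟩

include hδ in
/-- The difference of two classes only depends on the cycle. -/
theorem toK0_sub_eq {P N P' N' : X.Modules} (hP : Cyc.CohLe δ k P) (hN : Cyc.CohLe δ k N)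
    (hP' : Cyc.CohLe δ k P') (hN' : Cyc.CohLe δ k N')
    (h : Cyc.sheafFun δ k P - Cyc.sheafFun δ k N = Cyc.sheafFun δ k P' - Cyc.sheafFun δ k N') :
    Cyc.toK0CohQuot δ (k + 1) (k - 1) P - Cyc.toK0CohQuot δ (k + 1) (k - 1) N =
      Cyc.toK0CohQuot δ (k + 1) (k - 1) P' - Cyc.toK0CohQuot δ (k + 1) (k - 1) N' := by
  have e : Cyc.toK0CohQuot δ k (k - 1) P - Cyc.toK0CohQuot δ k (k - 1) N =
      Cyc.toK0CohQuot δ k (k - 1) P' - Cyc.toK0CohQuot δ k (k - 1) N' := by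
    apply Φ_injective hδ
    rw [map_sub, map_sub, Φ_cl hδ hP, Φ_cl hδ hN, Φ_cl hδ hP', Φ_cl hδ hN', h]
  have e' := congrArg (incK δ k) e
  rwa [map_sub, map_sub, incK_cl hP, incK_cl hN, incK_cl hP', incK_cl hN'] at e'

include hδ in
theorem toK0_pos_eq_neg_of_rat (α : AlgebraicCycle X ℤ) (hα : α ∈ Cyc.Zk X δ k)
    (h0 : Cyc.RatEquivZero δ k α) :
    Cyc.toK0CohQuot δ (k + 1) (k - 1) (Cyc.cycleSheafPos ⇑α) =
      Cyc.toK0CohQuot δ (k + 1) (k - 1) (Cyc.cycleSheafNeg ⇑α) := by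
  classical
  obtain ⟨ι, ξ, f, h1, h2, h3, h4⟩ := h0
  let T : Set X := Set.range ξ
  have hlocT : ∀ x : X, ∃ U : Set X, IsOpen U ∧ x ∈ U ∧ (U ∩ T).Finite := fun x => by
    obtain ⟨U, hU, hxU, hfin⟩ := h3 x
    refine ⟨U, hU, hxU, (hfin.image ξ).subset ?_⟩
    rintro _ ⟨hzU, i, rfl⟩
    exact ⟨i, ⟨ξ i, subset_closure (Set.mem_singleton _), hzU⟩, rfl⟩
  have hT : Tops δ k T := ⟨fun z ⟨i, hi⟩ => hi ▸ h1 i, hlocT⟩
  have hfib : ∀ t : T, Finite {i : ι // ξ i = t.1} := fun t => by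
    obtain ⟨U, hU, htU, hfin⟩ := h3 t.1
    exact (hfin.subset fun i (hi : ξ i = t.1) =>
      (⟨t.1, hi ▸ subset_closure (Set.mem_singleton _), htU⟩ : (closure {ξ i} ∩ U).Nonempty)).to_subtype
  letI : ∀ t : T, Fintype {i : ι // ξ i = t.1} := fun t => @Fintype.ofFinite _ (hfib t)
  let c : (t : T) → X.residueField t.1 := fun t => ∏ i : {i : ι // ξ i = t.1}, i.2 ▸ f i.1
  have hf0 : ∀ (t : T) (i : {i : ι // ξ i = t.1}), (i.2 ▸ f i.1 : X.residueField t.1) ≠ 0 := by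
    rintro ⟨t, ht⟩ ⟨i, rfl : ξ i = t⟩
    exact h2 i
  obtain ⟨P, N, hP, hN, hPN, hfun⟩ :=
    exists_rat T c (fun t => Finset.prod_ne_zero_iff.2 fun i _ => hf0 t i) hδ hT
  have hdiv : ∀ x, ∑ᶠ t : T, Cyc.divFun δ t.1 (c t) x = α x := fun x => by
    rw [h4 x, ← finsum_comp_equiv (Equiv.sigmaFiberEquiv (Set.rangeFactorization ξ)),
      Groth.L22.Cyc.finsum_sigma_of_finite _ ((C1.finite_support_family ξ f x h3).preimage
        (Equiv.injective _).injOn)]
    refine finsum_congr fun t => ?_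
    let e : {i : ι // Set.rangeFactorization ξ i = t} ≃ {i : ι // ξ i = t.1} :=
      Equiv.subtypeEquivRight fun i => Subtype.ext_iff
    rw [← finsum_comp_equiv e.symm, finsum_eq_sum_of_fintype]
    show Cyc.divFun δ t.1 (c t) x = ∑ i : {i : ι // ξ i = t.1}, Cyc.divFun δ (ξ i.1) (f i.1) x
    have hterm : ∀ i : {i : ι // ξ i = t.1},
        Cyc.divFun δ t.1 (i.2 ▸ f i.1) x = Cyc.divFun δ (ξ i.1) (f i.1) x := by
      obtain ⟨t, ht⟩ := t
      rintro ⟨i, rfl : ξ i = t⟩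
      rfl
    rw [← Finset.sum_congr rfl fun i _ => hterm i]
    show Cyc.divFun δ t.1 (∏ i ∈ Finset.univ, _) x = _
    induction (Finset.univ : Finset {i : ι // ξ i = t.1}) using Finset.induction_on with
    | empty =>
      rw [Finset.prod_empty, Finset.sum_empty]
      simpa using C1.divFun_zpow hδ t.1 (one_ne_zero (α := X.residueField t.1)) x 0
    | insert a s has ih =>
      rw [Finset.prod_insert has, Finset.sum_insert has,
        C1.divFun_mul hδ t.1 (hf0 t a) (Finset.prod_ne_zero_iff.2 fun i _ => hf0 t i), ih]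
  obtain ⟨hp, ep⟩ := cycleSheafPos_spec hδ α hα
  obtain ⟨hn, en⟩ := cycleSheafNeg_spec hδ α hα
  have e := toK0_sub_eq hδ hp hn hP hN (by
    funext x
    simp only [Pi.sub_apply, ep, en, hfun x, hdiv x]
    omega)
  rwa [hPN, sub_self, sub_eq_zero] at e

end Groth.L22.LatDeg
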