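import Mathlib.RingTheory.Length
import Mathlib.RingTheory.Noetherian.Basic
import Mathlib.Algebra.Module.Submodule.Map

/-!
Lengths of subquotients inside a module.
-/

set_option autoImplicit false

universe u v w

namespace Groth.L22.LatDeg

variable {R : Type u} [CommRing R] {V : Type v} [AddCommGroup V] [Module R V]

/-- The length of `Q / P` inside a module. -/
noncomputable def qlen (P Q : Submodule R V) : ℕ∞ := Module.length R (↥Q ⧸ P.submoduleOf Q)

/-- The length of `Q / P` as an integer (infinity is read as zero). -/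
noncomputable def rlen (P Q : Submodule R V) : ℤ := ((qlen P Q).toNat : ℤ)

theorem qlen_self (P : Submodule R V) : qlen P P = 0 := by
  rw [qlen, Module.length_eq_zero_iff, Submodule.Quotient.subsingleton_iff, Submodule.submoduleOf_self]

theorem rlen_self (P : Submodule R V) : rlen P P = 0 := by rw [rlen, qlen_self]; rfl

theorem qlen_add {P Q S : Submodule R V} (h : P ≤ Q) (h' : Q ≤ S) : qlen P S = qlen P Q + qlen Q S := by
  refine Module.length_eq_add_of_exact
    (Submodule.mapQ (P.submoduleOf Q) (P.submoduleOf S) (Submodule.inclusion h') (fun x hx => hx))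
    (Submodule.factor (show P.submoduleOf S ≤ Q.submoduleOf S from fun x hx => h hx)) ?_
    (Submodule.factor_surjective _) ?_
  · rw [injective_iff_map_eq_zero]
    intro x hx
    obtain ⟨x, rfl⟩ := Submodule.Quotient.mk_surjective _ x
    rw [Submodule.mapQ_apply, Submodule.Quotient.mk_eq_zero] at hx
    exact (Submodule.Quotient.mk_eq_zero _).2 hx
  · intro y
    obtain ⟨y, rfl⟩ := Submodule.Quotient.mk_surjective _ y
    constructor
    · intro hy
      exact ⟨Submodule.Quotient.mk ⟨y.1, (Submodule.Quotient.mk_eq_zero (Q.submoduleOf S)).1 hy⟩, rfl⟩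
    · rintro ⟨x, hx⟩
      obtain ⟨x, rfl⟩ := Submodule.Quotient.mk_surjective _ x
      rw [← hx]
      exact (Submodule.Quotient.mk_eq_zero _).2 x.2

theorem rlen_add {P Q S : Submodule R V} (h : P ≤ Q) (h' : Q ≤ S) (hfin : qlen P S ≠ ⊤) :
    rlen P S = rlen P Q + rlen Q S := by
  have e := qlen_add h h'
  obtain ⟨h1, h2⟩ := WithTop.add_ne_top.1 (e ▸ hfin)
  simp only [rlen, e, ENat.toNat_add h1 h2]
  push_cast
  ring

variable {W : Type w} [AddCommGroup W] [Module R W]

/-- Length of a subquotient through a map with prescribed kernel. -/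
theorem qlen_exact {P Q K : Submodule R V} (hPQ : P ≤ Q) (f : Q →ₗ[R] W)
    (hker : ∀ v : Q, f v = 0 ↔ (v : V) ∈ K) (P' Q' : Submodule R W)
    (hP : P' = (P.submoduleOf Q).map f) (hQ : Q' = LinearMap.range f) :
    qlen P Q = qlen (P ⊓ K) (Q ⊓ K) + qlen P' Q' := by
  subst hP hQ
  refine Module.length_eq_add_of_exact
    (Submodule.mapQ ((P ⊓ K).submoduleOf (Q ⊓ K)) (P.submoduleOf Q) (Submodule.inclusion inf_le_left)
      (fun x hx => hx.1))
    (Submodule.mapQ (P.submoduleOf Q) (((P.submoduleOf Q).map f).submoduleOf (LinearMap.range f)) f.rangeRestrict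
      (fun x hx => ⟨x, hx, rfl⟩)) ?_ ?_ ?_
  · rw [injective_iff_map_eq_zero]
    intro x hx
    obtain ⟨x, rfl⟩ := Submodule.Quotient.mk_surjective _ x
    rw [Submodule.mapQ_apply, Submodule.Quotient.mk_eq_zero] at hx
    exact (Submodule.Quotient.mk_eq_zero _).2 ⟨hx, x.2.2⟩
  · intro y
    obtain ⟨y, rfl⟩ := Submodule.Quotient.mk_surjective _ y
    obtain ⟨y', hy'⟩ := f.surjective_rangeRestrict y
    exact ⟨Submodule.Quotient.mk y', by rw [Submodule.mapQ_apply, hy']⟩
  · intro y
    obtain ⟨y, rfl⟩ := Submodule.Quotient.mk_surjective _ y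
    constructor
    · intro hy
      rw [Submodule.mapQ_apply, Submodule.Quotient.mk_eq_zero] at hy
      obtain ⟨p, hp, hpy⟩ := hy
      have h0 : f (y - p) = 0 := by rw [map_sub, hpy]; exact sub_self _
      refine ⟨Submodule.Quotient.mk ⟨((y - p : Q) : V), (y - p).2, (hker _).1 h0⟩, ?_⟩
      rw [Submodule.mapQ_apply, Submodule.Quotient.eq]
      show ((y : V) - (p : V)) - (y : V) ∈ P
      rw [sub_sub_cancel_left]
      exact P.neg_mem hp
    · rintro ⟨x, hx⟩
      obtain ⟨x, rfl⟩ := Submodule.Quotient.mk_surjective _ x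
      rw [← hx, Submodule.mapQ_apply, Submodule.mapQ_apply, Submodule.Quotient.mk_eq_zero]
      refine ⟨0, Submodule.zero_mem _, ?_⟩
      rw [map_zero]
      exact ((hker ⟨x.1, x.2.1⟩).2 x.2.2).symm

/-- Invariance under injective maps. -/
theorem qlen_map (f : V →ₗ[R] W) (hf : Function.Injective f) (P Q : Submodule R V) :
    qlen (P.map f) (Q.map f) = qlen P Q := by
  refine ((Submodule.Quotient.equiv _ _ (Submodule.equivMapOfInjective f hf Q) ?_).length_eq).symm
  ext ⟨x, hx⟩
  constructor
  · rintro ⟨⟨y, hy⟩, hyP, hyx⟩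
    have e : f y = x := congrArg Subtype.val hyx
    exact ⟨y, hyP, e⟩
  · rintro ⟨y, hyP, hyx⟩
    obtain ⟨z, hz, hzx⟩ := hx
    obtain rfl : y = z := hf (hyx.trans hzx.symm)
    exact ⟨⟨y, hz⟩, hyP, Subtype.ext hyx⟩

end Groth.L22.LatDeg
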