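import Groth.Agent.L22.LatDeg.K0Op
import Groth.Agent.L29.K.SuppFilt
import Groth.Agent.L29.K.Filt
import Mathlib.Algebra.DirectSum.Module
import Mathlib.Algebra.Category.ModuleCat.Products

/-!
Locally finite sums of coherent modules, and the sheaf of a cycle.
-/

set_option autoImplicit false
set_option linter.style.haveILetI false
set_option backward.isDefEq.respectTransparency false
set_option backward.isDefEq.respectTransparency.types false

universe u

open CategoryTheory CategoryTheory.Limits AlgebraicGeometry TopologicalSpace DirectSum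
open Groth.L16.CohSupport (len len_eq_zero_iff)

noncomputable section

namespace Groth.L22.LatDeg

variable {X : Scheme.{u}}

/-- A family of modules with locally finitely many nonzero members. -/
def LocFin {I : Type u} (M : I → X.Modules) : Prop :=
  ∀ x : X, ∃ U : Set X, IsOpen U ∧ x ∈ U ∧ {i | (CohB1.support (M i) ∩ U).Nonempty}.Finite

theorem finite_at {I : Type u} {M : I → X.Modules} (h : LocFin M) (x : X) :
    {i | x ∈ CohB1.support (M i)}.Finite := by
  obtain ⟨U, -, hxU, hfin⟩ := h x
  exact hfin.subset fun i hi => ⟨x, hi, hxU⟩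

theorem exists_mem_of_mem_support_sigma {I : Type u} (M : I → X.Modules) {x : X}
    (hx : x ∈ CohB1.support (∐ M)) : ∃ i, x ∈ CohB1.support (M i) := by
  by_contra h
  rw [not_exists] at h
  refine hx ?_
  have hz : ∀ i, IsZero ((Groth.L00.Stk.F X x).obj (M i)) := fun i => by
    haveI : Subsingleton ((Groth.L00.Stk.F X x).obj (M i)) := not_not.1 (h i)
    exact ModuleCat.isZero_of_subsingleton _
  have hzc : IsZero (∐ fun i => (Groth.L00.Stk.F X x).obj (M i)) := by
    rw [IsZero.iff_id_eq_zero]
    ext i : 1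
    exact (hz i).eq_of_src _ _
  exact ModuleCat.subsingleton_of_isZero (hzc.of_iso (PreservesCoproduct.iso (Groth.L00.Stk.F X x) M))

/-- Locally finite sums of coherent modules are coherent. -/
theorem isCoh_sigma [IsLocallyNoetherian X] {I : Type u} {M : I → X.Modules} (h : LocFin M)
    (hM : ∀ i, Coh.IsCoh (M i)) : Coh.IsCoh (∐ M) := by
  classical
  refine Groth.L29.DC.RHomC.isCoh_of_cover fun x => ?_
  obtain ⟨U, hU, hxU, hfin⟩ := h x
  let V' : X.Opens := ⟨U, hU⟩
  refine ⟨V', hxU, ?_⟩
  let R := Scheme.Modules.restrictFunctor V'.ι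
  haveI : PreservesColimitsOfSize.{u, u} R :=
    (Scheme.Modules.restrictAdjunction V'.ι).leftAdjoint_preservesColimits
  haveI : PreservesColimitsOfSize.{0, 0} R := preservesColimitsOfSize_shrink.{0, u, 0, u} _
  let N : I → (V' : Scheme.{u}).Modules := fun i => R.obj (M i)
  haveI : Fintype {i | (CohB1.support (M i) ∩ U).Nonempty} := hfin.fintype
  let eq := (Fintype.equivFin {i | (CohB1.support (M i) ∩ U).Nonempty}).symm
  let g : Fin (Fintype.card {i | (CohB1.support (M i) ∩ U).Nonempty}) → I := fun j => (eq j).1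
  have hg : Function.Injective g := fun a b e => eq.injective (Subtype.ext e)
  have hz : ∀ i, i ∉ Set.range g → IsZero (N i) := fun i hi => by
    rw [Groth.L21.Mod.isZero_iff_support_eq_empty]
    show CohB1.support ((M i).restrict V'.ι) = ∅
    rw [Groth.L21.Mod.support_restrict]
    refine Set.eq_empty_of_forall_notMem fun y hy => hi ?_
    exact ⟨eq.symm ⟨i, ⟨_, hy, y.2⟩⟩, by simp [g]⟩
  haveI : IsLocallyNoetherian (V' : Scheme.{u}) := isLocallyNoetherian_of_isOpenImmersion V'.ι
  have hι : ∀ i j (e : g j = i), eqToHom (congrArg N e.symm) ≫ Limits.Sigma.ι N (g j) = Limits.Sigma.ι N i := by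
    rintro _ j rfl
    simp
  let e : (∐ fun j => N (g j)) ≅ ∐ N :=
    { hom := Limits.Sigma.desc fun j => Limits.Sigma.ι N (g j)
      inv := Limits.Sigma.desc fun i => if hi : i ∈ Set.range g then
          eqToHom (congrArg N hi.choose_spec.symm) ≫ Limits.Sigma.ι (fun j => N (g j)) hi.choose else 0
      hom_inv_id := by
        ext j : 1
        have hj : g j ∈ Set.range g := ⟨j, rfl⟩
        rw [Limits.Sigma.ι_desc_assoc, Limits.Sigma.ι_desc, dif_pos hj, Category.comp_id]
        have key : ∀ j' (e : g j' = g j), eqToHom (congrArg N e.symm) ≫ Limits.Sigma.ι (fun j => N (g j)) j' =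
            Limits.Sigma.ι (fun j => N (g j)) j := by
          intro j' e
          obtain rfl := hg e
          simp
        exact key _ hj.choose_spec
      inv_hom_id := by
        ext i : 1
        by_cases hi : i ∈ Set.range g
        · rw [Limits.Sigma.ι_desc_assoc, dif_pos hi, Category.assoc, Limits.Sigma.ι_desc, Category.comp_id]
          exact hι i _ hi.choose_spec
        · exact (hz i hi).eq_of_src _ _ }
  exact Groth.L16.CohSupport.isCoh_of_iso (e ≪≫ (PreservesCoproduct.iso R M).symm)
    (Groth.L16.Devissage.isCoh_sigma (fun j => N (g j)) fun j => Groth.L29.DC.RHomC.isCoh_restrict _ (hM _))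

theorem len_sigma {I : Type u} (M : I → X.Modules) (x : X) (S : Finset I)
    (hS : ∀ i, x ∈ CohB1.support (M i) → i ∈ S) : len x (∐ M) = ∑ i ∈ S, len x (M i) := by
  classical
  let R := X.presheaf.stalk x
  let N : I → Type u := fun i => (Groth.L00.Stk.F X x).obj (M i)
  have e1 : len x (∐ M) = Module.length R (⨁ i, N i) :=
    ((PreservesCoproduct.iso (Groth.L00.Stk.F X x) M) ≪≫
      ModuleCat.coprodIsoDirectSum _).toLinearEquiv.length_eq
  let f : (⨁ i, N i) →ₗ[R] (∀ i : S, N i) := LinearMap.pi fun i => DirectSum.component R I N i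
  have hf : Function.Bijective f := by
    refine ⟨fun v w hvw => DFinsupp.ext fun i => ?_, fun v => ?_⟩
    · by_cases hi : i ∈ S
      · exact congrFun hvw ⟨i, hi⟩
      · haveI : Subsingleton (N i) := not_not.1 fun h => hi (hS i h)
        exact Subsingleton.elim _ _
    · refine ⟨∑ i : S, DirectSum.lof R I N i (v i), funext fun j => ?_⟩
      show DirectSum.component R I N j (∑ i : S, DirectSum.lof R I N i (v i)) = v j
      rw [map_sum, Finset.sum_eq_single j (fun i _ hij => ?_) (by simp)]
      · simp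
      · rw [DirectSum.component.of, dif_neg fun e => hij (Subtype.ext e)]
  rw [e1, (LinearEquiv.ofBijective f hf).length_eq, Module.length_pi_of_fintype]
  exact Finset.sum_coe_sort S fun i => len x (M i)

theorem locFin_of_points {I : Type u} (ξ : I → X) (M : I → X.Modules)
    (hM : ∀ i, CohB1.support (M i) ⊆ closure {ξ i})
    (h : ∀ x : X, ∃ U : Set X, IsOpen U ∧ x ∈ U ∧ {i | ξ i ∈ U}.Finite) : LocFin M := fun x => by
  obtain ⟨U, hU, hxU, hfin⟩ := h x
  exact ⟨U, hU, hxU, hfin.subset fun i ⟨z, hz, hzU⟩ =>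
    (specializes_iff_mem_closure.2 (hM i hz)).mem_open hU hzU⟩

variable [IsLocallyNoetherian X] (y : X)

theorem coh_css : Coh.IsCoh (Cyc.closureStructureSheaf y) := by
  haveI := Groth.L22.Cyc.isLocallyNoetherian_clSub y
  exact Groth.L16.CohClosedPush.isCoh_push (Groth.L22.Cyc.clι y) Groth.L16.CohClosedPush.isCoh_structure

omit [IsLocallyNoetherian X] in
theorem support_css : CohB1.support (Cyc.closureStructureSheaf y) ⊆ closure {y} :=
  (Groth.L16.CohClosedPush.support_push_subset (Groth.L22.Cyc.clι y) _).trans (Groth.L22.Cyc.range_clι y).le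

theorem len_css : len y (Cyc.closureStructureSheaf y) = 1 := by
  have h := Groth.L16.CohClosedPush.len_push_structure (Groth.L22.Cyc.clι y)
  rwa [Groth.L22.Cyc.clι_genericPoint] at h

variable {δ : X → ℤ} (hδ : Cyc.IsDimFun X δ) {k : ℤ}

include hδ in
theorem eq_of_css {z x : X} (hz : δ z = k) (hx : δ x = k) (h : x ∈ CohB1.support (Cyc.closureStructureSheaf z)) :
    z = x := by
  by_contra hne
  have := (hδ z x (specializes_iff_mem_closure.2 (support_css z h)) hne).1
  omega

omit y in
include hδ in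
/-- The sheaf of an effective part of a cycle. -/
theorem cycleSheafPos_spec (α : AlgebraicCycle X ℤ) (hα : α ∈ Cyc.Zk X δ k) :
    Cyc.CohLe δ k (Cyc.cycleSheafPos ⇑α) ∧
      Cyc.sheafFun δ k (Cyc.cycleSheafPos ⇑α) = fun x => max (α x) 0 := by
  classical
  let I := Σ ζ : {ζ : X // 0 < α ζ}, Fin (α ζ.1).toNat
  let M : I → X.Modules := fun i => Cyc.closureStructureSheaf i.1.1
  have hk : ∀ i : I, δ i.1.1 = k := fun i => by
    by_contra h
    exact (ne_of_gt i.1.2) (hα _ h)
  have hloc : LocFin M := locFin_of_points (fun i : I => i.1.1) M (fun i => support_css _) fun x => by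
    obtain ⟨_, ⟨V, hV, rfl⟩, hxV, -⟩ :=
      X.isBasis_affineOpens.exists_subset_of_mem_open (Set.mem_univ x) isOpen_univ
    refine ⟨V, V.2, hxV, ?_⟩
    have hfin := ((α.locallyFiniteSupport.finite_inter_support_of_isCompact hV.isCompact).preimage
      (f := fun z : {ζ : X // 0 < α ζ} => z.1) Subtype.val_injective.injOn)
    refine (hfin.biUnion fun z _ => Set.finite_range (Sigma.mk (β := fun ζ : {ζ : X // 0 < α ζ} => Fin (α ζ.1).toNat) z)).subset ?_
    rintro ⟨z, j⟩ hz
    exact Set.mem_biUnion (x := z) ⟨hz, ne_of_gt z.2⟩ ⟨j, rfl⟩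
  refine ⟨⟨isCoh_sigma hloc fun i => coh_css _, fun x hx => ?_⟩, funext fun x => ?_⟩
  · obtain ⟨i, hi⟩ := exists_mem_of_mem_support_sigma M (mem_support.2 hx)
    by_cases e : i.1.1 = x
    · exact le_of_eq (e ▸ hk i)
    · have := (hδ i.1.1 x (specializes_iff_mem_closure.2 (support_css _ hi)) e).1
      have := hk i
      omega
  by_cases hx : δ x = k
  swap
  · rw [Cyc.sheafFun, if_neg hx, hα x hx]
    rfl
  rw [Cyc.sheafFun, if_pos hx]
  show (((len x (∐ M)).toNat : ℕ) : ℤ) = _
  by_cases hpos : 0 < α x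
  swap
  · rw [len_sigma M x ∅ fun i hi => absurd (eq_of_css hδ (hk i) hx hi ▸ i.1.2) hpos]
    simp only [Finset.sum_empty, ENat.toNat_zero, Nat.cast_zero]
    omega
  let f : Fin (α x).toNat → I := fun j => ⟨⟨x, hpos⟩, j⟩
  have hf : Function.Injective f := fun a b e => eq_of_heq (Sigma.mk.inj_iff.1 e).2
  rw [len_sigma M x (Finset.univ.image f) fun i hi => ?_, Finset.sum_image fun a _ b _ e => hf e]
  · simp only [M, f, len_css, Finset.sum_const, Finset.card_univ, Fintype.card_fin, nsmul_eq_mul, mul_one,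
      ENat.toNat_natCast]
    omega
  · obtain ⟨⟨z, hz⟩, j⟩ := i
    obtain rfl : z = x := eq_of_css hδ (hk ⟨⟨z, hz⟩, j⟩) hx hi
    exact Finset.mem_image.2 ⟨j, Finset.mem_univ _, rfl⟩

omit y in
include hδ in
theorem cycleSheafNeg_spec (α : AlgebraicCycle X ℤ) (hα : α ∈ Cyc.Zk X δ k) :
    Cyc.CohLe δ k (Cyc.cycleSheafNeg ⇑α) ∧
      Cyc.sheafFun δ k (Cyc.cycleSheafNeg ⇑α) = fun x => max (-α x) 0 :=
  cycleSheafPos_spec hδ (-α) fun x hx => (neg_eq_zero.2 (hα x hx) : -α x = 0)

end Groth.L22.LatDeg
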