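import Groth.Agent.L22.LatDeg.Local
import Groth.Agent.L22.Cyc.OrdGen
import Groth.Agent.L22.IntMult.SheafFormula
import Groth.Agent.L22.C1.ZeroSection

/-!
The algebraic data of a specialisation of points.
-/

set_option autoImplicit false
set_option linter.style.haveILetI false
set_option maxSynthPendingDepth 3
set_option backward.isDefEq.respectTransparency false
set_option backward.isDefEq.respectTransparency.types false

universe u

open CategoryTheory AlgebraicGeometry IsLocalRing
open Groth.L22.IntMult (ptPrime ptPrime_asIdeal fromSpecStalk_ptPrime eq_ptPrime specializes_fromSpecStalk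
  mem_support_iff_nontrivial)

noncomputable section

namespace Groth.L22.LatDeg

variable {X : Scheme.{u}}

/-- The stalk at a generisation as an algebra. -/
@[reducible] def algSp {x ξ : X} (h : ξ ⤳ x) : Algebra (X.presheaf.stalk x) (X.presheaf.stalk ξ) :=
  (X.presheaf.stalkSpecializes h).hom.toAlgebra

/-- The stalk of a module at a generisation as a module over the stalk. -/
@[reducible] def modSp (F : X.Modules) {x ξ : X} (h : ξ ⤳ x) :
    Module (X.presheaf.stalk x) (F.presheaf.stalk ξ) :=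
  Module.compHom _ (X.presheaf.stalkSpecializes h).hom

theorem towerSp (F : X.Modules) {x ξ : X} (h : ξ ⤳ x) :
    letI := algSp h
    letI := modSp F h
    IsScalarTower (X.presheaf.stalk x) (X.presheaf.stalk ξ) (F.presheaf.stalk ξ) :=
  letI := algSp h
  letI := modSp F h
  .of_algebraMap_smul fun _ _ => rfl

/-- The localisation map of stalks. -/
def spL (F : X.Modules) {x ξ : X} (h : ξ ⤳ x) :
    letI := modSp F h
    F.presheaf.stalk x →ₗ[X.presheaf.stalk x] F.presheaf.stalk ξ :=
  letI := modSp F h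
  { toFun := fun v => F.presheaf.stalkSpecializes h v
    map_add' := map_add _
    map_smul' := fun r v => Groth.L15.SecOrd.stalkSpecializes_smul F h r v }

theorem spL_apply (F : X.Modules) {x ξ : X} (h : ξ ⤳ x) (v : F.presheaf.stalk x) :
    spL F h v = F.presheaf.stalkSpecializes h v := rfl

theorem comap_eq {x ξ : X} (h : ξ ⤳ x) :
    (maximalIdeal (X.presheaf.stalk ξ)).comap (X.presheaf.stalkSpecializes h).hom =
      RingHom.ker (Cyc.specMap x ξ h) := by
  ext a
  rw [Ideal.mem_comap, RingHom.mem_ker, Groth.L22.Cyc.specMap_eq_residue]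
  exact (IsLocalRing.residue_eq_zero_iff _).symm

theorem prime_eq {x ξ : X} (h : ξ ⤳ x) :
    letI := algSp h
    (maximalIdeal (X.presheaf.stalk ξ)).comap (algebraMap (X.presheaf.stalk x) (X.presheaf.stalk ξ)) =
      (ptPrime h).asIdeal := by
  rw [ptPrime_asIdeal]
  exact comap_eq h

theorem isLocalizedModule_sp [IsLocallyNoetherian X] {F : X.Modules} (hF : Coh.IsCoh F) {x ξ : X} (h : ξ ⤳ x) :
    letI := modSp F h
    IsLocalizedModule (ptPrime h).asIdeal.primeCompl (spL F h) := by
  haveI : Coh.IsQCoh F := hF.1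
  obtain ⟨V, hV, hxV, -⟩ := exists_isAffineOpen_mem_and_subset (x := x) (U := ⊤) trivial
  have hzV : ξ ∈ V := h.mem_open V.2 hxV
  letI := algSp h
  letI := modSp F h
  haveI := towerSp F h
  letI := X.presheaf.algebra_section_stalk (⟨x, hxV⟩ : V)
  letI : Algebra Γ(X, V) (X.presheaf.stalk ξ) := X.presheaf.algebra_section_stalk (⟨ξ, hzV⟩ : V)
  haveI : IsScalarTower Γ(X, V) (X.presheaf.stalk x) (X.presheaf.stalk ξ) :=
    IsScalarTower.of_algebraMap_eq' (congrArg CommRingCat.Hom.hom
      (X.presheaf.germ_stalkSpecializes (hy := hxV) h)).symm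
  letI := Groth.L20.ModStalk.stalkModule F hxV
  letI : Module Γ(X, V) (F.presheaf.stalk ξ) := Groth.L20.ModStalk.stalkModule F hzV
  haveI : IsScalarTower Γ(X, V) (X.presheaf.stalk x) (F.presheaf.stalk x) := .of_algebraMap_smul fun _ _ => rfl
  haveI : IsScalarTower Γ(X, V) (X.presheaf.stalk ξ) (F.presheaf.stalk ξ) := .of_algebraMap_smul fun _ _ => rfl
  haveI : IsScalarTower Γ(X, V) (X.presheaf.stalk x) (F.presheaf.stalk ξ) := .of_algebraMap_smul fun r v => by
    show X.presheaf.stalkSpecializes h (X.presheaf.germ V x hxV r) • v = X.presheaf.germ V ξ hzV r • v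
    rw [TopCat.Presheaf.germ_stalkSpecializes_apply]
  haveI := hV.isLocalization_stalk ⟨x, hxV⟩
  haveI : IsLocalization.AtPrime (X.presheaf.stalk ξ) (hV.primeIdealOf ⟨ξ, hzV⟩).asIdeal :=
    hV.isLocalization_stalk ⟨ξ, hzV⟩
  haveI := Groth.L20.ModStalk.isLocalizedModule_germ F hV hxV
  haveI := Groth.L20.ModStalk.isLocalizedModule_germ F hV hzV
  have bx : IsBaseChange (X.presheaf.stalk x) (Groth.L20.ModStalk.germₗ F hxV) :=
    IsLocalizedModule.isBaseChange (hV.primeIdealOf ⟨x, hxV⟩).asIdeal.primeCompl _ _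
  have bz : IsBaseChange (X.presheaf.stalk ξ) (Groth.L20.ModStalk.germₗ F hzV) :=
    IsLocalizedModule.isBaseChange (hV.primeIdealOf ⟨ξ, hzV⟩).asIdeal.primeCompl _ _
  have hsp : IsBaseChange (X.presheaf.stalk ξ) (spL F h) := by
    refine IsBaseChange.of_comp bx ?_
    rw [show (spL F h : F.presheaf.stalk x →ₗ[Γ(X, V)] F.presheaf.stalk ξ) ∘ₗ Groth.L20.ModStalk.germₗ F hxV =
      Groth.L20.ModStalk.germₗ F hzV from LinearMap.ext fun m => TopCat.Presheaf.germ_stalkSpecializes_apply _ hxV h m]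
    exact bz
  haveI : IsLocalization (ptPrime h).asIdeal.primeCompl (X.presheaf.stalk ξ) := by
    haveI : (RingHom.ker (Cyc.specMap x ξ h)).IsPrime := RingHom.ker_isPrime _
    have h1 := Groth.L22.Cyc.isLocalization_stalkSpecializes h
    have hS : (ptPrime h).asIdeal.primeCompl = (RingHom.ker (Cyc.specMap x ξ h)).primeCompl :=
      Submonoid.ext fun a => by
        show a ∉ (ptPrime h).asIdeal ↔ a ∉ RingHom.ker (Cyc.specMap x ξ h)
        rw [ptPrime_asIdeal]
    rw [hS]
    exact h1
  exact (isLocalizedModule_iff_isBaseChange (ptPrime h).asIdeal.primeCompl (X.presheaf.stalk ξ) (spL F h)).2 hsp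

variable [IsLocallyNoetherian X] {δ : X → ℤ}

theorem ptPrime_le_iff {x ξ ζ : X} (h : ξ ⤳ x) (h' : ζ ⤳ x) :
    (ptPrime h).asIdeal ≤ (ptPrime h').asIdeal ↔ ξ ⤳ ζ := by
  rw [show ((ptPrime h).asIdeal ≤ (ptPrime h').asIdeal ↔ _) ↔ _ from Iff.rfl,
    show (ptPrime h).asIdeal ≤ (ptPrime h').asIdeal ↔ ptPrime h ≤ ptPrime h' from Iff.rfl,
    PrimeSpectrum.le_iff_specializes]
  conv_rhs => rw [← fromSpecStalk_ptPrime h, ← fromSpecStalk_ptPrime h']
  exact ((X.fromSpecStalk x).isEmbedding.isInducing.specializes_iff).symm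

theorem adm (hδ : Cyc.IsDimFun X δ) {x ξ : X} (h : ξ ⤳ x) (hd : δ x + 1 = δ ξ) :
    letI := algSp h
    Adm (X.presheaf.stalk x) (X.presheaf.stalk ξ) := by
  letI := algSp h
  refine ⟨inferInstance, inferInstance, ?_, fun p hp hle => ?_⟩
  · haveI : (RingHom.ker (Cyc.specMap x ξ h)).IsPrime := RingHom.ker_isPrime _
    have h1 := Groth.L22.Cyc.isLocalization_stalkSpecializes h
    have hS : ((maximalIdeal (X.presheaf.stalk ξ)).comap
        (algebraMap (X.presheaf.stalk x) (X.presheaf.stalk ξ))).primeCompl =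
        (RingHom.ker (Cyc.specMap x ξ h)).primeCompl := Submonoid.ext fun a => by
      show a ∉ (maximalIdeal (X.presheaf.stalk ξ)).comap (X.presheaf.stalkSpecializes h).hom ↔
        a ∉ RingHom.ker (Cyc.specMap x ξ h)
      rw [comap_eq h]
    show IsLocalization _ _
    rw [hS]
    exact h1
  · obtain ⟨ζ, hζd⟩ : ∃ ζ, X.fromSpecStalk x ⟨p, hp⟩ = ζ := ⟨_, rfl⟩
    have hζ : ζ ⤳ x := hζd ▸ specializes_fromSpecStalk _
    have hpp : p = (ptPrime hζ).asIdeal := congrArg PrimeSpectrum.asIdeal (eq_ptPrime hζd hζ)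
    rw [prime_eq h] at hle ⊢
    subst hpp
    have h1 := (ptPrime_le_iff h hζ).1 hle
    by_cases e : ξ = ζ
    · subst e; exact Or.inl rfl
    · refine Or.inr fun p' hp' => ?_
      have e' : ζ = x := by
        by_contra e'
        have a := (hδ ξ ζ h1 e).1
        have b := (hδ ζ x hζ e').1
        omega
      subst e'
      rw [show ptPrime hζ = closedPoint (X.presheaf.stalk ζ) from
        (X.fromSpecStalk ζ).isEmbedding.injective ((fromSpecStalk_ptPrime hζ).trans Scheme.fromSpecStalk_closedPoint.symm)]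
      exact le_maximalIdeal hp'.ne_top

/-- The order along a specialisation is the order of lattices. -/
theorem ordR_eq_ordAt (hδ : Cyc.IsDimFun X δ) {x ξ : X} (h : ξ ⤳ x) (hd : δ x + 1 = δ ξ) (c : X.residueField ξ)
    (hc : c ≠ 0) :
    letI := algSp h
    ordR (X.presheaf.stalk x) (show ResidueField (X.presheaf.stalk ξ) from c) = Cyc.ordAt x ξ h c := by
  letI := algSp h
  haveI := adm hδ h hd
  obtain ⟨a, b, hb, rfl⟩ := Groth.L22.Cyc.exists_specMap_div_gen x ξ h c
  have ha : Cyc.specMap x ξ h a ≠ 0 := fun e => hc (by rw [e, zero_div])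
  have key : ∀ z : X.presheaf.stalk x, Cyc.specMap x ξ h z ≠ 0 →
      ordR (X.presheaf.stalk x) (show ResidueField (X.presheaf.stalk ξ) from Cyc.specMap x ξ h z) =
        ((Ring.ord (Cyc.LocQuot x ξ h) (Ideal.Quotient.mk _ z)).toNat : ℤ) := fun z hz => by
    have hzq : z ∉ (maximalIdeal (X.presheaf.stalk ξ)).comap
        (algebraMap (X.presheaf.stalk x) (X.presheaf.stalk ξ)) := fun hm => hz ((comap_eq h).le hm)
    rw [show (show ResidueField (X.presheaf.stalk ξ) from Cyc.specMap x ξ h z) =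
      residue (X.presheaf.stalk ξ) (algebraMap (X.presheaf.stalk x) (X.presheaf.stalk ξ) z) from rfl,
      ordR_residue z hzq]
    show ((qlen _ _).toNat : ℤ) = _
    congr 2
    let R := X.presheaf.stalk x
    let g : R →ₗ[R] Cyc.LocQuot x ξ h ⧸ Ideal.span {(Ideal.Quotient.mk (RingHom.ker (Cyc.specMap x ξ h)) z : Cyc.LocQuot x ξ h)} :=
      ((Ideal.Quotient.mkₐ R _).toLinearMap).comp (Ideal.Quotient.mkₐ R (RingHom.ker (Cyc.specMap x ξ h))).toLinearMap
    let f : R →ₗ[R] ↥(one (R := R) (X.presheaf.stalk ξ)) :=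
      (LinearMap.toSpanSingleton R (ResidueField (X.presheaf.stalk ξ)) 1).codRestrict _
        fun r => Submodule.mem_span_singleton.2 ⟨r, rfl⟩
    let S := (Submodule.span R {residue (X.presheaf.stalk ξ) (algebraMap R (X.presheaf.stalk ξ) z)}).submoduleOf
      (one (R := R) (X.presheaf.stalk ξ))
    have hf : Function.Surjective (S.mkQ.comp f) := (Submodule.mkQ_surjective _).comp fun w => by
      obtain ⟨r, hr⟩ := Submodule.mem_span_singleton.1 w.2
      exact ⟨r, Subtype.ext hr⟩
    have hg : Function.Surjective g := (Ideal.Quotient.mkₐ_surjective R _).comp (Ideal.Quotient.mkₐ_surjective R _)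
    have hk : LinearMap.ker (S.mkQ.comp f) = LinearMap.ker g := by
      ext r
      rw [LinearMap.mem_ker, LinearMap.mem_ker]
      show Submodule.Quotient.mk (f r) = 0 ↔ Ideal.Quotient.mk _ (Ideal.Quotient.mk _ r) = 0
      rw [Submodule.Quotient.mk_eq_zero, Ideal.Quotient.eq_zero_iff_mem, Ideal.mem_span_singleton']
      show r • (1 : ResidueField (X.presheaf.stalk ξ)) ∈ Submodule.span R {_} ↔ _
      rw [Submodule.mem_span_singleton, Algebra.smul_def, mul_one]
      constructor
      · rintro ⟨s, hs⟩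
        refine ⟨Ideal.Quotient.mk _ s, ?_⟩
        rw [← map_mul, Ideal.Quotient.eq, RingHom.mem_ker, map_sub, map_mul, sub_eq_zero]
        rw [Algebra.smul_def] at hs
        exact hs
      · rintro ⟨s, hs⟩
        obtain ⟨s, rfl⟩ := Ideal.Quotient.mk_surjective s
        rw [← map_mul, Ideal.Quotient.eq, RingHom.mem_ker, map_sub, map_mul, sub_eq_zero] at hs
        refine ⟨s, ?_⟩
        rw [Algebra.smul_def]
        exact hs
    have e1 := ((Submodule.quotEquivOfEq _ _ hk).symm.trans ((S.mkQ.comp f).quotKerEquivOfSurjective hf)).length_eq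
    have e2 := (g.quotKerEquivOfSurjective hg).length_eq
    rw [qlen, ← e1, e2, Ring.ord]
    exact Module.length_eq_of_surjective (Ideal.Quotient.mk_surjective)
  rw [Groth.L22.Cyc.ordAt_div_gen hδ x ξ h hd ha hb, ← key a ha, ← key b hb, eq_sub_iff_add_eq,
    ← ordR_mul (show (show ResidueField (X.presheaf.stalk ξ) from
      Cyc.specMap x ξ h a / Cyc.specMap x ξ h b) ≠ 0 from div_ne_zero ha hb) hb]
  congr 1
  exact div_mul_cancel₀ _ hb

end Groth.L22.LatDeg
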