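import Groth.Agent.L22.LatDeg.RatK0
import Groth.Agent.L22.C1.Tensor
import Groth.Agent.L22.C1.Family

/-!
The class of a twist by an invertible module.
-/

set_option autoImplicit false
set_option linter.style.haveILetI false
set_option maxSynthPendingDepth 3
set_option backward.isDefEq.respectTransparency false
set_option backward.isDefEq.respectTransparency.types false

universe u

open CategoryTheory AlgebraicGeometry IsLocalRing TensorProduct
open Groth.L22.C1 (IsGen tp mk)
open Groth.L00.StalkTensor (St)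
open Groth.L00.Tensor (pre)

noncomputable section

namespace Groth.L22.LatDeg

section Algebra

theorem Ser.length_eq_depth {K : Type u} [CommRing K] [IsLocalRing K] {V : Type u} [AddCommGroup V] [Module K V]
    {U : Submodule K V} : (s : Ser K V U) → Module.length K U = s.depth
  | .nil => Module.length_bot
  | .cons (U' := U') (U := U) s π hsurj hker hle => by
    show Module.length K U = ((s.depth + 1 : ℕ) : ℕ∞)
    rw [Module.length_eq_add_of_exact (Submodule.inclusion hle) π (Submodule.inclusion_injective hle) hsurj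
      (fun u => ⟨fun h => ⟨⟨u.1, (hker u).1 h⟩, rfl⟩, fun ⟨v, hv⟩ => (hker u).2 (hv ▸ v.2)⟩),
      s.length_eq_depth, Groth.L16.Devissage.length_residueField]
    push_cast
    rfl

variable {R : Type u} [CommRing R] {G : Type u} [Fintype G] {K : G → Type u} [∀ i, CommRing (K i)]
  [∀ i, IsLocalRing (K i)] [∀ i, Algebra R (K i)] {V : G → Type u} [∀ i, AddCommGroup (V i)]
  [∀ i, Module (K i) (V i)] [∀ i, Module R (V i)] [∀ i, IsScalarTower R (K i) (V i)]
  {W : G → Type u} [∀ i, AddCommGroup (W i)] [∀ i, Module (K i) (W i)] [∀ i, Module R (W i)]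
  [∀ i, IsScalarTower R (K i) (W i)] {M N : Type u} [AddCommGroup M] [Module R M] [AddCommGroup N] [Module R N]

/-- Transport of the degree along a twisted isomorphism. -/
theorem locDeg_twist [∀ i, Adm R (K i)] {ιM : ∀ i, M →ₗ[R] V i} {ιN : ∀ i, N →ₗ[R] W i}
    (hM : IsGenData ιM K) (f : M ≃ₗ[R] N) (e : ∀ i, V i ≃ₗ[K i] W i) (a : ∀ i, K i) (ha : ∀ i, IsUnit (a i))
    (hcomp : ∀ i m, ιN i (f m) = a i • e i (ιM i m)) (s : ∀ i, Ser (K i) (V i) ⊤) :
    locDeg ιN (fun i => (Submodule.map_top (e i).toLinearMap).trans (LinearEquiv.range (e i)) ▸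
        (s i).map (e i).toLinearMap (e i).injective) =
      locDeg ιM s - ∑ i, ((s i).depth : ℤ) * ordR R (residue (K i) (a i)) := by
  classical
  let u : ∀ i, V i →ₗ[R] W i := fun i =>
    (((e i).toLinearMap.comp (LinearMap.lsmul (K i) (V i) (a i)))).restrictScalars R
  have hu : ∀ i, Function.Injective (u i) := fun i v w h => (ha i).smul_left_cancel.1 ((e i).injective h)
  have hui : ∀ i m, ιN i (f m) = u i (ιM i m) := fun i m => (hcomp i m).trans ((e i).map_smul _ _).symm
  let U : (∀ i, V i) →ₗ[R] ∀ i, W i := LinearMap.pi fun i => (u i).comp (LinearMap.proj i)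
  have hU : Function.Injective U := fun v w h => funext fun i => hu i (congrFun h i)
  have hk : LinearMap.ker (allGen ιN) = (LinearMap.ker (allGen ιM)).map f.toLinearMap := by
    ext n
    obtain ⟨m, rfl⟩ := f.surjective n
    constructor
    · intro h
      exact ⟨m, hU ((funext fun i => (hui i m).symm).trans ((LinearMap.mem_ker.1 h).trans (map_zero U).symm)), rfl⟩
    · rintro ⟨m', hm', e'⟩
      obtain rfl : m' = m := f.injective e'
      refine LinearMap.mem_ker.2 (funext fun i => (hui i m').trans ?_)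
      rw [show ιM i m' = 0 from congrFun (LinearMap.mem_ker.1 hm') i, map_zero]
      rfl
  have hrg : ∀ i, LinearMap.range (ιN i) = (LinearMap.range (ιM i)).map (u i) := fun i => by
    refine le_antisymm ?_ ?_
    · rintro _ ⟨n, rfl⟩
      obtain ⟨m, rfl⟩ := f.surjective n
      exact ⟨ιM i m, ⟨m, rfl⟩, (hui i m).symm⟩
    · rintro _ ⟨_, ⟨m, rfl⟩, rfl⟩
      exact ⟨f m, hui i m⟩
  have hr : LinearMap.range (allGen ιN) = (LinearMap.range (allGen ιM)).map U := by
    refine le_antisymm ?_ ?_
    · rintro _ ⟨n, rfl⟩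
      obtain ⟨m, rfl⟩ := f.surjective n
      exact ⟨allGen ιM m, ⟨m, rfl⟩, (funext fun i => hui i m).symm⟩
    · rintro _ ⟨_, ⟨m, rfl⟩, rfl⟩
      exact ⟨f m, funext fun i => hui i m⟩
  have hi : images ιN = (images ιM).map U := by
    refine le_antisymm (fun w hw => ?_) ?_
    · choose v hv e' using fun i => (hrg i).le (hw i trivial)
      exact ⟨v, fun i _ => hv i, funext e'⟩
    · rintro _ ⟨v, hv, rfl⟩ i _
      exact (hrg i).ge ⟨v i, hv i trivial, rfl⟩
  have hchi : chi ιN = chi ιM := by
    simp only [chi, hk, hr, hi, rlen]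
    rw [qlen_map U hU]
    conv_lhs => rw [← Submodule.map_bot f.toLinearMap, qlen_map f.toLinearMap f.injective]
  rw [locDeg, locDeg, hchi, add_sub_assoc, ← Finset.sum_sub_distrib]
  congr 1
  refine Finset.sum_congr rfl fun i _ => ?_
  rw [lam_cast, Ser.lam_map, ← Ser.lam_smul (a i) (ha i) (s i) (isLat_range hM i)]
  congr 1
  rw [hrg, show u i = ((e i).toLinearMap.restrictScalars R).comp
    ((LinearMap.lsmul (K i) (V i) (a i)).restrictScalars R) from rfl, Submodule.map_comp,
    Submodule.comap_map_eq_of_injective (f := (e i).toLinearMap.restrictScalars R) (e i).injective]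
  exact inf_eq_left.2 fun v _ => trivial

end Algebra

variable {X : Scheme.{u}}

/-- Twisting a stalk by a generator. -/
def twistStalk (F : X.Modules) {L : X.Modules} (hL : PicF.IsInvertible L) {x : X} {t : L.presheaf.stalk x}
    (ht : IsGen L t) :
    F.presheaf.stalk x ≃ₗ[X.presheaf.stalk x] (CohB1.tensorMod F L).presheaf.stalk x :=
  LinearEquiv.ofBijective
    { toFun := fun v => tp F L v t
      map_add' := fun v w => by
        show Groth.L00.Stk.τfun x F L ((v + w : St (pre F) x) ⊗ₜ _) = _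
        rw [TensorProduct.add_tmul, map_add]
        rfl
      map_smul' := fun r v => by
        rw [RingHom.id_apply]
        conv_lhs => rw [← one_smul (X.presheaf.stalk x) t, C1.tp_smul, mul_one] }
    (by
      let e := LinearEquiv.ofBijective (LinearMap.toSpanSingleton (Groth.L00.StalkTensor.Ox X x) (St (pre L) x) t)
        ⟨ht.injective hL, fun v => ht.exists_smul v⟩
      let E := ((TensorProduct.rid (Groth.L00.StalkTensor.Ox X x) (St (pre F) x)).symm.trans
        (TensorProduct.congr (LinearEquiv.refl _ _) e))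
      have he : e 1 = t := one_smul (Groth.L00.StalkTensor.Ox X x) (t : St (pre L) x)
      have hE : ∀ v, E v = v ⊗ₜ t := fun v => by
        show TensorProduct.congr _ e ((TensorProduct.rid _ _).symm v) = _
        rw [TensorProduct.rid_symm_apply, TensorProduct.congr_tmul, he]
        rfl
      exact (congrArg Function.Bijective (funext fun v => congrArg (Groth.L00.Stk.τfun x F L) (hE v))).mp
        ((Groth.L00.Stk.τfun_bijective x F L).comp E.bijective))

theorem twistStalk_apply (F : X.Modules) {L : X.Modules} (hL : PicF.IsInvertible L) {x : X}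
    {t : L.presheaf.stalk x} (ht : IsGen L t) (v : F.presheaf.stalk x) :
    twistStalk F hL ht v = tp F L v t := rfl

variable [IsLocallyNoetherian X] {δ : X → ℤ} (hδ : Cyc.IsDimFun X δ) {k : ℤ}

theorem cohLe_tensor {F L : X.Modules} {a : ℤ} (hL : PicF.IsInvertible L) (hF : Cyc.CohLe δ a F) :
    Cyc.CohLe δ a (CohB1.tensorMod F L) :=
  ⟨Groth.L03.Euler.isCoh_tensor hL hF.1, fun x hx =>
    hF.2 x (mem_support.1 ((Groth.L03.Euler.support_tensor hL F).le (mem_support.2 hx)))⟩

include hδ in
/-- The class of the twist. -/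
theorem Λ_tensor {L : X.Modules} (hL : PicF.IsInvertible L) {F : X.Modules} (hF : Cyc.CohLe δ (k + 1) F)
    (σ : (ξ : X) → Cyc.secFibre L ξ) (hσ : ∀ ξ, σ ξ ≠ 0) :
    Λ (k := k) hδ (CohB1.tensorMod F L) =
      Λ (k := k) hδ F + QuotientAddGroup.mk (Cyc.c1CapFun δ L (Cyc.sheafFun δ (k + 1) F) σ) := by
  classical
  choose t ht using fun ξ => Submodule.Quotient.mk_surjective _ (σ ξ)
  have htg : ∀ ξ, IsGen L (t ξ) := fun ξ => C1.isGen_of_mk_ne_zero hL fun h => hσ ξ ((ht ξ).symm.trans h)
  let T := topSet δ k F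
  have hT : Tops δ k T := tops_topSet hδ hF
  have hc : Covers δ k T (CohB1.tensorMod F L) := fun ξ hξ hnt =>
    ⟨hξ, mem_support.1 ((Groth.L03.Euler.support_tensor hL F).le (mem_support.2 hnt))⟩
  obtain ⟨s⟩ := exists_choice hδ hT hF.1 hF.2
  let s' : Choice (CohB1.tensorMod F L) T := fun ξ hξ =>
    (Submodule.map_top (twistStalk F hL (htg ξ)).toLinearMap).trans (LinearEquiv.range _) ▸
      (s ξ hξ).map (twistStalk F hL (htg ξ)).toLinearMap (twistStalk F hL (htg ξ)).injective
  rw [Λ_eq hδ (cohLe_tensor hL hF) hT hc s', Λ_eq hδ hF hT (fun ξ a b => ⟨a, b⟩) s, ← QuotientAddGroup.mk_add]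
  congr 1
  funext x
  rw [Pi.add_apply]
  by_cases hx : δ x = k
  swap
  · simp only [clsAt, if_neg hx, zero_add]
    refine (finsum_eq_zero_of_forall_eq_zero fun ξ => ?_).symm
    by_contra h0
    obtain ⟨h1, h2⟩ := mul_ne_zero_iff.1 h0
    obtain ⟨h3, -⟩ := IntMult.sheafFun_ne_zero h1
    unfold Cyc.secDivFun at h2
    split_ifs at h2 with h
    · omega
    · exact h2 rfl
  haveI := hT.finite_gens x
  letI : Fintype (Gens T x) := Fintype.ofFinite _
  letI : ∀ g : Gens T x, Algebra (X.presheaf.stalk x) (X.presheaf.stalk g.1) := fun g => algSp g.2.2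
  letI : ∀ g : Gens T x, Module (X.presheaf.stalk x) (F.presheaf.stalk g.1) := fun g => modSp F g.2.2
  haveI : ∀ g : Gens T x, IsScalarTower (X.presheaf.stalk x) (X.presheaf.stalk g.1) (F.presheaf.stalk g.1) :=
    fun g => towerSp F g.2.2
  letI : ∀ g : Gens T x, Module (X.presheaf.stalk x) ((CohB1.tensorMod F L).presheaf.stalk g.1) :=
    fun g => modSp _ g.2.2
  haveI : ∀ g : Gens T x, IsScalarTower (X.presheaf.stalk x) (X.presheaf.stalk g.1)
      ((CohB1.tensorMod F L).presheaf.stalk g.1) := fun g => towerSp _ g.2.2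
  haveI : ∀ g : Gens T x, Adm (X.presheaf.stalk x) (X.presheaf.stalk g.1) :=
    fun g => adm hδ g.2.2 (by rw [hx, hT.dim _ g.2.1])
  obtain ⟨tx, htx⟩ := C1.exists_isGen hL x
  choose a ha hat using fun g : Gens T x => (htg g.1).exists_unit hL (htx.specializes hL g.2.2)
  simp only [clsAt, if_pos hx]
  have key := locDeg_twist (K := fun g : Gens T x => X.presheaf.stalk g.1)
    (ιM := fun g : Gens T x => spL F g.2.2) (ιN := fun g : Gens T x => spL (CohB1.tensorMod F L) g.2.2)
    (isGenData hδ hT hF.1 hF.2 (fun ξ a b => ⟨a, b⟩) hx) (twistStalk F hL htx)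
    (fun g => twistStalk F hL (htg g.1)) a ha (fun g m => by
      rw [twistStalk_apply, twistStalk_apply, spL_apply, C1.tp_specializes, ← hat g]
      conv_lhs => rw [← one_smul (X.presheaf.stalk g.1) (F.presheaf.stalkSpecializes g.2.2 m), C1.tp_smul, one_mul]
      rfl) (fun g => s g.1 g.2.1)
  refine key.trans ?_
  rw [sub_eq_add_neg, ← Finset.sum_neg_distrib]
  congr 1
  let φ : Gens T x → X := fun g => g.1
  rw [Cyc.c1CapFun, finsum_eq_sum_of_support_subset (s := Finset.univ.image φ) _ fun ξ hξ => ?_,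
    Finset.sum_image fun g _ g' _ e => Subtype.ext e]
  · refine Finset.sum_congr rfl fun g _ => ?_
    have hd1 : δ x + 1 = δ g.1 := by rw [hx, hT.dim _ g.2.1]
    obtain ⟨a', ha'⟩ := ha g
    have hσ' : σ g.1 = (↑a'⁻¹ : X.presheaf.stalk g.1) • mk L (L.presheaf.stalkSpecializes g.2.2 tx) := by
      rw [← ht, ← hat g, ← ha', ← Submodule.Quotient.mk_smul, smul_smul, Units.inv_mul, one_smul]
    rw [Cyc.sheafFun, if_pos (hT.dim _ g.2.1), Cyc.secDivFun, dif_pos ⟨g.2.2, hd1⟩, hσ',
      C1.secOrdAt_gen hδ hL g.2.2 hd1 htx]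
    have hd : (((Module.length (X.presheaf.stalk g.1) (F.presheaf.stalk g.1)).toNat : ℕ) : ℤ) =
        ((s g.1 g.2.1).depth : ℤ) := by
      rw [← Submodule.topEquiv.length_eq, Ser.length_eq_depth (s g.1 g.2.1), ENat.toNat_natCast]
    have hne : ∀ u : (X.presheaf.stalk g.1)ˣ, residue (X.presheaf.stalk g.1) (u : X.presheaf.stalk g.1) ≠ 0 :=
      fun u => (Groth.L22.Cyc.isUnit_iff_residue_ne_zero g.1 _).1 u.isUnit
    have h1 : ordR (X.presheaf.stalk x) (residue (X.presheaf.stalk g.1) (↑a'⁻¹ : X.presheaf.stalk g.1)) +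
        ordR (X.presheaf.stalk x) (residue (X.presheaf.stalk g.1) (↑a' : X.presheaf.stalk g.1)) = 0 := by
      rw [← ordR_mul (hne _) (hne _), ← map_mul, Units.inv_mul, map_one, ordR_one]
    rw [hd, ← ha', show Cyc.ordAt x g.1 g.2.2 (X.residue g.1 (↑a'⁻¹ : X.presheaf.stalk g.1)) =
      ordR (X.presheaf.stalk x) (residue (X.presheaf.stalk g.1) (↑a'⁻¹ : X.presheaf.stalk g.1)) from
      (ordR_eq_ordAt hδ g.2.2 hd1 _ (hne a'⁻¹)).symm]
    linear_combination -((s g.1 g.2.1).depth : ℤ) * h1
  · rw [Function.mem_support] at hξ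
    obtain ⟨h1, h2⟩ := mul_ne_zero_iff.1 hξ
    obtain ⟨h3, h4⟩ := IntMult.sheafFun_ne_zero h1
    unfold Cyc.secDivFun at h2
    split_ifs at h2 with h
    · exact Finset.mem_coe.2 (Finset.mem_image.2 ⟨⟨ξ, ⟨h3, h4⟩, h.1⟩, Finset.mem_univ _, rfl⟩)
    · exact absurd rfl h2

end Groth.L22.LatDeg
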