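import Groth.Agent.L22.LatDeg.Twist

/-!
The twist in `K₀` is the first Chern class cap.
-/

set_option autoImplicit false
set_option linter.style.haveILetI false
set_option backward.isDefEq.respectTransparency false
set_option backward.isDefEq.respectTransparency.types false

universe u

open CategoryTheory CategoryTheory.Limits AlgebraicGeometry

noncomputable section

namespace Groth.L22.LatDeg

variable {X : Scheme.{u}} [IsLocallyNoetherian X] {δ : X → ℤ} (hδ : Cyc.IsDimFun X δ) {k : ℤ}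

include hδ in
/-- Classes with the same `(k + 1)`-cycle differ by a class from dimension `k`. -/
theorem sub_mem_range_incK {A B : X.Modules} (hA : Cyc.CohLe δ (k + 1) A) (hB : Cyc.CohLe δ (k + 1) B)
    (h : Cyc.sheafFun δ (k + 1) A = Cyc.sheafFun δ (k + 1) B) :
    Cyc.toK0CohQuot δ (k + 1) (k - 1) A - Cyc.toK0CohQuot δ (k + 1) (k - 1) B ∈ (incK δ k).range := by
  have e : Cyc.toK0CohQuot δ (k + 1) (k + 1 - 1) A - Cyc.toK0CohQuot δ (k + 1) (k + 1 - 1) B = 0 := by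
    apply Φ_injective hδ (k := k + 1)
    rw [map_sub, Φ_cl hδ hA, Φ_cl hδ hB, h, sub_self, map_zero]
  rw [Cyc.toK0CohQuot, Cyc.toK0CohQuot, ← QuotientAddGroup.mk_sub, QuotientAddGroup.eq_zero_iff] at e
  rw [Cyc.toK0CohQuot, Cyc.toK0CohQuot, ← QuotientAddGroup.mk_sub]
  refine (?_ : _ ≤ (incK δ k).range.comap (QuotientAddGroup.mk' _)) e
  rw [AddSubgroup.closure_le]
  rintro _ ⟨F, hF, rfl⟩
  have hF' : Cyc.CohLe δ k F := cohLe_mono (by omega) hF
  exact ⟨_, (incK_cl hF').trans rfl⟩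

include hδ in
theorem toK0_tensor_sub {L : X.Modules} (hL : PicF.IsInvertible L) {F : X.Modules} (hF : Cyc.CohLe δ (k + 1) F)
    (s : (ξ : X) → Cyc.secFibre L ξ) (hs : ∀ ξ, s ξ ≠ 0) (γ : AlgebraicCycle X ℤ) (hγk : γ ∈ Cyc.Zk X δ k)
    (hγ : ⇑γ = Cyc.c1CapFun δ L (Cyc.sheafFun δ (k + 1) F) s) :
    Cyc.toK0CohQuot δ (k + 1) (k - 1) (CohB1.tensorMod F L) - Cyc.toK0CohQuot δ (k + 1) (k - 1) F =
      Cyc.toK0CohQuot δ (k + 1) (k - 1) (Cyc.cycleSheafPos ⇑γ) -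
        Cyc.toK0CohQuot δ (k + 1) (k - 1) (Cyc.cycleSheafNeg ⇑γ) := by
  have hFL := cohLe_tensor hL hF
  have hfun : Cyc.sheafFun δ (k + 1) (CohB1.tensorMod F L) = Cyc.sheafFun δ (k + 1) F := funext fun x => by
    simp only [Cyc.sheafFun]
    split_ifs
    · rw [show Module.length (X.presheaf.stalk x) ((CohB1.tensorMod F L).presheaf.stalk x) =
        Module.length (X.presheaf.stalk x) (F.presheaf.stalk x) from Groth.L03.Euler.len_tensor hL F x]
    · rfl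
  obtain ⟨y, hy⟩ := sub_mem_range_incK hδ hFL hF hfun
  obtain ⟨P, N, hP, hN, rfl⟩ := exists_eq_sub y
  rw [map_sub, incK_cl hP, incK_cl hN] at hy
  have e := congrArg (ψ hδ k) hy
  rw [map_sub, map_sub, ψ_cl, ψ_cl, ψ_cl, ψ_cl, Λ_tensor hδ hL hF s hs, Λ_of_le hδ hP, Λ_of_le hδ hN,
    add_sub_cancel_left, ← hγ, ← QuotientAddGroup.mk_sub, QuotientAddGroup.eq, mem_ratG] at e
  obtain ⟨α, hα⟩ := P1Rat.exists_cycle_sheafFun hδ hP.1 k hP.2
  obtain ⟨β, hβ⟩ := P1Rat.exists_cycle_sheafFun hδ hN.1 k hN.2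
  let ζ : AlgebraicCycle X ℤ := γ - (α - β)
  have hζk : ζ ∈ Cyc.Zk X δ k := fun x hx => by
    show γ x - (α x - β x) = 0
    rw [hγk x hx, hα, hβ, Cyc.sheafFun, Cyc.sheafFun, if_neg hx, if_neg hx]
    simp
  have hζ0 : Cyc.RatEquivZero δ k ζ := e.ratEquivZero ζ (by
    funext x
    show γ x - (α x - β x) = _
    rw [hα, hβ]
    simp only [Pi.add_apply, Pi.neg_apply, Pi.sub_apply]
    ring)
  obtain ⟨hgp, egp⟩ := cycleSheafPos_spec hδ γ hγk
  obtain ⟨hgn, egn⟩ := cycleSheafNeg_spec hδ γ hγk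
  obtain ⟨hzp, ezp⟩ := cycleSheafPos_spec hδ ζ hζk
  obtain ⟨hzn, ezn⟩ := cycleSheafNeg_spec hδ ζ hζk
  have h2 := toK0_sub_eq hδ (cohLe_biprod hgp hN) (cohLe_biprod hgn hP) hzp hzn (by
    rw [← Φ_cl hδ (cohLe_biprod hgp hN), ← Φ_cl hδ (cohLe_biprod hgn hP), toK0_biprod hgp hN, toK0_biprod hgn hP,
      map_add, map_add, Φ_cl hδ hgp, Φ_cl hδ hN, Φ_cl hδ hgn, Φ_cl hδ hP, egp, egn, ezp, ezn]
    funext x
    show max (γ x) 0 + _ - (max (-γ x) 0 + _) = max (γ x - (α x - β x)) 0 - max (-(γ x - (α x - β x))) 0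
    rw [hα, hβ]
    omega)
  rw [toK0_pos_eq_neg_of_rat hδ ζ hζk hζ0, sub_self,
    toK0_biprod (cohLe_mono (a := k) (b := k + 1) (by omega) hgp) (cohLe_mono (a := k) (by omega) hN),
    toK0_biprod (cohLe_mono (a := k) (b := k + 1) (by omega) hgn) (cohLe_mono (a := k) (by omega) hP)] at h2
  rw [← hy, eq_comm, ← sub_eq_zero]
  refine Eq.trans ?_ h2
  abel

end Groth.L22.LatDeg
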